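import Cfsg.Agent.Lib.McLThree.Nz
import Cfsg.Agent.Lib.A8Three.Main
import Cfsg.Agent.Lib.Solvable.Fitting
import Cfsg.Agent.S3334
import Cfsg.Prelude.Def_SporadicB

/-!
When the centraliser of `Z` is `L`, the centraliser of the involution is the double cover of `A₈`
and the group is McLaughlin's group.
-/

set_option autoImplicit false
set_option maxRecDepth 20000
set_option maxHeartbeats 1000000
set_option synthInstance.maxSize 4000
set_option synthInstance.maxHeartbeats 400000
set_option linter.style.haveILetI false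
set_option linter.unusedSectionVars false

namespace Cfsg.Agent.McLThree

open Subgroup

namespace Conf.Pair.Point

variable {G : Type*} [Group G] [Finite G] {C : Conf G} {P : C.Pair} (O : P.Point)
include O

/-- The centraliser of the involution is a non-split double cover of `A₈`. -/
theorem cover (hCZ : C.CZ ≤ C.L) :
    Cfsg.IsNonsplitDoubleCover (centralizer ({C.t} : Set G)) (alternatingGroup (Fin 8)) ∧
      ¬ 27 ∣ Nat.card (centralizer ({C.t} : Set G)) := by
  classical
  haveI : Fact (Nat.Prime 3) := ⟨Nat.prime_three⟩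
  set Ct := centralizer ({C.t} : Set G) with hCt
  have memCt : ∀ {x : G}, x ∈ Ct ↔ x * C.t = C.t * x := fun {x} => mem_centralizer_singleton_iff
  set T := (zpowers C.t).subgroupOf Ct with hT
  haveI hTn : T.Normal := ⟨fun n hn g => by
    refine mem_subgroupOf.2 ?_
    obtain ⟨i, hi⟩ := mem_zpowers_iff.1 (mem_subgroupOf.1 hn)
    show (g : G) * (n : G) * (g : G)⁻¹ ∈ zpowers C.t
    rw [← hi, ((show Commute (g : G) C.t from memCt.1 g.2).zpow_right i).eq, mul_inv_cancel_right]
    exact zpow_mem (mem_zpowers _) _⟩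
  set q := QuotientGroup.mk' T with hq
  have hqs : Function.Surjective q := QuotientGroup.mk'_surjective T
  have htpow : ∀ x : G, x ∈ zpowers C.t ↔ x = 1 ∨ x = C.t := by
    intro x
    constructor
    · intro hx
      obtain ⟨i, rfl⟩ := mem_zpowers_iff.1 hx
      rcases Int.even_or_odd' i with ⟨k, rfl | rfl⟩
      · left; rw [zpow_mul, zpow_two, C.tt, one_zpow]
      · right; rw [zpow_add, zpow_mul, zpow_two, C.tt, one_zpow, one_mul, zpow_one]
    · rintro (rfl | rfl)
      · exact one_mem _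
      · exact mem_zpowers _
  have hqeq : ∀ {a b : Ct}, q a = q b ↔ (a : G)⁻¹ * b = 1 ∨ (a : G)⁻¹ * b = C.t := by
    intro a b
    rw [hq, QuotientGroup.mk'_apply, QuotientGroup.mk'_apply, QuotientGroup.eq, hT, mem_subgroupOf, htpow]
    rfl
  have hTcard : Nat.card T = 2 := by
    rw [hT, Nat.card_congr (subgroupOfEquivOfLe (zpowers_le.2 (memCt.2 rfl))).toEquiv, Nat.card_zpowers]
    exact orderOf_eq_prime (by rw [pow_two, C.tt]) C.t_ne
  have hcomap : ∀ H : Subgroup (Ct ⧸ T), Nat.card (H.comap q) = 2 * Nat.card H := by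
    intro H
    have h1 := (H.comap q).card_mul_index
    rw [index_comap_of_surjective H hqs, card_eq_card_quotient_mul_card_subgroup T, hTcard, ← H.card_mul_index] at h1
    refine Nat.eq_of_mul_eq_mul_right (Nat.pos_of_ne_zero (index_ne_zero_of_finite (H := H))) ?_
    linarith
  have hord : ∀ {x d : G}, x * C.t = C.t * x → x ^ 3 = 1 → d ^ 3 = 1 → (x⁻¹ * d = C.t) → x * d = d * x → False := by
    intro x d hxt hx3 hd3 e hxd
    have h : (x⁻¹ * d) ^ 3 = 1 := by
      rw [(show Commute x d from hxd).inv_left.mul_pow, inv_pow, hx3, hd3, inv_one, one_mul]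
    rw [e, pow_succ, pow_two, C.tt, one_mul] at h
    exact C.t_ne h
  -- the elementary abelian group
  have hDC : P.D ≤ Ct := fun x hx => memCt.2 hx.2
  set D' := (P.D.subgroupOf Ct).map q with hD'
  have hDcomm : ∀ a ∈ P.D, ∀ b ∈ P.D, a * b = b * a := fun a ha b hb => C.J_comm a ha.1 b hb.1
  have hDcard : Nat.card D' = 9 := by
    rw [hD']
    have hinj : ∀ a ∈ P.D.subgroupOf Ct, q a = 1 → a = 1 := by
      intro a ha h
      rw [← map_one q, eq_comm, hqeq] at h
      rcases h with h | h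
      · exact Subtype.ext (by simpa using h)
      · exfalso
        exact hord (x := 1) (d := a) (by simp) (one_pow 3) (C.J_exp _ (mem_subgroupOf.1 ha).1) h (by simp)
    rw [← P.card_D, ← Nat.card_congr (subgroupOfEquivOfLe hDC).toEquiv]
    refine (Nat.card_eq_of_bijective (fun a : P.D.subgroupOf Ct => (⟨q a, mem_map_of_mem q a.2⟩ : D'))
      ⟨fun a b h => ?_, fun x => ?_⟩).symm
    · have h' : q (a : Ct) = q b := congrArg Subtype.val h
      have h2 := hinj ((a : Ct)⁻¹ * b) (mul_mem (inv_mem a.2) b.2) (by rw [map_mul, map_inv, h', inv_mul_cancel])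
      exact Subtype.ext (inv_mul_eq_one.1 h2)
    · obtain ⟨a, ha, e⟩ := x.2
      exact ⟨⟨a, ha⟩, Subtype.ext e⟩
  have hzC : P.z ∈ Ct := memCt.2 P.z_t
  have hyC : P.y ∈ Ct := memCt.2 P.y_t
  set zb := q ⟨P.z, hzC⟩ with hzb
  set yb := q ⟨P.y, hyC⟩ with hyb
  have hgen : closure {yb, zb} = D' := by
    refine le_antisymm ((closure_le _).2 ?_) ?_
    · rintro _ (rfl | rfl)
      · exact mem_map_of_mem q (mem_subgroupOf.2 ⟨P.y_J, P.y_t⟩)
      · exact mem_map_of_mem q (mem_subgroupOf.2 P.z_D)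
    · rintro _ ⟨a, ha, rfl⟩
      obtain ⟨i, k, hik⟩ := P.D_cases' (mem_subgroupOf.1 ha)
      have e : a = ⟨P.z, hzC⟩ ^ (i : ℕ) * ((⟨P.z, hzC⟩ : Ct)⁻¹ * ⟨P.y, hyC⟩) ^ (k : ℕ) := by
        refine Subtype.ext ?_
        rw [hik]
        simp [y]
      rw [e, map_mul, map_pow, map_pow, map_mul, map_inv]
      exact mul_mem (pow_mem (subset_closure (by simp [hzb])) _)
        (pow_mem (mul_mem (inv_mem (subset_closure (by simp [hzb]))) (subset_closure (by simp [hyb]))) _)
  have hcommD : IsMulCommutative D' := ⟨⟨fun a b => Subtype.ext (by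
    obtain ⟨a', ha', e⟩ := a.2
    obtain ⟨b', hb', e'⟩ := b.2
    show (a : Ct ⧸ T) * b = b * a
    rw [← e, ← e', ← map_mul, ← map_mul]
    exact congrArg q (Subtype.ext (hDcomm _ (mem_subgroupOf.1 ha') _ (mem_subgroupOf.1 hb'))))⟩⟩
  have hexp : ∀ a ∈ D', a ^ 3 = 1 := by
    rintro _ ⟨a, ha, rfl⟩
    rw [← map_pow, show a ^ 3 = 1 from Subtype.ext (C.J_exp _ (mem_subgroupOf.1 ha).1), map_one]
  -- the normaliser of `D`
  have hN : (normalizer (D' : Set (Ct ⧸ T))).comap q = P.ND.subgroupOf Ct := by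
    ext x
    rw [mem_comap, mem_subgroupOf, P.mem_ND]
    constructor
    · intro h
      refine ⟨memCt.1 x.2, C.norm_of_le fun d hd => ?_⟩
      obtain ⟨a, ha, e⟩ := (mem_normalizer_iff.1 h _).1 (mem_map_of_mem q (mem_subgroupOf.2 hd : (⟨d, hDC hd⟩ : Ct) ∈ P.D.subgroupOf Ct))
      rw [← map_inv, ← map_mul, ← map_mul, hqeq] at e
      rcases e with e | e
      · have e2 : (a : G) = x * d * (x : G)⁻¹ := inv_mul_eq_one.1 e
        rw [← e2]; exact mem_subgroupOf.1 ha
      · exfalso
        have e' : (a : G)⁻¹ * ((x : G) * d * (x : G)⁻¹) = C.t := e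
        have hc : (x : G) * d * (x : G)⁻¹ = (a : G) * C.t := by rw [← e', mul_inv_cancel_left]
        have h3 : ((x : G) * d * (x : G)⁻¹) ^ 3 = 1 := by
          rw [conj_pow, C.J_exp _ hd.1, mul_one, mul_inv_cancel]
        rw [hc, (show Commute (a : G) C.t from (mem_subgroupOf.1 ha).2).mul_pow, C.J_exp _ (mem_subgroupOf.1 ha).1,
          one_mul, pow_succ, pow_two, C.tt, one_mul] at h3
        exact C.t_ne h3
    · rintro ⟨-, h⟩
      refine mem_normalizer_iff_map_conj_eq.2 (eq_of_le_of_card_ge ?_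
        (card_map_of_injective (MulAut.conj (q x)).injective).ge)
      rintro _ ⟨_, ⟨a, ha, rfl⟩, rfl⟩
      exact ⟨x * a * x⁻¹, mem_subgroupOf.2 ((mem_normalizer_iff.1 h _).1 (mem_subgroupOf.1 ha)), by simp⟩
  have hN72 : Nat.card (normalizer (D' : Set (Ct ⧸ T))) = 72 := by
    have h := hcomap (normalizer (D' : Set (Ct ⧸ T)))
    rw [hN, Nat.card_congr (subgroupOfEquivOfLe (fun x hx => memCt.2 (P.mem_ND.1 hx).1)).toEquiv,
      P.card_ND hCZ] at h
    omega
  -- the Sylow subgroup
  obtain ⟨R, hR⟩ := (IsPGroup.of_card (p := 3) (n := 2) (G := D') (by rw [hDcard]; rfl)).exists_le_sylow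
  have hRD : (R : Subgroup (Ct ⧸ T)) = D' := by
    by_contra hne
    haveI : Group.IsNilpotent (R : Subgroup (Ct ⧸ T)) := R.2.isNilpotent
    have hlt : D'.subgroupOf (R : Subgroup (Ct ⧸ T)) < ⊤ :=
      lt_of_le_of_ne le_top fun h => hne (le_antisymm (subgroupOf_eq_top.1 h) hR)
    obtain ⟨r, hr, hr'⟩ := SetLike.exists_of_lt (Group.normalizerCondition_of_isNilpotent _ hlt)
    have hrN : (r : Ct ⧸ T) ∈ normalizer (D' : Set (Ct ⧸ T)) := by
      refine mem_normalizer_iff_map_conj_eq.2 (eq_of_le_of_card_ge ?_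
        (card_map_of_injective (MulAut.conj _).injective).ge)
      rintro _ ⟨a, ha, rfl⟩
      exact mem_subgroupOf.1 ((mem_normalizer_iff.1 hr ⟨a, hR ha⟩).1 (mem_subgroupOf.2 ha))
    set K := normalizer (D' : Set (Ct ⧸ T)) ⊓ (R : Subgroup (Ct ⧸ T))
    have hle : D' ≤ K := le_inf le_normalizer hR
    obtain ⟨k, hk⟩ := IsPGroup.iff_card.1 (R.2.to_le (inf_le_right : K ≤ (R : Subgroup (Ct ⧸ T))))
    have hd : Nat.card K ∣ 72 := hN72 ▸ card_dvd_of_le inf_le_left
    have h9 : Nat.card K ≤ 9 := by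
      rw [hk] at hd ⊢
      have : k ≤ 2 := by
        by_contra hk2
        have := (pow_dvd_pow 3 (show 3 ≤ k by omega)).trans hd
        norm_num at this
      exact (Nat.pow_le_pow_right (by norm_num) this).trans (by norm_num)
    have heq := eq_of_le_of_card_ge hle (by rw [hDcard]; exact h9)
    exact hr' (mem_subgroupOf.2 (heq.ge (mem_inf.2 ⟨hrN, r.2⟩)))
  -- the centraliser of `y`
  have hy : (centralizer ({yb} : Set (Ct ⧸ T))).comap q = (centralizer ({P.y} : Set G)).subgroupOf Ct := by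
    ext x
    rw [mem_comap, mem_subgroupOf, mem_centralizer_singleton_iff, mem_centralizer_singleton_iff]
    constructor
    · intro h
      rw [hyb, ← map_mul, ← map_mul, hqeq] at h
      rcases h with h | h
      · exact inv_mul_eq_one.1 h
      · exfalso
        have hxy : ((x : G) * P.y)⁻¹ * (P.y * (x : G)) = C.t := h
        set u := (x : G) * P.y * (x : G)⁻¹ with hu
        have hP : P.y = u * C.t := by
          have h2 : P.y * (x : G) = (x : G) * P.y * C.t := by rw [← hxy, mul_inv_cancel_left]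
          calc P.y = P.y * (x : G) * (x : G)⁻¹ := by group
            _ = (x : G) * P.y * (C.t * (x : G)⁻¹) := by rw [h2]; group
            _ = _ := by rw [hu, ← ((show Commute (x : G) C.t from memCt.1 x.2).inv_left).eq]; group
        have hut : u * C.t = C.t * u :=
          (((show Commute (x : G) C.t from memCt.1 x.2).mul_left (show Commute P.y C.t from P.y_t)).mul_left
            (show Commute (x : G) C.t from memCt.1 x.2).inv_left).eq
        refine hord (x := u) (d := P.y) hut ?_ (C.J_exp _ P.y_J) (by rw [hP, inv_mul_cancel_left]) ?_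
        · rw [hu, conj_pow, C.J_exp _ P.y_J, mul_one, mul_inv_cancel]
        · rw [hP]; exact ((Commute.refl u).mul_right (show Commute u C.t from hut)).eq
    · intro h
      rw [hyb, ← map_mul, ← map_mul]
      exact congrArg q (Subtype.ext h)
  have hycard : Nat.card (centralizer ({yb} : Set (Ct ⧸ T))) = 18 := by
    have h := hcomap (centralizer ({yb} : Set (Ct ⧸ T)))
    have e : Nat.card ((centralizer ({P.y} : Set G)).subgroupOf Ct) = 36 := by
      rw [← inf_subgroupOf_left, Nat.card_congr (subgroupOfEquivOfLe inf_le_left).toEquiv, hCt]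
      exact O.card_cent_t_y hCZ
    rw [hy, e] at h
    omega
  -- the normaliser of `⟨z⟩`
  set Nb := normalizer (zpowers zb : Set (Ct ⧸ T)) with hNb
  have hNZC : P.NZ ≤ Ct := fun x hx => memCt.2 (P.mem_NZ.1 hx).2
  have hz : Nb.comap q = P.NZ.subgroupOf Ct := by
    ext x
    rw [mem_comap, mem_subgroupOf, P.mem_NZ, hNb, mem_normalizer_iff_map_conj_eq, MonoidHom.map_zpowers]
    have hxt : Commute (x : G) C.t := memCt.1 x.2
    constructor
    · intro h
      refine ⟨C.norm_Z_of P.z_mem P.z_ne ?_, hxt.eq⟩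
      have hm : q (x * ⟨P.z, hzC⟩ * x⁻¹) ∈ zpowers zb := by
        rw [map_mul, map_mul, map_inv, ← hzb, ← h]; exact mem_zpowers _
      obtain ⟨i, hi⟩ := mem_zpowers_iff.1 hm
      rw [hzb, ← map_zpow, hqeq] at hi
      rcases hi with hi | hi
      · rw [show (x : G) * P.z * (x : G)⁻¹ = P.z ^ i from (inv_mul_eq_one.1 hi).symm]
        exact zpow_mem P.z_mem _
      · exfalso
        have hi' : (P.z ^ i)⁻¹ * ((x : G) * P.z * (x : G)⁻¹) = C.t := hi
        set u := (x : G) * P.z * (x : G)⁻¹ with hu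
        have hc : Commute (P.z ^ i) u := by
          rw [show u = P.z ^ i * C.t by rw [← hi', mul_inv_cancel_left]]
          exact (Commute.refl _).mul_right ((show Commute P.z C.t from P.z_t).zpow_left i)
        refine hord (x := P.z ^ i) (d := u) ((show Commute P.z C.t from P.z_t).zpow_left i).eq ?_ ?_ hi' hc.eq
        · rw [← zpow_natCast, ← zpow_mul, mul_comm, zpow_mul, zpow_natCast, P.z3, one_zpow]
        · rw [hu, conj_pow, P.z3, mul_one, mul_inv_cancel]
    · rintro ⟨h, -⟩
      show zpowers ((MulAut.conj (q x)) zb) = zpowers zb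
      rw [MulAut.conj_apply, hzb, ← map_inv, ← map_mul, ← map_mul]
      rcases C.Z_cases P.z_mem P.z_ne (C.conj_Z h P.z_mem) with e | e | e
      · exact absurd (conj_eq_one_iff.1 e) P.z_ne
      · rw [show x * ⟨P.z, hzC⟩ * x⁻¹ = (⟨P.z, hzC⟩ : Ct) from Subtype.ext e]
      · rw [show x * ⟨P.z, hzC⟩ * x⁻¹ = (⟨P.z, hzC⟩ : Ct)⁻¹ from Subtype.ext e, map_inv, zpowers_inv]
  let Φ : P.NZ →* Nb :=
    { toFun := fun x => ⟨q ⟨x, hNZC x.2⟩, by
        have : (⟨x, hNZC x.2⟩ : Ct) ∈ Nb.comap q := by rw [hz]; exact mem_subgroupOf.2 x.2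
        exact this⟩
      map_one' := Subtype.ext (map_one q)
      map_mul' := fun a b => Subtype.ext (map_mul q ⟨a, hNZC a.2⟩ ⟨b, hNZC b.2⟩) }
  have hΦs : Function.Surjective Φ := by
    rintro ⟨v, hv⟩
    obtain ⟨a, rfl⟩ := hqs v
    have ha : a ∈ P.NZ.subgroupOf Ct := hz ▸ (show a ∈ Nb.comap q from hv)
    exact ⟨⟨a, mem_subgroupOf.1 ha⟩, rfl⟩
  have hΦk : ∀ x, Φ x = 1 ↔ (x : G) = 1 ∨ (x : G) = C.t := by
    intro x
    rw [Subtype.ext_iff]
    show q ⟨x, hNZC x.2⟩ = 1 ↔ _
    rw [← map_one q, eq_comm, hqeq]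
    simp
  obtain ⟨Θ, hΘs, hΘk⟩ := O.exists_theta hCZ
  have hker : Φ.ker = Θ.ker := Subgroup.ext fun x => by
    rw [MonoidHom.mem_ker, MonoidHom.mem_ker, hΦk, hΘk]
  let eL := (QuotientGroup.quotientKerEquivOfSurjective Φ hΦs).symm.trans
    ((QuotientGroup.quotientMulEquivOfEq hker).trans (QuotientGroup.quotientKerEquivOfSurjective Θ hΘs))
  obtain ⟨D0⟩ := A8Three.exists_data_of_card R D' hRD.symm yb zb hgen hcommD hDcard hexp hN72 hycard eL
  obtain ⟨E0⟩ := D0.exists_full
  obtain ⟨eA⟩ := E0.equiv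
  -- the cover
  have hA : Nat.card (alternatingGroup (Fin 8)) = 20160 := by
    rw [nat_card_alternatingGroup]; norm_num [Nat.factorial]
  have hcard : Nat.card Ct = 40320 := by
    have h1 := card_eq_card_quotient_mul_card_subgroup T
    rw [hTcard, Nat.card_congr eA.toEquiv, hA] at h1
    omega
  have hcen : center Ct = T := by
    refine le_antisymm (fun x hx => ?_) fun x hx => mem_center_iff.2 fun g => ?_
    · have h : eA (q x) ∈ center (alternatingGroup (Fin 8)) := by
        refine mem_center_iff.2 fun a => ?_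
        obtain ⟨b, rfl⟩ := eA.surjective a
        obtain ⟨c, rfl⟩ := hqs b
        rw [← map_mul, ← map_mul, ← map_mul, ← map_mul, mem_center_iff.1 hx c]
      rw [alternatingGroup.center_eq_bot (by simp), mem_bot, eA.map_eq_one_iff] at h
      exact (QuotientGroup.eq_one_iff x).1 h
    · refine Subtype.ext ?_
      show (g : G) * (x : G) = (x : G) * (g : G)
      rcases (htpow _).1 (mem_subgroupOf.1 hx) with e | e <;> rw [e]
      · simp
      · exact memCt.1 g.2
  refine ⟨⟨by rw [hcen, hTcard], ⟨(QuotientGroup.quotientMulEquivOfEq hcen).trans eA⟩, fun Lc hL => ?_⟩, by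
    rw [hcard]; norm_num⟩
  rw [hcen] at hL
  have heC : P.e ∈ Ct := memCt.2 P.e_t
  set E : Ct := ⟨P.e, heC⟩
  obtain ⟨⟨a, b⟩, hab⟩ := hL.2 E
  have hab' : (a : Ct) * b = E := hab
  have ha2 : (a : Ct) * a = 1 := Subtype.ext (by
    rcases (htpow _).1 (mem_subgroupOf.1 a.2) with e | e <;> simp [e, C.tt])
  have hac : Commute (a : Ct) b := by
    refine Subtype.ext ?_
    show ((a : Ct) : G) * ((b : Ct) : G) = ((b : Ct) : G) * ((a : Ct) : G)
    rcases (htpow _).1 (mem_subgroupOf.1 a.2) with e | e <;> rw [e]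
    · simp
    · exact (memCt.1 (b : Ct).2).symm
  have htL : E * E ∈ Lc := by
    rw [← hab', show (a : Ct) * b * (a * b) = (a * (b * a)) * b by group, ← hac.eq, ← mul_assoc (a : Ct), ha2,
      one_mul]
    exact mul_mem b.2 b.2
  have htT : E * E ∈ T := mem_subgroupOf.2 (by
    show P.e * P.e ∈ zpowers C.t
    rw [P.e_sq]; exact mem_zpowers _)
  have h1 : E * E = 1 := (mem_bot.1 ((disjoint_iff.1 hL.disjoint).le (mem_inf.2 ⟨htT, htL⟩)))
  have h2 : P.e * P.e = 1 := congrArg Subtype.val h1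
  exact C.t_ne (P.e_sq.symm.trans h2)

theorem sup_oddCore_ne_top (hCZ : C.CZ ≤ C.L) :
    centralizer ({C.t} : Set G) ⊔ Cfsg.oddCore G ≠ ⊤ := by
  classical
  haveI : Fact (Nat.Prime 3) := ⟨Nat.prime_three⟩
  intro htop
  set Ct := centralizer ({C.t} : Set G) with hCt
  set K := Cfsg.oddCore G with hK
  have hodd : Odd (Nat.card K) := by
    haveI : Fact (Nat.Prime 2) := ⟨Nat.prime_two⟩
    exact Nat.coprime_two_right.1 (FittingCores.pPrimeCore_coprime 2)
  obtain ⟨-, h27⟩ := O.cover hCZ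
  -- a large part of `S` lies in the odd core
  set π := QuotientGroup.mk' K with hπ
  have hmap : Ct.map π = ⊤ := by
    have h : (Ct ⊔ K).map π = ⊤ := by rw [htop, map_top_of_surjective π (QuotientGroup.mk'_surjective K)]
    have hKb : K.map π = ⊥ := (Subgroup.map_eq_bot_iff _).2 (by rw [hπ, QuotientGroup.ker_mk'])
    rwa [Subgroup.map_sup, hKb, sup_bot_eq] at h
  set r : C.S →* G ⧸ K := π.comp C.S.subtype with hr
  have hr9 : Nat.card r.range ≤ 9 := by
    obtain ⟨k, hk⟩ := IsPGroup.iff_card.1 (C.S_p.of_surjective r.rangeRestrict r.rangeRestrict_surjective)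
    have hd : Nat.card r.range ∣ Nat.card Ct :=
      (card_subgroup_dvd_card r.range).trans (by
        rw [← card_top (G := G ⧸ K), ← hmap]; exact card_map_dvd Ct π)
    rw [hk] at hd ⊢
    have : k ≤ 2 := by
      by_contra hk2
      exact h27 ((show (27 : ℕ) ∣ 3 ^ k from pow_dvd_pow 3 (show 3 ≤ k by omega)).trans hd)
    exact (Nat.pow_le_pow_right (by norm_num) this).trans (by norm_num)
  have hker : 81 ≤ Nat.card r.ker := by
    have h := card_eq_card_quotient_mul_card_subgroup r.ker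
    rw [Nat.card_congr (QuotientGroup.quotientKerEquivRange r).toEquiv, C.card_S] at h
    nlinarith
  -- the intersection with `M` lies in `J`
  have hKM : ∀ x ∈ C.M, x ∈ K → x ∈ C.J := by
    intro x hx hxK
    set N := (K.subgroupOf C.M).map P.psi with hN
    haveI : N.Normal := (inferInstance : (K.subgroupOf C.M).Normal).map P.psi P.psi_surj
    haveI : IsSimpleGroup A6 := alternatingGroup.isSimpleGroup (by simp)
    rcases IsSimpleGroup.eq_bot_or_eq_top_of_normal N inferInstance with h | h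
    · exact (P.psi_ker ⟨x, hx⟩).1 (mem_bot.1 (h ▸ mem_map_of_mem _ (mem_subgroupOf.2 hxK)))
    · exfalso
      obtain ⟨m, hm, he⟩ := (h ▸ mem_top t6 : t6 ∈ N)
      have hd : orderOf t6 ∣ Nat.card K := by
        refine (he ▸ orderOf_map_dvd P.psi m : orderOf t6 ∣ orderOf m).trans ?_
        rw [← Subgroup.orderOf_coe]
        exact Subgroup.orderOf_dvd_natCard _ (mem_subgroupOf.1 hm)
      rw [orderOf_eq_prime (p := 2) (by rw [pow_two]; exact six_basic.2.2.2.2.2.2.1)
        six_basic.2.2.2.2.2.2.2.1] at hd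
      exact (Nat.not_even_iff_odd.2 hodd) (even_iff_two_dvd.2 hd)
  have hJK : C.J ≤ K := by
    set B := r.ker.map C.S.subtype with hB
    have hBK : B ≤ K := by
      rintro _ ⟨x, hx, rfl⟩
      exact (QuotientGroup.eq_one_iff _).1 (MonoidHom.mem_ker.1 hx)
    have hBJ : B ≤ C.J := fun x hx => hKM x (C.S_le_M (map_subtype_le _ hx)) (hBK hx)
    have := eq_of_le_of_card_ge hBJ (by rw [C.card_J, hB, card_map_of_injective C.S.subtype_injective]; exact hker)
    exact this ▸ hBK
  -- `Q` lies in the odd core modulo `Z`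
  set U := (K ⊓ C.Q) ⊔ C.Z with hU
  have hUQ : U ≤ C.Q := sup_le inf_le_right C.Z_le_Q
  have hQU : U = C.Q := by
    by_contra hne
    have hU81 : Nat.card U ≤ 81 := by
      obtain ⟨k, hk, hk'⟩ := (Nat.dvd_prime_pow Nat.prime_three).1
        (show Nat.card U ∣ 3 ^ 5 by rw [show (3 : ℕ) ^ 5 = 243 from rfl, ← C.card_Q]; exact card_dvd_of_le hUQ)
      rcases Nat.lt_or_ge k 5 with h | h
      · rw [hk']; exact le_trans (Nat.pow_le_pow_right (by norm_num) (Nat.lt_succ_iff.1 h)) (by norm_num)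
      · exact absurd (eq_of_le_of_card_ge hUQ (by rw [hk', C.card_Q, show k = 5 by omega]; norm_num)) hne
    obtain ⟨a, ha, haZ⟩ : ∃ a ∈ C.A, a ∉ C.Z := by
      by_contra h
      push Not at h
      have := card_le_of_le h
      rw [C.card_A, C.card_Z] at this
      omega
    obtain ⟨y5, hy5, hy5'⟩ : ∃ y : S25, y ^ 5 = 1 ∧ y ≠ 1 := by
      haveI : Fact (Nat.Prime 5) := ⟨by norm_num⟩
      obtain ⟨y, hy⟩ := exists_prime_orderOf_dvd_card' (G := S25) 5
        (by rw [Nat.card_eq_fintype_card, card25]; norm_num)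
      refine ⟨y, orderOf_dvd_iff_pow_eq_one.1 (dvd_of_eq hy), fun h => ?_⟩
      rw [h, orderOf_one] at hy
      norm_num at hy
    obtain ⟨u, hu, hu5⟩ := C.five_lift hy5
    have hun := C.L_norm u.2
    have hn : ∀ x ∈ U, (u : G) * x * (u : G)⁻¹ ∈ U := by
      intro x hx
      have hle : U.map (MulAut.conj (u : G)).toMonoidHom ≤ U := by
        rw [hU, Subgroup.map_sup]
        refine sup_le_sup ?_ ?_
        · rintro _ ⟨x, hx, rfl⟩
          exact mem_inf.2 ⟨(inferInstance : K.Normal).conj_mem x hx.1 _, C.normQ _ hun _ hx.2⟩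
        · rintro _ ⟨x, hx, rfl⟩
          exact C.conj_Z hun hx
      exact hle (mem_map_of_mem _ hx)
    have hc := C.five_cent U le_sup_right hUQ hU81 u.2 (congrArg Subtype.val hu5) hn a
      (mem_sup_left (mem_inf.2 ⟨hJK ha.1, ha.2⟩))
    have h1 := C.five_fpf u.2 (congrArg Subtype.val hu5) ha.2 haZ (by
      rw [hc, mul_inv_cancel_right, mul_inv_cancel]; exact one_mem _)
    rw [show u = 1 from Subtype.ext h1, map_one] at hu
    exact hy5' hu.symm
  obtain ⟨q, hqQ, hqJ⟩ : ∃ q ∈ C.Q, q ∉ C.J := by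
    by_contra h
    push Not at h
    have := card_le_of_le h
    rw [C.card_Q, C.card_J] at this
    omega
  refine hqJ ?_
  have hle : U ≤ C.J := sup_le (fun x hx => hKM x (C.S_le_M (C.Q_le_S hx.2)) hx.1) C.Z_le_J
  exact hle (hQU ▸ hqQ)

end Conf.Pair.Point

namespace Conf

variable {G : Type*} [Group G] [Finite G] (C : Conf G)
include C

/-- The case in which the centraliser of `Z` is `L`. -/
theorem mcl_of_CZ (hCZ : C.CZ ≤ C.L) : Nonempty (G ≃* Cfsg.Spor.McL) := by
  obtain ⟨F⟩ := C.exists_frame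
  obtain ⟨P⟩ := F.exists_pair
  obtain ⟨O⟩ := P.exists_point
  exact (S3334.result C.t (orderOf_eq_prime (by rw [pow_two, C.tt]) C.t_ne) (O.cover hCZ).1).resolve_left
    (O.sup_oddCore_ne_top hCZ)

end Conf

end Cfsg.Agent.McLThree
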