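import Cfsg.Agent.Lib.ThreeTI.Cube.Main
import Cfsg.Agent.Lib.Solvable.Coprime
import Mathlib.GroupTheory.Transfer

/-!
A finite group with an elementary abelian subgroup `J` of order 27 whose normaliser acts as the
extension of the even sign changes by the cyclic permutations of the three coordinates, and in
which the centralisers of the coordinate vector and of the diagonal are the natural ones.
This file determines the centralisers of all elements of `J`.
-/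

set_option autoImplicit false
set_option maxRecDepth 20000
set_option maxHeartbeats 1000000
set_option synthInstance.maxSize 2000
set_option linter.style.haveILetI false
set_option linter.unusedSectionVars false

namespace Cfsg.Agent.McLThree

open Subgroup
open Cfsg.Agent.ThreeTI.Cube (V pr)

/-- The rotation of the coordinates. -/
def rot3 (v : V) : V := Multiplicative.ofAdd (v.toAdd.2.2, v.toAdd.1, v.toAdd.2.1)

/-- The sign change fixing the first coordinate. -/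
def sgA (v : V) : V := Multiplicative.ofAdd (v.toAdd.1, -v.toAdd.2.1, -v.toAdd.2.2)

/-- The sign change fixing the second coordinate. -/
def sgB (v : V) : V := Multiplicative.ofAdd (-v.toAdd.1, v.toAdd.2.1, -v.toAdd.2.2)

/-- The element of the local group with the given parameters. -/
def act3 (a b : Fin 2) (i : Fin 3) (v : V) : V :=
  sgA^[(a : ℕ)] (sgB^[(b : ℕ)] (rot3^[(i : ℕ)] v))

/-- The diagonal vector. -/
def v111 : V := Multiplicative.ofAdd (1, 1, 1)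

/-- The first coordinate vector. -/
def v100 : V := Multiplicative.ofAdd (1, 0, 0)

/-- Exactly one coordinate is nonzero. -/
abbrev OneNz (v : V) : Prop :=
  ∃ (i : Fin 3) (n : Fin 2), v = rot3^[(i : ℕ)] (v100 ^ ((n : ℕ) + 1))

/-- All three coordinates are nonzero. -/
abbrev AllNz (v : V) : Prop :=
  ∃ (a b : Fin 2) (n : Fin 2), v = act3 a b 0 (v111 ^ ((n : ℕ) + 1))

/-- Exactly two coordinates are nonzero. -/
abbrev TwoNz (v : V) : Prop := v ≠ 1 ∧ ¬ OneNz v ∧ ¬ AllNz v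

theorem three_kinds : ∀ v : V, v ≠ 1 → OneNz v ∨ AllNz v ∨ TwoNz v := by decide +kernel

theorem act_basic : (∀ v : V, rot3 (sgA (rot3 (rot3 v))) = sgB v) ∧ rot3 v111 = v111 ∧
    (∀ v : V, v ^ 3 = 1) := by decide +kernel

theorem act_two : ∀ (a b : Fin 2) (i : Fin 3) (v : V), TwoNz v → act3 a b i v = v →
    a = 0 ∧ b = 0 ∧ i = 0 := by decide +kernel

theorem act_one : ∀ (a b : Fin 2) (i : Fin 3), act3 a b i v100 = v100 → i = 0 := by decide +kernel

theorem act_diag : ∀ (a b : Fin 2) (i : Fin 3), act3 a b i v111 ≠ v111⁻¹ := by decide +kernel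

theorem diag_shift : ∀ i : Fin 3, i ≠ 0 → ∀ k : Fin 3, ∃ w : V,
    w * (rot3^[(i : ℕ)] w)⁻¹ = v111 ^ (k : ℕ) := by decide +kernel

theorem rot_fixed : ∀ i : Fin 3, i ≠ 0 → ∀ v : V, rot3^[(i : ℕ)] v = v →
    ∃ k : Fin 3, v = v111 ^ (k : ℕ) := by decide +kernel

theorem plane_two : ∀ v : V, TwoNz v → ∃ u w : V, OneNz u ∧ u ≠ w ∧ OneNz w ∧ u ≠ w⁻¹ := by
  decide +kernel

/-- A pair of coordinate vectors whose plane contains `v`. -/
abbrev PlaneOf (v u w : V) : Prop :=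
  OneNz u ∧ OneNz w ∧ w ≠ u ∧ w ≠ u⁻¹ ∧ ∀ i j : Fin 3, u ^ (i : ℕ) * w ^ (j : ℕ) ≠ 1 →
    OneNz (u ^ (i : ℕ) * w ^ (j : ℕ)) ∨ TwoNz (u ^ (i : ℕ) * w ^ (j : ℕ))

theorem plane_first : ∃ u w : V, OneNz u ∧ OneNz w ∧ w ≠ u ∧ w ≠ u⁻¹ := by decide +kernel

theorem plane_second : ∀ v : V, TwoNz v → ∃ u w : V, OneNz u ∧ OneNz w ∧ w ≠ u ∧ w ≠ u⁻¹ ∧
    ∀ i j : Fin 3, u ^ (i : ℕ) * w ^ (j : ℕ) ≠ 1 → OneNz (u ^ (i : ℕ) * w ^ (j : ℕ)) ∨
      ∃ n : Fin 2, AllNz (v * (u ^ (i : ℕ) * w ^ (j : ℕ)) ^ ((n : ℕ) + 1)) := by decide +kernel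

theorem one_not_oneNz : ¬ OneNz (1 : V) := by decide +kernel

theorem zpow_three (a : V) (k : ℤ) : ∃ i : Fin 3, a ^ k = a ^ (i : ℕ) := by
  have h0 := Int.emod_nonneg k (show (3 : ℤ) ≠ 0 by norm_num)
  have h3 := Int.emod_lt_of_pos k (show (0 : ℤ) < 3 by norm_num)
  refine ⟨⟨(k % 3).toNat, by omega⟩, ?_⟩
  show a ^ k = a ^ (k % 3).toNat
  conv_lhs => rw [← Int.emod_add_mul_ediv k 3]
  rw [zpow_add, zpow_mul, zpow_ofNat, act_basic.2.2, one_zpow, mul_one, ← zpow_natCast,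
    Int.toNat_of_nonneg h0]

theorem pow_cases : ∀ (a : V) (i : Fin 3),
    a ^ (i : ℕ) = 1 ∨ a ^ (i : ℕ) = a ∨ a ^ (i : ℕ) = a⁻¹ := by decide +kernel

/-- The configuration. -/
structure Bar (X : Type*) [Group X] [Finite X] where
  /-- the elementary abelian subgroup -/
  j : V →* X
  inj : Function.Injective j
  /-- the permutation of the coordinates -/
  s : X
  /-- the sign change -/
  tau : X
  s3 : s ^ 3 = 1
  s_conj : ∀ v, s * j v * s⁻¹ = j (rot3 v)
  tau2 : tau * tau = 1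
  tau_conj : ∀ v, tau * j v * tau⁻¹ = j (sgA v)
  norm : ∀ x ∈ normalizer (j.range : Set X), ∃ (u : V) (a b : Fin 2) (i : Fin 3),
    x = j u * tau ^ (a : ℕ) * (s * tau * s⁻¹) ^ (b : ℕ) * s ^ (i : ℕ)
  cent1 : ∀ x, x * j v100 = j v100 * x → x ∈ normalizer (j.range : Set X)
  cent3 : ∀ x, x * j v111 = j v111 * x → ∃ (u : V) (i : Fin 3), x = j u * s ^ (i : ℕ)

namespace Bar

variable {X : Type*} [Group X] [Finite X] (B : Bar X)
include B

/-- The normaliser of the abelian subgroup. -/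
def H : Subgroup X := normalizer (B.j.range : Set X)

theorem j_comm (u v : V) : B.j u * B.j v = B.j v * B.j u := by rw [← map_mul, ← map_mul, mul_comm]

theorem j_cube (v : V) : B.j v ^ 3 = 1 := by rw [← map_pow, act_basic.2.2, map_one]

theorem card_range : Nat.card B.j.range = 27 := by
  rw [← Nat.card_congr (MonoidHom.ofInjective B.inj).toEquiv, Nat.card_eq_fintype_card]; rfl

theorem mem_H_of {x : X} (f : V → V) (h : ∀ v, x * B.j v * x⁻¹ = B.j (f v)) : x ∈ B.H :=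
  mem_normalizer_iff_map_conj_eq.2
    (eq_of_le_of_card_ge (by rintro _ ⟨_, ⟨v, rfl⟩, rfl⟩; exact ⟨f v, (h v).symm⟩)
      (card_map_of_injective (MulAut.conj x).injective).ge)

theorem range_le_H : B.j.range ≤ B.H := le_normalizer

theorem s_H : B.s ∈ B.H := B.mem_H_of _ B.s_conj

theorem tau_H : B.tau ∈ B.H := B.mem_H_of _ B.tau_conj

theorem sigma_conj (v : V) :
    (B.s * B.tau * B.s⁻¹) * B.j v * (B.s * B.tau * B.s⁻¹)⁻¹ = B.j (sgB v) := by
  have h1 : B.s⁻¹ * B.j v * B.s = B.j (rot3 (rot3 v)) := by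
    rw [← B.s_conj, ← B.s_conj]
    have e : B.s⁻¹ = B.s * B.s := inv_eq_of_mul_eq_one_right (by
      rw [← B.s3, pow_succ, pow_two, mul_assoc])
    conv_lhs => rw [← inv_inv (B.s), e]
    simp [mul_assoc]
  rw [← act_basic.1 v, ← B.s_conj, ← B.tau_conj, ← h1]
  group

theorem pow_conj {x : X} {f : V → V} (h : ∀ v, x * B.j v * x⁻¹ = B.j (f v)) (n : ℕ) (v : V) :
    x ^ n * B.j v * (x ^ n)⁻¹ = B.j (f^[n] v) := by
  induction n generalizing v with
  | zero => simp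
  | succ n ih =>
    rw [Function.iterate_succ_apply', ← h, ← ih, pow_succ']
    group

theorem elt_conj (u v : V) (a b : Fin 2) (i : Fin 3) :
    (B.j u * B.tau ^ (a : ℕ) * (B.s * B.tau * B.s⁻¹) ^ (b : ℕ) * B.s ^ (i : ℕ)) * B.j v *
      (B.j u * B.tau ^ (a : ℕ) * (B.s * B.tau * B.s⁻¹) ^ (b : ℕ) * B.s ^ (i : ℕ))⁻¹ =
    B.j (act3 a b i v) := by
  calc (B.j u * B.tau ^ (a : ℕ) * (B.s * B.tau * B.s⁻¹) ^ (b : ℕ) * B.s ^ (i : ℕ)) * B.j v *
      (B.j u * B.tau ^ (a : ℕ) * (B.s * B.tau * B.s⁻¹) ^ (b : ℕ) * B.s ^ (i : ℕ))⁻¹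
      = B.j u * (B.tau ^ (a : ℕ) * ((B.s * B.tau * B.s⁻¹) ^ (b : ℕ) *
          (B.s ^ (i : ℕ) * B.j v * (B.s ^ (i : ℕ))⁻¹) *
          ((B.s * B.tau * B.s⁻¹) ^ (b : ℕ))⁻¹) * (B.tau ^ (a : ℕ))⁻¹) * (B.j u)⁻¹ := by
        generalize B.tau ^ (a : ℕ) = x
        generalize (B.s * B.tau * B.s⁻¹) ^ (b : ℕ) = y
        generalize B.s ^ (i : ℕ) = w
        group
    _ = B.j u * B.j (act3 a b i v) * (B.j u)⁻¹ := by
        rw [B.pow_conj B.s_conj, B.pow_conj B.sigma_conj, B.pow_conj B.tau_conj]; rfl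
    _ = _ := by rw [B.j_comm, mul_inv_cancel_right]

theorem mem_H_exists {x : X} (hx : x ∈ B.H) : ∃ (u : V) (a b : Fin 2) (i : Fin 3),
    x = B.j u * B.tau ^ (a : ℕ) * (B.s * B.tau * B.s⁻¹) ^ (b : ℕ) * B.s ^ (i : ℕ) ∧
      ∀ v, x * B.j v * x⁻¹ = B.j (act3 a b i v) := by
  obtain ⟨u, a, b, i, rfl⟩ := B.norm x hx
  exact ⟨u, a, b, i, rfl, fun v => B.elt_conj u v a b i⟩

theorem fix_of_comm {x : X} {v : V} {f : V → V} (h : ∀ w, x * B.j w * x⁻¹ = B.j (f w))
    (hc : x * B.j v = B.j v * x) : f v = v :=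
  B.inj (by rw [← h, hc, mul_inv_cancel_right])

/-- The centraliser of the diagonal vector. -/
def P : Subgroup X := centralizer ({B.j v111} : Set X)

theorem mem_P {x : X} : x ∈ B.P ↔ ∃ (u : V) (i : Fin 3), x = B.j u * B.s ^ (i : ℕ) := by
  constructor
  · intro hx
    exact B.cent3 x (mem_centralizer_singleton_iff.1 hx)
  · rintro ⟨u, i, rfl⟩
    refine mul_mem (mem_centralizer_singleton_iff.2 (B.j_comm _ _)) (pow_mem ?_ _)
    refine mem_centralizer_singleton_iff.2 ?_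
    rw [← mul_inv_eq_iff_eq_mul, B.s_conj, act_basic.2.1]

theorem range_le_P : B.j.range ≤ B.P := by
  rintro _ ⟨u, rfl⟩; exact mem_centralizer_singleton_iff.2 (B.j_comm _ _)

theorem P_le_H : B.P ≤ B.H := fun x hx => by
  obtain ⟨u, i, rfl⟩ := B.mem_P.1 hx
  exact mul_mem (B.range_le_H ⟨u, rfl⟩) (pow_mem B.s_H _)

theorem P_conj (u v : V) (i : Fin 3) :
    (B.j u * B.s ^ (i : ℕ)) * B.j v * (B.j u * B.s ^ (i : ℕ))⁻¹ = B.j (rot3^[(i : ℕ)] v) := by
  have h := B.elt_conj u v 0 0 i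
  simp only [Fin.val_zero, pow_zero, mul_one] at h
  exact h

theorem outside {x : X} (hx : x ∈ B.P) (hxJ : x ∉ B.j.range) : ∃ (u : V) (i : Fin 3),
    i ≠ 0 ∧ x = B.j u * B.s ^ (i : ℕ) := by
  obtain ⟨u, i, rfl⟩ := B.mem_P.1 hx
  exact ⟨u, i, fun h => hxJ ⟨u, by rw [h]; simp⟩, rfl⟩

theorem range_comm_outside {x y : X} (hx : x ∈ B.P) (hxJ : x ∉ B.j.range) (hy : y ∈ B.j.range)
    (h : x * y = y * x) : ∃ k : Fin 3, y = B.j (v111 ^ (k : ℕ)) := by
  obtain ⟨u, i, hi, rfl⟩ := B.outside hx hxJ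
  obtain ⟨v, rfl⟩ := hy
  obtain ⟨k, hk⟩ := rot_fixed i hi v (B.fix_of_comm (B.P_conj u · i) h)
  exact ⟨k, by rw [hk]⟩

/-- `J` is the only abelian subgroup of order 27 of `P`. -/
theorem unique27 {A : Subgroup X} (hA : A ≤ B.P) (hc : ∀ a ∈ A, ∀ b ∈ A, a * b = b * a)
    (h27 : Nat.card A = 27) : A = B.j.range := by
  refine eq_of_le_of_card_ge (fun a ha => ?_) (by rw [h27, B.card_range])
  by_contra haJ
  set K := A ⊓ B.j.range
  have hsmall : Nat.card K ≤ 3 := by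
    have hle : (K : Set X) ⊆ Set.range (fun k : Fin 3 => B.j (v111 ^ (k : ℕ))) := by
      intro y hy
      obtain ⟨k, hk⟩ := B.range_comm_outside (hA ha) haJ (mem_inf.1 hy).2 (hc a ha y (mem_inf.1 hy).1)
      exact ⟨k, hk.symm⟩
    refine (Nat.card_mono (Set.toFinite _) hle).trans ?_
    exact le_trans (Finite.card_range_le _) (by simp)
  have hidx : B.j.range.relIndex B.P ≤ 3 := by
    show (B.j.range.subgroupOf B.P).index ≤ 3
    rw [Subgroup.index]
    have hs : Function.Surjective (fun k : Fin 3 =>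
        (QuotientGroup.mk (⟨B.s ^ (k : ℕ), B.mem_P.2 ⟨1, k, by rw [map_one, one_mul]⟩⟩ : B.P) :
          B.P ⧸ B.j.range.subgroupOf B.P)) := by
      intro q
      induction q using QuotientGroup.induction_on with
      | H x =>
        obtain ⟨u, i, e⟩ := B.mem_P.1 x.2
        refine ⟨i, QuotientGroup.eq.2 (mem_subgroupOf.2 ?_)⟩
        show (B.s ^ (i : ℕ))⁻¹ * (x : X) ∈ B.j.range
        rw [e]
        refine ⟨rot3^[((-i : Fin 3) : ℕ)] u, ?_⟩
        rw [← B.pow_conj B.s_conj]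
        have e' : B.s ^ ((-i : Fin 3) : ℕ) = (B.s ^ (i : ℕ))⁻¹ := by
          refine eq_inv_of_mul_eq_one_left ?_
          rw [← pow_add]
          rcases (by decide : ∀ i : Fin 3, ((-i : Fin 3) : ℕ) + i = 0 ∨ ((-i : Fin 3) : ℕ) + i = 3) i with h | h
          · rw [h, pow_zero]
          · rw [h, B.s3]
        rw [e', inv_inv, mul_assoc]
    exact le_trans (Nat.card_le_card_of_surjective _ hs) (by simp)
  have h1 : B.j.range.relIndex A ≤ B.j.range.relIndex B.P :=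
    relIndex_le_of_le_right hA (by show (B.j.range.subgroupOf B.P).index ≠ 0; exact index_ne_zero_of_finite)
  have h2 := (B.j.range.subgroupOf A).card_mul_index
  rw [← inf_subgroupOf_left, Nat.card_congr (subgroupOfEquivOfLe inf_le_left).toEquiv, h27] at h2
  have h3 : (B.j.range.subgroupOf A).index ≤ 3 := h1.trans hidx
  rw [← inf_subgroupOf_left] at h3
  nlinarith

/-- The diagonal vector is not conjugate to its inverse. -/
theorem not_real : ¬ IsConj (B.j v111) (B.j v111)⁻¹ := by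
  intro h
  obtain ⟨g, hg⟩ := isConj_iff.1 h
  have hle : B.j.range.map (MulAut.conj g).toMonoidHom ≤ B.P := by
    rintro _ ⟨_, ⟨u, rfl⟩, rfl⟩
    refine mem_centralizer_singleton_iff.2 ?_
    show g * B.j u * g⁻¹ * B.j v111 = B.j v111 * (g * B.j u * g⁻¹)
    have : B.j v111 = g * (B.j v111)⁻¹ * g⁻¹ := by
      rw [show g * (B.j v111)⁻¹ * g⁻¹ = (g * B.j v111 * g⁻¹)⁻¹ by group, hg, inv_inv]
    rw [this]
    calc g * B.j u * g⁻¹ * (g * (B.j v111)⁻¹ * g⁻¹) = g * (B.j u * (B.j v111)⁻¹) * g⁻¹ := by group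
      _ = g * ((B.j v111)⁻¹ * B.j u) * g⁻¹ := by rw [← map_inv, B.j_comm]
      _ = _ := by group
  have hH : g ∈ B.H := mem_normalizer_iff_map_conj_eq.2 (B.unique27 hle
    (by
      rintro _ ⟨x, ⟨u, rfl⟩, rfl⟩ _ ⟨y, ⟨v, rfl⟩, rfl⟩
      exact (Commute.map (show Commute (B.j u) (B.j v) from B.j_comm u v) (MulAut.conj g).toMonoidHom).eq)
    (by rw [card_map_of_injective (MulAut.conj g).injective, B.card_range]))
  obtain ⟨u, a, b, i, -, hc⟩ := B.mem_H_exists hH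
  exact act_diag a b i (B.inj (by rw [← hc, hg, map_inv]))

theorem shift {x : X} (hx : x ∈ B.P) (hxJ : x ∉ B.j.range) (k : Fin 3) :
    IsConj x (x * B.j v111 ^ (k : ℕ)) := by
  obtain ⟨u, i, hi, rfl⟩ := B.outside hx hxJ
  obtain ⟨w, hw⟩ := diag_shift i hi k
  refine isConj_iff.2 ⟨B.j w, ?_⟩
  set x := B.j u * B.s ^ (i : ℕ) with hxdef
  have e : x * (B.j w)⁻¹ = (B.j (rot3^[(i : ℕ)] w))⁻¹ * x := by
    rw [← B.P_conj u w i, ← hxdef]; group
  calc B.j w * x * (B.j w)⁻¹ = B.j w * (x * (B.j w)⁻¹) := by group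
    _ = B.j (w * (rot3^[(i : ℕ)] w)⁻¹) * x := by rw [e, map_mul, map_inv]; group
    _ = _ := by
        rw [hw, map_pow]
        exact ((show Commute x (B.j v111) from mem_centralizer_singleton_iff.1 hx).pow_right _).eq.symm

/-- Conjugates of the diagonal vector in `P` lie in `J`. -/
theorem conj_diag_mem {g : X} (h : g⁻¹ * B.j v111 * g ∈ B.P) : g⁻¹ * B.j v111 * g ∈ B.j.range := by
  by_contra hxJ
  set v := B.j v111 with hv
  set x := g⁻¹ * v * g with hx
  have hxv : x * v = v * x := mem_centralizer_singleton_iff.1 h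
  set y := g * v * g⁻¹ with hy
  have hyP : y ∈ B.P := by
    refine mem_centralizer_singleton_iff.2 ?_
    show g * v * g⁻¹ * v = v * (g * v * g⁻¹)
    calc g * v * g⁻¹ * v = g * (v * x) * g⁻¹ := by rw [hx]; group
      _ = g * (x * v) * g⁻¹ := by rw [hxv]
      _ = _ := by rw [hx]; group
  have hyJ : y ∉ B.j.range := by
    intro hyJ
    have hle : B.j.range.map (MulAut.conj g⁻¹).toMonoidHom ≤ B.P := by
      rintro _ ⟨a, ha, rfl⟩
      refine mem_centralizer_singleton_iff.2 ?_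
      show g⁻¹ * a * g⁻¹⁻¹ * v = v * (g⁻¹ * a * g⁻¹⁻¹)
      obtain ⟨c, hc⟩ := hyJ
      obtain ⟨d, rfl⟩ := ha
      calc g⁻¹ * B.j d * g⁻¹⁻¹ * v = g⁻¹ * (B.j d * y) * g := by rw [hy]; group
        _ = g⁻¹ * (y * B.j d) * g := by rw [← hc, B.j_comm]
        _ = _ := by rw [hy]; group
    have hgH := mem_normalizer_iff_map_conj_eq.2 (B.unique27 hle
      (by
        rintro _ ⟨a, ⟨u, rfl⟩, rfl⟩ _ ⟨b, ⟨w, rfl⟩, rfl⟩
        exact (Commute.map (show Commute (B.j u) (B.j w) from B.j_comm u w) (MulAut.conj g⁻¹).toMonoidHom).eq)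
      (by rw [card_map_of_injective (MulAut.conj g⁻¹).injective, B.card_range]))
    refine hxJ ?_
    have := (mem_normalizer_iff.1 hgH v).1 ⟨v111, rfl⟩
    rwa [inv_inv] at this
  have c1 : IsConj x (x * v ^ 2) := B.shift h hxJ 2
  have c2 : IsConj y (y * v ^ 2) := B.shift hyP hyJ 2
  have cx : IsConj v x := isConj_iff.2 ⟨g⁻¹, by rw [hx, inv_inv]⟩
  have cy : IsConj v y := isConj_iff.2 ⟨g, rfl⟩
  have c3 : IsConj (y * v ^ 2) (v * x ^ 2) := isConj_iff.2 ⟨g⁻¹, by rw [hy, hx]; simp [pow_two, mul_assoc]⟩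
  have c4 : IsConj v (v * x ^ 2) := (cy.trans c2).trans c3
  obtain ⟨k, hk⟩ := isConj_iff.1 c4
  have hinv : (v * x ^ 2)⁻¹ = x * v ^ 2 := by
    have hv3 : v ^ 3 = 1 := B.j_cube _
    have hx3 : x ^ 3 = 1 := by
      rw [hx, show g⁻¹ * v * g = g⁻¹ * v * g⁻¹⁻¹ by group, conj_pow, hv3]; group
    refine inv_eq_of_mul_eq_one_right ?_
    have hcx : Commute x v := hxv
    calc v * x ^ 2 * (x * v ^ 2) = v * x ^ 3 * v ^ 2 := by simp [pow_succ, mul_assoc]
      _ = v ^ 3 := by rw [hx3, mul_one, ← pow_succ']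
      _ = 1 := hv3
  have c5 : IsConj v⁻¹ (x * v ^ 2) := isConj_iff.2 ⟨k, by rw [← hinv, ← hk]; group⟩
  exact B.not_real ((cx.trans c1).trans c5.symm)

/-- An element centralising a coordinate vector normalises `J`. -/
theorem cent_one {v : V} (hv : OneNz v) {x : X} (hx : x * B.j v = B.j v * x) : x ∈ B.H := by
  obtain ⟨i, n, rfl⟩ := hv
  rw [← B.pow_conj B.s_conj] at hx
  set w := B.s ^ (i : ℕ) with hw
  set c := w⁻¹ * x * w with hc
  have hcn : c * B.j (v100 ^ ((n : ℕ) + 1)) = B.j (v100 ^ ((n : ℕ) + 1)) * c := by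
    calc c * B.j (v100 ^ ((n : ℕ) + 1)) = w⁻¹ * (x * (w * B.j (v100 ^ ((n : ℕ) + 1)) * w⁻¹)) * w := by
          rw [hc]; group
      _ = w⁻¹ * ((w * B.j (v100 ^ ((n : ℕ) + 1)) * w⁻¹) * x) * w := by rw [hx]
      _ = _ := by rw [hc]; group
  have hc1 : c * B.j v100 = B.j v100 * c := by
    have h2 : Commute c (B.j (v100 ^ ((n : ℕ) + 1))) := hcn
    rw [map_pow] at h2
    have h3 := (h2.pow_right ((n : ℕ) + 1)).eq
    rw [← pow_mul] at h3
    have e : B.j v100 ^ (((n : ℕ) + 1) * ((n : ℕ) + 1)) = B.j v100 := by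
      fin_cases n
      · simp
      · show B.j v100 ^ (3 + 1) = _
        rw [pow_succ, B.j_cube, one_mul]
    rwa [e] at h3
  have hwH : w ∈ B.H := pow_mem B.s_H _
  have := mul_mem (mul_mem hwH (B.cent1 c hc1)) (inv_mem hwH)
  rwa [hc, show w * (w⁻¹ * x * w) * w⁻¹ = x by group] at this

/-- The centraliser of a vector without zero coordinates is a conjugate of `P`. -/
theorem cent_all {v : V} (hv : AllNz v) {x : X} (hx : x * B.j v = B.j v * x) :
    ∃ h ∈ B.H, h⁻¹ * x * h ∈ B.P := by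
  obtain ⟨a, b, n, rfl⟩ := hv
  set h := B.j 1 * B.tau ^ (a : ℕ) * (B.s * B.tau * B.s⁻¹) ^ (b : ℕ) * B.s ^ ((0 : Fin 3) : ℕ) with hh
  refine ⟨h, mul_mem (mul_mem (mul_mem (B.range_le_H ⟨1, rfl⟩) (pow_mem B.tau_H _))
    (pow_mem (mul_mem (mul_mem B.s_H B.tau_H) (inv_mem B.s_H)) _)) (pow_mem B.s_H _),
    mem_centralizer_singleton_iff.2 ?_⟩
  rw [← B.elt_conj 1 _ a b 0, ← hh] at hx
  set c := h⁻¹ * x * h with hc
  have hcn : Commute c (B.j (v111 ^ ((n : ℕ) + 1))) := by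
    show c * B.j (v111 ^ ((n : ℕ) + 1)) = B.j (v111 ^ ((n : ℕ) + 1)) * c
    calc c * B.j (v111 ^ ((n : ℕ) + 1)) = h⁻¹ * (x * (h * B.j (v111 ^ ((n : ℕ) + 1)) * h⁻¹)) * h := by
          rw [hc]; group
      _ = h⁻¹ * ((h * B.j (v111 ^ ((n : ℕ) + 1)) * h⁻¹) * x) * h := by rw [hx]
      _ = _ := by rw [hc]; group
  rw [map_pow] at hcn
  have h3 := (hcn.pow_right ((n : ℕ) + 1)).eq
  rw [← pow_mul] at h3
  have e : B.j v111 ^ (((n : ℕ) + 1) * ((n : ℕ) + 1)) = B.j v111 := by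
    fin_cases n
    · simp
    · show B.j v111 ^ (3 + 1) = _
      rw [pow_succ, B.j_cube, one_mul]
  rwa [e] at h3

theorem cent_two {v : V} (hv : TwoNz v) {x : X} (hx : x * B.j v = B.j v * x) : x ∈ B.j.range := by
  haveI : Fact (Nat.Prime 3) := ⟨Nat.prime_three⟩
  set T := centralizer ({B.j v} : Set X) with hT
  have hJT : B.j.range ≤ T := by rintro _ ⟨u, rfl⟩; exact mem_centralizer_singleton_iff.2 (B.j_comm _ _)
  have hTH : ∀ y ∈ T, y ∈ B.H → y ∈ B.j.range := by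
    intro y hy hyH
    obtain ⟨u, a, b, i, e, hc⟩ := B.mem_H_exists hyH
    obtain ⟨rfl, rfl, rfl⟩ := act_two a b i v hv (B.fix_of_comm hc (mem_centralizer_singleton_iff.1 hy))
    exact ⟨u, by rw [e]; simp⟩
  have hJ3 : IsPGroup 3 (B.j.range.subgroupOf T) := IsPGroup.of_card (n := 3) (by
    rw [Nat.card_congr (subgroupOfEquivOfLe hJT).toEquiv, B.card_range]; rfl)
  obtain ⟨R, hR⟩ := hJ3.exists_le_sylow
  have hRJ : (R : Subgroup T) = B.j.range.subgroupOf T := by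
    by_contra hne
    haveI : Group.IsNilpotent (R : Subgroup T) := R.2.isNilpotent
    have hlt : (B.j.range.subgroupOf T).subgroupOf (R : Subgroup T) < ⊤ :=
      lt_of_le_of_ne le_top fun h => hne (le_antisymm (subgroupOf_eq_top.1 h) hR)
    obtain ⟨r, hr, hr'⟩ := SetLike.exists_of_lt (Group.normalizerCondition_of_isNilpotent _ hlt)
    refine hr' (mem_subgroupOf.2 (mem_subgroupOf.2 (hTH _ ((r : T)).2 ?_)))
    refine mem_normalizer_iff_map_conj_eq.2 (eq_of_le_of_card_ge ?_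
      (card_map_of_injective (MulAut.conj _).injective).ge)
    rintro _ ⟨a, ha, rfl⟩
    have h1 := (mem_normalizer_iff.1 hr ⟨⟨a, hJT ha⟩, hR (mem_subgroupOf.2 ha)⟩).1
      (mem_subgroupOf.2 (mem_subgroupOf.2 ha))
    exact mem_subgroupOf.1 (mem_subgroupOf.1 h1)
  have hNC : normalizer ((R : Subgroup T) : Set T) ≤ centralizer ((R : Subgroup T) : Set T) := by
    intro n hn
    have hnJ : (n : X) ∈ B.j.range := by
      refine hTH _ n.2 (mem_normalizer_iff_map_conj_eq.2 (eq_of_le_of_card_ge ?_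
        (card_map_of_injective (MulAut.conj _).injective).ge))
      rintro _ ⟨a, ha, rfl⟩
      have h1 := (mem_normalizer_iff.1 hn ⟨a, hJT ha⟩).1 (by rw [hRJ]; exact mem_subgroupOf.2 ha)
      rw [hRJ] at h1
      exact mem_subgroupOf.1 h1
    refine mem_centralizer_iff.2 fun r hr => Subtype.ext ?_
    obtain ⟨c, hc⟩ := hnJ
    obtain ⟨d, hd⟩ : (r : X) ∈ B.j.range := mem_subgroupOf.1 (hRJ.le hr)
    show (r : X) * (n : X) = n * r
    rw [← hc, ← hd, B.j_comm]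
  obtain ⟨ker, hkn, hcompl, hk3⟩ : ∃ ker : Subgroup T, ker.Normal ∧ IsComplement' ker (R : Subgroup T) ∧
      ¬ 3 ∣ Nat.card ker :=
    ⟨_, inferInstance, MonoidHom.ker_transferSylow_isComplement' R hNC,
      MonoidHom.not_dvd_card_ker_transferSylow R hNC⟩
  set O := ker.map T.subtype with hO
  have hOT : O ≤ T := map_subtype_le _
  have hcop : Nat.Coprime 27 (Nat.card O) := by
    rw [hO, Nat.card_congr (equivMapOfInjective _ _ T.subtype_injective).toEquiv.symm, show 27 = 3 ^ 3 from rfl]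
    exact ((Nat.prime_three.coprime_iff_not_dvd).2 hk3).pow_left 3
  have hJn : B.j.range ≤ normalizer (O : Set X) := by
    intro a ha
    refine mem_normalizer_iff_map_conj_eq.2 (eq_of_le_of_card_ge ?_
      (card_map_of_injective (MulAut.conj a).injective).ge)
    rintro _ ⟨_, ⟨k, hk, rfl⟩, rfl⟩
    refine mem_map.2 ⟨⟨a, hJT ha⟩ * k * ⟨a, hJT ha⟩⁻¹, hkn.conj_mem k hk ⟨a, hJT ha⟩, ?_⟩
    simp
  have hOJ : ∀ y ∈ O, y ∈ B.j.range → y = 1 := by
    intro y hy hyJ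
    have h1 : orderOf y ∣ Nat.card O := Subgroup.orderOf_dvd_natCard _ hy
    have h2 : orderOf y ∣ 27 := B.card_range ▸ Subgroup.orderOf_dvd_natCard _ hyJ
    exact orderOf_eq_one_iff.1 (Nat.eq_one_of_dvd_coprimes hcop h2 h1)
  have hone : ∀ w, OneNz w → ∀ y ∈ O, y * B.j w = B.j w * y → y = 1 := fun w hw y hy h =>
    hOJ y hy (hTH y (hOT hy) (B.cent_one hw h))
  have hall : ∀ w, AllNz w → ∀ y ∈ O, y * B.j w = B.j w * y → y = 1 := by
    intro w hw y hy h
    obtain ⟨k, hk, hkP⟩ := B.cent_all hw h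
    refine hOJ y hy (hTH y (hOT hy) ?_)
    have := mul_mem (mul_mem hk (B.P_le_H hkP)) (inv_mem hk)
    rwa [show k * (k⁻¹ * y * k) * k⁻¹ = y by group] at this
  -- two applications of the generation by centralisers
  obtain ⟨u, w, hu, hw, hne1, hne2, hplane⟩ := plane_second v hv
  set E : Subgroup V := zpowers u ⊔ zpowers w with hE
  set A := E.map B.j with hA
  haveI : IsMulCommutative A := ⟨⟨fun a b => Subtype.ext (by
    obtain ⟨a', -, ha⟩ := a.2
    obtain ⟨b', -, hb⟩ := b.2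
    show (a : X) * b = b * a
    rw [← ha, ← hb, B.j_comm])⟩⟩
  have hu1 : u ≠ 1 := fun h => one_not_oneNz (h ▸ hu)
  have hnc : ¬ IsCyclic A := by
    intro hcyc
    obtain ⟨⟨gen, hgen⟩, hgen'⟩ := hcyc.exists_generator
    have ho : orderOf gen ∣ 3 := by
      obtain ⟨a, -, rfl⟩ := hgen
      exact orderOf_dvd_of_pow_eq_one (B.j_cube a)
    have huA : B.j u ∈ A := mem_map_of_mem _ (mem_sup_left (mem_zpowers u))
    have hwA : B.j w ∈ A := mem_map_of_mem _ (mem_sup_right (mem_zpowers w))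
    have key : ∀ c : V, B.j c ∈ A → B.j c ∈ zpowers gen := by
      intro c hc
      obtain ⟨k, hk⟩ := hgen' ⟨B.j c, hc⟩
      exact ⟨k, congrArg Subtype.val hk⟩
    have hgu : zpowers (B.j u) = zpowers gen := by
      refine eq_of_le_of_card_ge (zpowers_le.2 (key u huA)) ?_
      rw [Nat.card_zpowers, Nat.card_zpowers,
        orderOf_eq_prime (B.j_cube u) (fun h => hu1 (B.inj (h.trans (map_one _).symm)))]
      exact Nat.le_of_dvd (by norm_num) ho
    obtain ⟨k, hk⟩ : B.j w ∈ zpowers (B.j u) := hgu ▸ key w hwA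
    have hk' : w = u ^ k := B.inj (by rw [map_zpow]; exact hk.symm)
    have : ∀ a : V, ∀ k : ℤ, a ^ k = 1 ∨ a ^ k = a ∨ a ^ k = a⁻¹ := by
      intro a k
      obtain ⟨i, hi⟩ := zpow_three a k
      rw [hi]
      exact pow_cases a i
    rcases this u k with h | h | h
    · exact one_not_oneNz (h ▸ hk' ▸ hw)
    · exact hne1 (hk'.trans h)
    · exact hne2 (hk'.trans h)
  have hAJ : A ≤ B.j.range := map_le_range _ _
  have hcopA : (Nat.card A).Coprime (Nat.card O) :=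
    hcop.coprime_dvd_left (B.card_range ▸ card_dvd_of_le hAJ)
  have hO1 : O = ⊥ := by
    rw [← CoprimeAct.generated_by_centralizers hnc (hAJ.trans hJn) hcopA]
    refine le_bot_iff.1 (iSup₂_le ?_)
    rintro _ ⟨ha, ha1⟩ y hy
    obtain ⟨c, hc, rfl⟩ := ha
    obtain ⟨hyO, hyc⟩ := mem_inf.1 hy
    rw [mem_bot]
    have hyc' := mem_centralizer_singleton_iff.1 hyc
    obtain ⟨c1, hc1, c2, hc2, rfl⟩ := mem_sup.1 hc
    obtain ⟨k, rfl⟩ := mem_zpowers_iff.1 hc1
    obtain ⟨l, rfl⟩ := mem_zpowers_iff.1 hc2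
    obtain ⟨i, hi⟩ := zpow_three u k
    obtain ⟨i', hi'⟩ := zpow_three w l
    rw [hi, hi'] at hyc' ha1
    rcases hplane i i' (fun h => ha1 (by rw [h, map_one])) with h | ⟨n, h⟩
    · exact hone _ h y hyO hyc'
    · refine hall _ h y hyO ?_
      rw [map_mul, map_pow]
      exact ((show Commute y (B.j v) from mem_centralizer_singleton_iff.1 (hOT hyO)).mul_right
        ((show Commute y _ from hyc').pow_right _)).eq
  have htop : (R : Subgroup T) = ⊤ := by
    have h := hcompl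
    rw [show ker = ⊥ from (map_eq_bot_iff_of_injective _ T.subtype_injective).1 hO1] at h
    exact isComplement'_bot_left.1 h
  have hxT : (⟨x, mem_centralizer_singleton_iff.2 hx⟩ : T) ∈ (R : Subgroup T) := htop ▸ mem_top _
  rw [hRJ] at hxT
  exact mem_subgroupOf.1 hxT

end Bar

end Cfsg.Agent.McLThree
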