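import Cfsg.Agent.Lib.McLThree.Bar

/-!
In the configuration of `Bar` the abelian subgroup of order 27 is normal.
-/

set_option autoImplicit false
set_option maxRecDepth 20000
set_option maxHeartbeats 1000000
set_option synthInstance.maxSize 2000
set_option linter.style.haveILetI false
set_option linter.unusedSectionVars false

namespace Cfsg.Agent.McLThree

open Subgroup
open Cfsg.Agent.ThreeTI.Cube (V pr)

theorem sum_rot : ∀ (u : V) (i : Fin 3),
    ∃ k : Fin 3, u * rot3^[(i : ℕ)] u * rot3^[(i : ℕ)] (rot3^[(i : ℕ)] u) = v111 ^ (k : ℕ) ∨ i = 0 := by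
  decide +kernel

theorem rot_rot_100 : rot3 v100 * rot3 (rot3 v100) * v100 = v111 := by decide +kernel

theorem sign_two : ∀ v : V, ∃ a b : V, v = a * sgA a⁻¹ * (b * sgB b⁻¹) := by decide +kernel

theorem act_cube : ∀ (a b : Fin 2), (∀ v : V, act3 a b 0 (act3 a b 0 (act3 a b 0 v)) = v) → a = 0 ∧ b = 0 := by
  decide +kernel

theorem act_orbit : ∀ (a b : Fin 2) (u : V), pr (act3 a b 0 u) = pr u := by decide +kernel

theorem act_fix : ∀ (a b : Fin 2) (v : V), pr v ≠ 0 → act3 a b 0 v = v → a = 0 ∧ b = 0 := by decide +kernel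

theorem act_trans : ∀ (u v : V), pr u = pr v → pr u ≠ 0 → ∃ a b : Fin 2, act3 a b 0 u = v := by decide +kernel

theorem act_real : ∀ v : V, pr v = 0 → ∃ a b : Fin 2, act3 a b 0 v = v⁻¹ := by decide +kernel

theorem val_sub_three : ∀ i k : Fin 3, ((i - k : Fin 3) : ℕ) + k = i ∨ ((i - k : Fin 3) : ℕ) + k = i + 3 := by
  decide

theorem three_gen : ∀ i : Fin 3, Multiplicative.ofAdd (1 : ZMod 3) ^ (i : ℕ) = 1 → i = 0 := by decide

theorem three_all : ∀ c : Multiplicative (ZMod 3), ∃ i : Fin 3,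
    c = Multiplicative.ofAdd (1 : ZMod 3) ^ (i : ℕ) := by decide

theorem tau_moves : Multiplicative.ofAdd ((0 : ZMod 3), (1 : ZMod 3), (0 : ZMod 3)) ≠
    sgA (Multiplicative.ofAdd ((0 : ZMod 3), (1 : ZMod 3), (0 : ZMod 3))) := by decide +kernel

namespace Bar

variable {X : Type*} [Group X] [Finite X] (B : Bar X)
include B

theorem s_P : B.s ∈ B.P := B.mem_P.2 ⟨1, 1, by rw [map_one, one_mul]; exact (pow_one _).symm⟩

theorem s_pow_range {i : Fin 3} (h : B.s ^ (i : ℕ) ∈ B.j.range) : i = 0 := by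
  obtain ⟨u, hu⟩ := h
  refine act_one 0 0 i (B.inj ?_)
  show B.j (rot3^[(i : ℕ)] v100) = B.j v100
  rw [← B.pow_conj B.s_conj, ← hu, B.j_comm, mul_inv_cancel_right]

/-- The element of order nine. -/
def u9 : X := B.s * B.j v100

theorem u9_P : B.u9 ∈ B.P := mul_mem B.s_P (B.range_le_P ⟨_, rfl⟩)

theorem u9_cube : B.u9 ^ 3 = B.j v111 := by
  have hs2 : B.s * B.j v100 * B.s⁻¹ = B.j (rot3 v100) := B.s_conj _
  have h2 : B.s * (B.s * B.j v100 * B.s⁻¹) * B.s⁻¹ = B.j (rot3 (rot3 v100)) := by rw [hs2, B.s_conj]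
  have e : B.u9 ^ 3 =
      (B.s * B.j v100 * B.s⁻¹) * (B.s * (B.s * B.j v100 * B.s⁻¹) * B.s⁻¹) * (B.s ^ 3 * B.j v100) := by
    rw [u9]; simp [pow_succ, mul_assoc]
  rw [e, B.s3, one_mul, h2, hs2, ← map_mul, ← map_mul]
  exact congrArg B.j rot_rot_100

theorem cube_P {x : X} (hx : x ∈ B.P) : ∃ k : Fin 3, x ^ 3 = B.j (v111 ^ (k : ℕ)) := by
  obtain ⟨u, i, rfl⟩ := B.mem_P.1 hx
  obtain ⟨k, hk | rfl⟩ := sum_rot u i
  · refine ⟨k, ?_⟩
    have h1 := B.pow_conj B.s_conj (i : ℕ) u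
    have h2 : B.s ^ (i : ℕ) * (B.s ^ (i : ℕ) * B.j u * (B.s ^ (i : ℕ))⁻¹) * (B.s ^ (i : ℕ))⁻¹ =
        B.j (rot3^[(i : ℕ)] (rot3^[(i : ℕ)] u)) := by rw [h1, B.pow_conj B.s_conj]
    rw [← hk, map_mul, map_mul, ← h2, ← h1]
    have h3 : (B.s ^ (i : ℕ)) ^ 3 = 1 := by rw [← pow_mul, mul_comm, pow_mul, B.s3, one_pow]
    generalize B.s ^ (i : ℕ) = w at h3 ⊢
    calc (B.j u * w) ^ 3
        = B.j u * (w * B.j u * w⁻¹) * (w * (w * B.j u * w⁻¹) * w⁻¹) * w ^ 3 := by
          simp [pow_succ, mul_assoc]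
      _ = _ := by rw [h3, mul_one]
  · exact ⟨0, by simp [← map_pow, act_basic.2.2]⟩

theorem range_subgroupOf_normal : (B.j.range.subgroupOf B.P).Normal :=
  ⟨fun _ hn g => mem_subgroupOf.2 ((mem_normalizer_iff.1 (B.P_le_H g.2) _).1 (mem_subgroupOf.1 hn))⟩

/-- The character of `P` with kernel `J`. -/
theorem exists_phi : ∃ φ : B.P →* Multiplicative (ZMod 3),
    (∀ x : B.P, (x : X) ∈ B.j.range → φ x = 1) ∧ φ ⟨B.s, B.s_P⟩ = Multiplicative.ofAdd 1 := by
  classical
  have key : ∀ (u v : V) (i k : Fin 3),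
      B.j u * B.s ^ (i : ℕ) = B.j v * B.s ^ (k : ℕ) → i = k := by
    intro u v i k h
    have hs : B.s ^ ((i - k : Fin 3) : ℕ) * B.s ^ (k : ℕ) = B.s ^ (i : ℕ) := by
      rw [← pow_add]
      rcases val_sub_three i k with h | h
      · rw [h]
      · rw [h, pow_add, B.s3, mul_one]
    have h1 : B.s ^ ((i - k : Fin 3) : ℕ) ∈ B.j.range := by
      refine ⟨u⁻¹ * v, ?_⟩
      rw [map_mul, map_inv]
      calc (B.j u)⁻¹ * B.j v = (B.j u)⁻¹ * (B.j v * B.s ^ (k : ℕ)) * (B.s ^ (k : ℕ))⁻¹ := by group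
        _ = B.s ^ (i : ℕ) * (B.s ^ (k : ℕ))⁻¹ := by rw [← h]; group
        _ = _ := by rw [← hs, mul_inv_cancel_right]
    exact sub_eq_zero.1 (B.s_pow_range h1)
  choose u i hui using fun x : B.P => B.mem_P.1 x.2
  refine ⟨{
    toFun := fun x => Multiplicative.ofAdd (((i x : Fin 3) : ℕ) : ZMod 3)
    map_one' := ?_
    map_mul' := fun x y => ?_ }, fun x hx => ?_, ?_⟩
  · rw [key (u 1) 1 (i 1) 0 (by rw [← hui 1]; simp)]; rfl
  · have h : i (x * y) = i x + i y := by
      refine key (u (x * y)) (u x * rot3^[((i x : Fin 3) : ℕ)] (u y)) _ _ ?_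
      rw [← hui, coe_mul, hui x, hui y, map_mul, ← B.pow_conj B.s_conj]
      have hs : B.s ^ ((i x + i y : Fin 3) : ℕ) = B.s ^ ((i x : Fin 3) : ℕ) * B.s ^ ((i y : Fin 3) : ℕ) := by
        rw [← pow_add, Fin.val_add]; exact (pow_eq_pow_mod _ B.s3).symm
      rw [hs]
      generalize B.s ^ ((i x : Fin 3) : ℕ) = a
      generalize B.s ^ ((i y : Fin 3) : ℕ) = b
      group
    rw [h, ← ofAdd_add]
    congr 1
    exact (by decide : ∀ a b : Fin 3,
      (((a + b : Fin 3) : ℕ) : ZMod 3) = ((a : ℕ) : ZMod 3) + ((b : ℕ) : ZMod 3)) _ _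
  · obtain ⟨w, hw⟩ := hx
    show Multiplicative.ofAdd (((i x : Fin 3) : ℕ) : ZMod 3) = 1
    rw [key (u x) w (i x) 0 (by rw [← hui x]; simp [hw])]
    rfl
  · show Multiplicative.ofAdd (((i ⟨B.s, B.s_P⟩ : Fin 3) : ℕ) : ZMod 3) = _
    rw [key (u ⟨B.s, B.s_P⟩) 1 (i ⟨B.s, B.s_P⟩) 1 (by rw [← hui, map_one, one_mul]; exact (pow_one _).symm)]
    rfl

/-- A homomorphism detecting the permutation of the coordinates. -/
theorem exists_hom : ∃ f : X →* Multiplicative (ZMod 3), f B.s = Multiplicative.ofAdd 1 ∧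
    (∀ v, f (B.j v) = 1) ∧ f B.tau = 1 := by
  classical
  obtain ⟨φ, hφJ, hφs⟩ := B.exists_phi
  set f := MonoidHom.transfer φ with hf
  have h3 : ∀ c : Multiplicative (ZMod 3), c = c⁻¹ → c = 1 := by decide
  have htau : f B.tau = 1 := h3 _ (eq_inv_of_mul_eq_one_left (by rw [← map_mul, B.tau2, map_one]))
  have hJ : ∀ v, f (B.j v) = 1 := by
    intro v
    obtain ⟨a, b, rfl⟩ := sign_two v
    have e1 : ∀ x : V, f (B.j (sgA x)) = f (B.j x) := fun x => by
      rw [← B.tau_conj, map_mul, map_mul, map_inv, mul_comm (f B.tau), mul_inv_cancel_right]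
    have e2 : ∀ x : V, f (B.j (sgB x)) = f (B.j x) := fun x => by
      rw [← B.sigma_conj, map_mul, map_mul, map_inv, mul_comm (f (B.s * B.tau * B.s⁻¹)), mul_inv_cancel_right]
    simp only [map_mul, e1, e2, map_inv, mul_inv_cancel, mul_one]
  refine ⟨f, ?_, hJ, htau⟩
  have hu : f B.u9 = Multiplicative.ofAdd 1 := by
    letI : Fintype (Quotient (MulAction.orbitRel (zpowers B.u9) (X ⧸ B.P))) := Fintype.ofFinite _
    rw [hf, MonoidHom.transfer_eq_prod_quotient_orbitRel_zpowers_quot]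
    set q0 : Quotient (MulAction.orbitRel (zpowers B.u9) (X ⧸ B.P)) :=
      Quotient.mk'' ((1 : X) : X ⧸ B.P)
    have hfix : ∀ w : X ⧸ B.P, w = ((1 : X) : X ⧸ B.P) → ∀ a ∈ zpowers B.u9, a • w = w := by
      rintro w rfl a ha
      rw [MulAction.Quotient.smul_mk]
      exact (QuotientGroup.eq.2 (by simpa using zpowers_le.2 B.u9_P ha)).symm
    have hq0 : q0.out = ((1 : X) : X ⧸ B.P) := by
      obtain ⟨a, ha⟩ := MulAction.orbitRel_apply.1 (Quotient.mk_out (s := MulAction.orbitRel (zpowers B.u9) (X ⧸ B.P))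
        ((1 : X) : X ⧸ B.P))
      exact ha.symm.trans (hfix _ rfl _ a.2)
    have h9 : B.u9 ^ 9 = 1 := by rw [show 9 = 3 * 3 from rfl, pow_mul, B.u9_cube, B.j_cube]
    rw [Finset.prod_eq_single_of_mem q0 (Finset.mem_univ _)]
    · -- the fixed coset
      have hn : Function.minimalPeriod (B.u9 • ·) q0.out = 1 :=
        Function.minimalPeriod_eq_one_iff_isFixedPt.2 (hfix _ hq0 _ (mem_zpowers _))
      have hg : q0.out.out ∈ B.P := by
        have := QuotientGroup.eq.1 ((QuotientGroup.out_eq' q0.out).trans hq0)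
        simpa using this
      rw [show (⟨_, QuotientGroup.out_conj_pow_minimalPeriod_mem B.P B.u9 q0.out⟩ : B.P) =
        ⟨q0.out.out, hg⟩⁻¹ * (⟨B.s, B.s_P⟩ * ⟨B.j v100, B.range_le_P ⟨_, rfl⟩⟩) * ⟨q0.out.out, hg⟩ from
          Subtype.ext (by
            show q0.out.out⁻¹ * B.u9 ^ (Function.minimalPeriod (B.u9 • ·) q0.out) * q0.out.out = _
            rw [hn, pow_one]; rfl), map_mul, map_mul, map_inv, map_mul, hφs,
        hφJ ⟨B.j v100, B.range_le_P ⟨_, rfl⟩⟩ ⟨_, rfl⟩, mul_one, mul_comm, mul_inv_cancel_left]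
    intro q _ hq
    set g := q.out.out with hg
    set n := Function.minimalPeriod (B.u9 • ·) q.out with hn
    have hmem : g⁻¹ * B.u9 ^ n * g ∈ B.P := QuotientGroup.out_conj_pow_minimalPeriod_mem B.P B.u9 q.out
    have hdvd : n ∣ 3 ^ 2 := by
      refine Function.IsPeriodicPt.minimalPeriod_dvd ?_
      show (B.u9 • ·)^[3 ^ 2] q.out = q.out
      rw [smul_iterate, show (3 : ℕ) ^ 2 = 9 from rfl, h9]
      exact one_smul _ _
    obtain ⟨k, hk, hk'⟩ := (Nat.dvd_prime_pow Nat.prime_three).1 hdvd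
    refine hφJ _ ?_
    show g⁻¹ * B.u9 ^ n * g ∈ B.j.range
    interval_cases k
    · exfalso
      rw [hk', pow_zero, pow_one] at hmem
      obtain ⟨m, hm⟩ := B.cube_P hmem
      rw [show g⁻¹ * B.u9 * g = g⁻¹ * B.u9 * g⁻¹⁻¹ by group, conj_pow, B.u9_cube] at hm
      fin_cases m
      · simp only [Nat.reduceMod, pow_zero, map_one] at hm
        have : B.j v111 = 1 := by
          calc B.j v111 = g * (g⁻¹ * B.j v111 * g⁻¹⁻¹) * g⁻¹ := by group
            _ = 1 := by rw [hm]; group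
        exact absurd (B.inj (this.trans (map_one _).symm)) (by decide +kernel)
      · simp only [Nat.reduceMod, pow_one] at hm
        have hgP : g ∈ B.P := by
          refine mem_centralizer_singleton_iff.2 ?_
          calc g * B.j v111 = g * (g⁻¹ * B.j v111 * g⁻¹⁻¹) := by rw [hm]
            _ = _ := by group
        refine hq ?_
        rw [← q.out_eq]
        show Quotient.mk'' q.out = Quotient.mk'' ((1 : X) : X ⧸ B.P)
        congr 1
        rw [← QuotientGroup.out_eq' q.out, ← hg]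
        exact (QuotientGroup.eq.2 (by simpa using hgP))
      · have h2 : B.j (v111 ^ 2) = (B.j v111)⁻¹ := by
          rw [map_pow]
          exact eq_inv_of_mul_eq_one_left (by rw [← pow_succ, B.j_cube])
        exact B.not_real (isConj_iff.2 ⟨g⁻¹, hm.trans h2⟩)
    · rw [hk', pow_one, B.u9_cube] at hmem ⊢
      exact B.conj_diag_mem hmem
    · rw [hk', show (3 : ℕ) ^ 2 = 9 from rfl, h9]
      exact ⟨1, by simp⟩
  rwa [u9, map_mul, hJ, mul_one] at hu

/-- The normaliser of `J` is the whole group. -/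
theorem top : ∀ x : X, x ∈ B.H := by
  classical
  haveI : Fact (Nat.Prime 3) := ⟨Nat.prime_three⟩
  obtain ⟨f, hfs, hfJ, hft⟩ := B.exists_hom
  set K := f.ker with hK
  have hJK : B.j.range ≤ K := by rintro _ ⟨v, rfl⟩; exact hfJ v
  have hσ : f (B.s * B.tau * B.s⁻¹) = 1 := by rw [map_mul, map_mul, hft, mul_one, map_inv, mul_inv_cancel]
  -- the shape of the elements of the normaliser in the kernel
  have shape : ∀ x ∈ B.H, x ∈ K → ∃ (u : V) (a b : Fin 2),
      x = B.j u * B.tau ^ (a : ℕ) * (B.s * B.tau * B.s⁻¹) ^ (b : ℕ) ∧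
      ∀ v, x * B.j v * x⁻¹ = B.j (act3 a b 0 v) := by
    intro x hx hxK
    obtain ⟨u, a, b, i, e, hc⟩ := B.mem_H_exists hx
    have hi : i = 0 := by
      have h1 : f x = 1 := hxK
      rw [e, map_mul, map_mul, map_mul, map_pow, map_pow, map_pow, hfJ, hft, hσ, hfs, one_pow, one_pow, one_mul,
        one_mul] at h1
      rw [one_mul] at h1
      exact three_gen i h1
    subst hi
    exact ⟨u, a, b, by rw [e]; simp, hc⟩
  have inK : ∀ (u : V) (a b : Fin 2),
      B.j u * B.tau ^ (a : ℕ) * (B.s * B.tau * B.s⁻¹) ^ (b : ℕ) * B.s ^ ((0 : Fin 3) : ℕ) ∈ K := by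
    intro u a b
    rw [hK, MonoidHom.mem_ker]
    simp [map_mul, map_pow, hfJ, hft, hσ, hfs, map_inv]
  have three : ∀ x ∈ B.H, x ∈ K → x ^ 3 = 1 → x ∈ B.j.range := by
    intro x hx hxK h3
    obtain ⟨u, a, b, e, hc⟩ := shape x hx hxK
    obtain ⟨rfl, rfl⟩ := act_cube a b fun v => B.inj (by
      rw [← hc, ← hc, ← hc]
      have hx2 : x⁻¹ = x * x := inv_eq_of_mul_eq_one_right (by rw [← h3, pow_succ, pow_two, mul_assoc])
      calc x * (x * (x * B.j v * x⁻¹) * x⁻¹) * x⁻¹ = x ^ 3 * B.j v * (x ^ 3)⁻¹ := by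
            simp [pow_succ, mul_assoc]
        _ = _ := by rw [h3]; group)
    exact ⟨u, by rw [e]; simp⟩
  have cent : ∀ v : V, v ≠ 1 → ∀ x ∈ K, x * B.j v = B.j v * x → x ∈ B.H := by
    intro v hv x hxK hx
    rcases three_kinds v hv with h | h | h
    · exact B.cent_one h hx
    · obtain ⟨k, hk, hkP⟩ := B.cent_all h hx
      have := mul_mem (mul_mem hk (B.P_le_H hkP)) (inv_mem hk)
      rwa [show k * (k⁻¹ * x * k) * k⁻¹ = x by group] at this
    · exact B.range_le_H (B.cent_two h hx)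
  have ti : ∀ u v : V, u ≠ 1 → ∀ g ∈ K, g * B.j u * g⁻¹ = B.j v → g ∈ B.H := by
    intro u v hu g hg hgu
    have hv : v ≠ 1 := by
      rintro rfl
      rw [map_one, conj_eq_one_iff] at hgu
      exact hu (B.inj (hgu.trans (map_one _).symm))
    refine mem_normalizer_iff_map_conj_eq.2 (eq_of_le_of_card_ge ?_
      (card_map_of_injective (MulAut.conj g).injective).ge)
    rintro _ ⟨_, ⟨w, rfl⟩, rfl⟩
    show g * B.j w * g⁻¹ ∈ B.j.range
    have hmem : g * B.j w * g⁻¹ ∈ K := mul_mem (mul_mem hg (hJK ⟨w, rfl⟩)) (inv_mem hg)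
    refine three _ (cent v hv _ hmem ?_) hmem (by rw [conj_pow, B.j_cube, mul_one, mul_inv_cancel])
    rw [← hgu]
    exact (Commute.map (show Commute (B.j w) (B.j u) from B.j_comm w u) (MulAut.conj g).toMonoidHom).eq
  -- the kernel normalises `J`
  have hKH : ∀ x ∈ K, x ∈ B.H := by
    intro x hx
    by_contra hxH
    let jK : V →* K := B.j.codRestrict K fun v => hfJ v
    let HK : Subgroup K := B.H.subgroupOf K
    have rangeK : ∀ y : K, y ∈ jK.range ↔ (y : X) ∈ B.j.range := fun y =>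
      ⟨fun ⟨v, hv⟩ => ⟨v, congrArg Subtype.val hv⟩, fun ⟨v, hv⟩ => ⟨v, Subtype.ext hv⟩⟩
    have conjK : ∀ (a b : Fin 2) (u v : V), act3 a b 0 u = v → IsConj (jK u) (jK v) := fun a b u v h =>
      isConj_iff.2 ⟨⟨_, inK 1 a b⟩, Subtype.ext (by
        show _ * B.j u * _⁻¹ = B.j v
        rw [B.elt_conj, h])⟩
    let D : Cfsg.Agent.ThreeTI.Cube.Data K HK := {
      j := jK
      inj := fun u v h => B.inj (congrArg Subtype.val h)
      mem := fun v => mem_subgroupOf.2 (B.range_le_H ⟨v, rfl⟩)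
      ti := fun u v hu g hg => mem_subgroupOf.2 (ti u v hu g g.2 (congrArg Subtype.val hg))
      cent := fun v hv g hg => mem_subgroupOf.2 (cent v hv g g.2
        (congrArg Subtype.val (mem_centralizer_singleton_iff.1 hg)))
      three := fun h hh h3 => (rangeK h).2 (three h (mem_subgroupOf.1 hh) h.2
        (congrArg Subtype.val h3))
      diag := fun v hv h hh hc => by
        obtain ⟨u, a, b, e, hact⟩ := shape h (mem_subgroupOf.1 hh) h.2
        obtain ⟨rfl, rfl⟩ := act_fix a b v hv (B.fix_of_comm hact (congrArg Subtype.val hc))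
        exact (rangeK h).2 ⟨u, by rw [e]; simp⟩
      orbit := fun u v h hh hc => by
        obtain ⟨w, a, b, -, hact⟩ := shape h (mem_subgroupOf.1 hh) h.2
        rw [← B.inj ((hact u).symm.trans (congrArg Subtype.val hc)), act_orbit]
      trans := fun u v h1 h2 => by
        obtain ⟨a, b, h⟩ := act_trans u v h1 h2
        exact conjK a b u v h
      real := fun v hv => by
        obtain ⟨a, b, h⟩ := act_real v hv
        exact conjK a b v v⁻¹ h
      big := ?_ }
    · exact D.false_of_data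
    · let g : K := ⟨x, hx⟩
      have hgH : g ∉ HK := fun h => hxH (mem_subgroupOf.1 h)
      let q : Option V → K ⧸ HK := fun o => o.elim ((1 : K) : K ⧸ HK) fun v => ((jK v * g : K) : K ⧸ HK)
      have hq : Function.Injective q := by
        have hbase : ∀ v, ((1 : K) : K ⧸ HK) ≠ ((jK v * g : K) : K ⧸ HK) := fun v h => by
          rw [QuotientGroup.eq, inv_one, one_mul] at h
          exact hgH ((HK.mul_mem_cancel_left (mem_subgroupOf.2 (B.range_le_H ⟨v, rfl⟩))).1 h)
        rintro (_ | u) (_ | v) h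
        · rfl
        · exact absurd h (hbase v)
        · exact absurd h.symm (hbase u)
        · by_contra hne
          have hd : u⁻¹ * v ≠ 1 := fun h1 => hne (by rw [inv_mul_eq_one.1 h1])
          have h' : x⁻¹ * B.j (u⁻¹ * v) * x⁻¹⁻¹ ∈ B.H := by
            have h1 : (B.j u * x)⁻¹ * (B.j v * x) ∈ B.H := mem_subgroupOf.1 (QuotientGroup.eq.1 h)
            rw [show x⁻¹ * B.j (u⁻¹ * v) * x⁻¹⁻¹ = (B.j u * x)⁻¹ * (B.j v * x) by
              rw [map_mul, map_inv]; group]
            exact h1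
          obtain ⟨w, hw⟩ := three _ h' (mul_mem (mul_mem (inv_mem hx) (hfJ _)) (inv_mem (inv_mem hx)))
            (by rw [conj_pow, B.j_cube, mul_one, mul_inv_cancel])
          exact hxH (inv_mem_iff.1 (ti _ w hd x⁻¹ (inv_mem hx) hw.symm))
      have h28 : 28 ≤ HK.index := by
        have := Nat.card_le_card_of_injective q hq
        rw [Finite.card_option] at this
        simpa [Subgroup.index_eq_card] using this
      have hJHK : jK.range ≤ HK := fun y hy => mem_subgroupOf.2 (B.range_le_H ((rangeK y).1 hy))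
      have h27 : Nat.card jK.range = 27 := by
        rw [← Nat.card_congr (MonoidHom.ofInjective (fun u v h => B.inj (congrArg Subtype.val h))).toEquiv,
          Nat.card_eq_fintype_card]
        rfl
      have hlt : 27 < Nat.card HK := by
        rw [← h27]
        refine lt_of_le_of_ne (card_le_of_le hJHK) fun heq => ?_
        have htauK : B.tau ∈ K := hft
        have : (⟨B.tau, htauK⟩ : K) ∈ HK := mem_subgroupOf.2 B.tau_H
        rw [← eq_of_le_of_card_ge hJHK heq.ge, rangeK] at this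
        obtain ⟨w, hw⟩ := this
        have h2 := B.tau_conj (Multiplicative.ofAdd ((0 : ZMod 3), (1 : ZMod 3), (0 : ZMod 3)))
        rw [show B.tau = B.j w from hw.symm, B.j_comm, mul_inv_cancel_right] at h2
        exact tau_moves (B.inj h2)
      obtain ⟨c, hc⟩ := card_dvd_of_le hJHK
      rw [h27] at hc
      have h54 : 54 ≤ Nat.card HK := by
        rw [hc] at hlt ⊢
        have : 2 ≤ c := by
          by_contra h
          interval_cases c <;> omega
        omega
      rw [← HK.card_mul_index]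
      calc 1458 < 54 * 28 := by norm_num
        _ ≤ _ := Nat.mul_le_mul h54 h28
  intro x
  obtain ⟨i, hi⟩ : ∃ i : Fin 3, f x = f (B.s ^ (i : ℕ)) := by
    obtain ⟨i, hi⟩ := three_all (f x)
    exact ⟨i, by rw [map_pow, hfs, hi]⟩
  have h := hKH (x * (B.s ^ (i : ℕ))⁻¹) (by rw [hK, MonoidHom.mem_ker, map_mul, map_inv, hi, mul_inv_cancel])
  have := mul_mem h (pow_mem B.s_H (i : ℕ))
  rwa [inv_mul_cancel_right] at this

end Bar

end Cfsg.Agent.McLThree
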