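import Cfsg.Agent.Lib.McLThree.Model
import Cfsg.Agent.Lib.FGBasics.Extraspecial
import Mathlib.GroupTheory.PGroup
import Mathlib.GroupTheory.Perm.Cycle.Type

/-!
The normaliser of `Z` and the abelian subgroup `J` in the 3-local configuration of McLaughlin's
group: the common hypotheses and their first consequences.
-/

set_option autoImplicit false
set_option maxRecDepth 20000
set_option maxHeartbeats 1000000
set_option synthInstance.maxSize 2000
set_option linter.style.haveILetI false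
set_option linter.unusedSectionVars false

namespace Cfsg.Agent.McLThree

open Subgroup
open scoped commutatorElement

theorem three25_notnormal : ∀ x : S25, x ^ 3 = 1 → x ≠ 1 →
    ∃ g : S25, g * x * g⁻¹ ≠ x ∧ g * x * g⁻¹ ≠ x⁻¹ := by
  decide +kernel

/-- The 3-local configuration. -/
structure Conf (G : Type*) [Group G] [Finite G] where
  /-- the centre of a Sylow 3-subgroup -/
  Z : Subgroup G
  /-- the largest normal 3-subgroup of the normaliser of `Z` -/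
  Q : Subgroup G
  /-- the subgroup generated by the 3-elements of the normaliser of `Z` -/
  L : Subgroup G
  /-- a Sylow 3-subgroup -/
  S : Subgroup G
  /-- the elementary abelian subgroup of order 81 -/
  J : Subgroup G
  /-- the subgroup generated by the 3-elements of the normaliser of `J` -/
  M : Subgroup G
  card_Z : Nat.card Z = 3
  card_Q : Nat.card Q = 243
  card_S : Nat.card S = 729
  card_J : Nat.card J = 81
  not_dvd : ¬ 2187 ∣ Nat.card G
  extra : Cfsg.IsExtraspecial 3 Q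
  exp_Q : ∀ a ∈ Q, a ^ 3 = 1
  Z_center : ∀ x, x ∈ Z ↔ x ∈ Q ∧ ∀ q ∈ Q, x * q = q * x
  cent_Q : ∀ x, (∀ q ∈ Q, x * q = q * x) → x ∈ Q
  normQ : ∀ g ∈ normalizer (Z : Set G), ∀ q ∈ Q, g * q * g⁻¹ ∈ Q
  L_norm : L ≤ normalizer (Z : Set G)
  normL : ∀ g ∈ normalizer (Z : Set G), ∀ x ∈ L, g * x * g⁻¹ ∈ L
  QL : Q ≤ L
  /-- the map onto `SL(2,5)` -/
  pi : L →* S25
  pi_surj : Function.Surjective pi
  pi_ker : ∀ x : L, pi x = 1 ↔ (x : G) ∈ Q
  three_L : ∀ g ∈ normalizer (Z : Set G), orderOf g ∣ 729 → g ∈ L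
  SL : S ≤ L
  JS : J ≤ S
  J_comm : ∀ a ∈ J, ∀ b ∈ J, a * b = b * a
  J_exp : ∀ a ∈ J, a ^ 3 = 1
  JM : J ≤ M
  M_norm : M ≤ normalizer (J : Set G)
  /-- the map onto `A₆` -/
  phi : M →* A6
  phi_surj : Function.Surjective phi
  phi_ker : ∀ x : M, phi x = 1 ↔ (x : G) ∈ J
  three_M : ∀ g ∈ normalizer (J : Set G), orderOf g ∣ 729 → g ∈ M

namespace Conf

variable {G : Type*} [Group G] [Finite G] (C : Conf G)
include C

theorem Z_le_Q : C.Z ≤ C.Q := fun x hx => ((C.Z_center x).1 hx).1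

theorem zq {z q : G} (hz : z ∈ C.Z) (hq : q ∈ C.Q) : z * q = q * z := ((C.Z_center z).1 hz).2 q hq

theorem comm_mem {a b : G} (ha : a ∈ C.Q) (hb : b ∈ C.Q) : a * b * a⁻¹ * b⁻¹ ∈ C.Z := by
  have h : ⁅(⟨a, ha⟩ : C.Q), ⟨b, hb⟩⁆ ∈ center C.Q := by
    rw [← C.extra.1.2.2, _root_.commutator_def]
    exact commutator_mem_commutator (mem_top _) (mem_top _)
  refine (C.Z_center _).2 ⟨mul_mem (mul_mem (mul_mem ha hb) (inv_mem ha)) (inv_mem hb), fun q hq => ?_⟩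
  have h' := congrArg Subtype.val (mem_center_iff.1 h ⟨q, hq⟩)
  simpa [commutatorElement_def] using h'.symm

theorem Z_cases {z : G} (hz : z ∈ C.Z) (hz1 : z ≠ 1) {x : G} (hx : x ∈ C.Z) : x = 1 ∨ x = z ∨ x = z⁻¹ := by
  classical
  haveI : Fact (Nat.Prime 3) := ⟨Nat.prime_three⟩
  have hz3 : z ^ 3 = 1 := C.exp_Q z (C.Z_le_Q hz)
  have ho : orderOf z = 3 := orderOf_eq_prime hz3 hz1
  have heq : zpowers z = C.Z := eq_of_le_of_card_ge (zpowers_le.2 hz) (by rw [C.card_Z, Nat.card_zpowers, ho])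
  rw [← heq] at hx
  obtain ⟨i, hi, e⟩ := Finset.mem_image.1 (mem_zpowers_iff_mem_range_orderOf.1 hx)
  rw [Finset.mem_range, ho] at hi
  interval_cases i
  · exact Or.inl (e.symm.trans (pow_zero _))
  · exact Or.inr (Or.inl (e.symm.trans (pow_one _)))
  · exact Or.inr (Or.inr (e.symm.trans (eq_inv_of_mul_eq_one_left (by rw [← pow_succ]; exact hz3))))

theorem exists_z : ∃ z ∈ C.Z, z ≠ 1 := by
  haveI : Nontrivial C.Z := Finite.one_lt_card_iff_nontrivial.1 (by rw [C.card_Z]; norm_num)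
  obtain ⟨z, hz⟩ := exists_ne (1 : C.Z)
  exact ⟨z, z.2, fun e => hz (Subtype.ext e)⟩

/-- Lifts of elements of order five. -/
theorem five_lift {y : S25} (hy : y ^ 5 = 1) : ∃ u : C.L, C.pi u = y ∧ u ^ 5 = 1 := by
  obtain ⟨u0, hu0⟩ := C.pi_surj y
  refine ⟨u0 ^ 6, by rw [map_pow, hu0, pow_succ, hy, one_mul], ?_⟩
  have h : C.pi (u0 ^ 5) = 1 := by rw [map_pow, hu0, hy]
  have h3 : ((u0 ^ 5 : C.L) : G) ^ 3 = 1 := C.exp_Q _ ((C.pi_ker _).1 h)
  refine Subtype.ext ?_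
  rw [← pow_mul, show 6 * 5 = 5 * 3 * 2 from rfl, pow_mul, pow_mul, coe_pow, coe_pow, h3, one_pow]
  rfl

theorem gen_five (K : Subgroup G) (hQ : C.Q ≤ K) (h5 : ∀ u ∈ C.L, u ^ 5 = 1 → u ∈ K) : C.L ≤ K := by
  intro x hx
  obtain ⟨a, ha, b, hb, h⟩ := five25_gen (C.pi ⟨x, hx⟩)
  obtain ⟨u, hu, hu5⟩ := C.five_lift ha
  obtain ⟨v, hv, hv5⟩ := C.five_lift hb
  have mem : ∀ w : C.L, w ^ 5 = 1 → (w : G) ∈ K := fun w hw => h5 w w.2 (congrArg Subtype.val hw)
  have key : ∀ w : C.L, (w : G) ∈ K → C.pi w = C.pi ⟨x, hx⟩ → x ∈ K := by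
    intro w hw e
    have h1 : ((⟨x, hx⟩ * w⁻¹ : C.L) : G) ∈ C.Q := (C.pi_ker _).1 (by rw [map_mul, map_inv, e, mul_inv_cancel])
    have h2 := mul_mem (hQ h1) hw
    simpa using h2
  rcases h with h | ⟨c, hc, h⟩
  · exact key (u * v) (mul_mem (mem u hu5) (mem v hv5)) (by rw [map_mul, hu, hv, h])
  · obtain ⟨w, hw, hw5⟩ := C.five_lift hc
    exact key (u * v * w) (mul_mem (mul_mem (mem u hu5) (mem v hv5)) (mem w hw5))
      (by rw [map_mul, map_mul, hu, hv, hw, h])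

theorem conj_Z {g z : G} (hg : g ∈ normalizer (C.Z : Set G)) (hz : z ∈ C.Z) : g * z * g⁻¹ ∈ C.Z :=
  (mem_normalizer_iff.1 hg z).1 hz

theorem L_cent {x : G} (hx : x ∈ C.L) {z : G} (hz : z ∈ C.Z) : x * z = z * x := by
  by_cases hz1 : z = 1
  · rw [hz1, mul_one, one_mul]
  have hK : C.L ≤ centralizer ({z} : Set G) := by
    refine C.gen_five _ (fun q hq => mem_centralizer_singleton_iff.2 (C.zq hz hq).symm) fun u hu hu5 => ?_
    rw [mem_centralizer_singleton_iff]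
    rcases C.Z_cases hz hz1 (C.conj_Z (C.L_norm hu) hz) with h | h | h
    · exact absurd (conj_eq_one_iff.1 h) hz1
    · exact mul_inv_eq_iff_eq_mul.1 h
    · exfalso
      have h2 : u * (u * z * u⁻¹) * u⁻¹ = z := by
        rw [h, show u * z⁻¹ * u⁻¹ = (u * z * u⁻¹)⁻¹ by group, h, inv_inv]
      have h4 : u * (u * (u * (u * z * u⁻¹) * u⁻¹) * u⁻¹) * u⁻¹ = z := by rw [h2, h2]
      have h5 : u ^ 5 * z * (u ^ 5)⁻¹ = z⁻¹ := by
        calc u ^ 5 * z * (u ^ 5)⁻¹ = u * (u * (u * (u * (u * z * u⁻¹) * u⁻¹) * u⁻¹) * u⁻¹) * u⁻¹ := by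
              simp [pow_succ, mul_assoc]
          _ = u * z * u⁻¹ := by rw [h4]
          _ = _ := h
      rw [hu5, one_mul, inv_one, mul_one] at h5
      refine hz1 ?_
      calc z = z ^ 3 * (z * z)⁻¹ := by group
        _ = 1 := by
          rw [C.exp_Q z (C.Z_le_Q hz), show z * z = 1 by nth_rw 2 [h5]; exact mul_inv_cancel z]
          group
  exact mem_centralizer_singleton_iff.1 (hK hx)

/-- The centraliser of `Z`. -/
def CZ : Subgroup G := centralizer (C.Z : Set G)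

theorem mem_CZ {x : G} : x ∈ C.CZ ↔ ∀ z ∈ C.Z, x * z = z * x := by
  rw [CZ, mem_centralizer_iff]
  exact ⟨fun h z hz => (h z hz).symm, fun h z hz => (h z hz).symm⟩

theorem L_le_CZ : C.L ≤ C.CZ := fun _ hx => C.mem_CZ.2 fun _ hz => C.L_cent hx hz

theorem CZ_le_norm : C.CZ ≤ normalizer (C.Z : Set G) := centralizer_le_normalizer _

theorem Q_le_CZ : C.Q ≤ C.CZ := C.QL.trans C.L_le_CZ

/-- The elements fixing `q` modulo `Z`. -/
def fix (q : G) : Subgroup G where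
  carrier := {x | x ∈ C.CZ ∧ x * q * x⁻¹ * q⁻¹ ∈ C.Z}
  one_mem' := ⟨one_mem _, by simp⟩
  mul_mem' := by
    rintro x y ⟨hx, hx'⟩ ⟨hy, hy'⟩
    refine ⟨mul_mem hx hy, ?_⟩
    have e : x * y * q * (x * y)⁻¹ * q⁻¹ =
        (x * (y * q * y⁻¹ * q⁻¹) * x⁻¹) * (x * q * x⁻¹ * q⁻¹) := by group
    rw [e]
    exact mul_mem (C.conj_Z (C.CZ_le_norm hx) hy') hx'
  inv_mem' := by
    rintro x ⟨hx, hx'⟩
    refine ⟨inv_mem hx, ?_⟩
    have e : x⁻¹ * q * x⁻¹⁻¹ * q⁻¹ = (x⁻¹ * (x * q * x⁻¹ * q⁻¹) * x⁻¹⁻¹)⁻¹ := by group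
    rw [e]
    exact inv_mem (C.conj_Z (C.CZ_le_norm (inv_mem hx)) hx')

theorem Q_le_fix {q : G} (hq : q ∈ C.Q) : C.Q ≤ C.fix q := fun _ hx => ⟨C.Q_le_CZ hx, C.comm_mem hx hq⟩

/-- An element of order five centralises small invariant subgroups of `Q`. -/
theorem five_cent (U : Subgroup G) (hZU : C.Z ≤ U) (hUQ : U ≤ C.Q) (hU : Nat.card U ≤ 81) {u : G}
    (huL : u ∈ C.L) (hu5 : u ^ 5 = 1) (hn : ∀ x ∈ U, u * x * u⁻¹ ∈ U) : ∀ x ∈ U, u * x = x * u := by
  by_cases hu1 : u = 1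
  · intro x _; rw [hu1, one_mul, mul_one]
  haveI : Fact (Nat.Prime 5) := ⟨by norm_num⟩
  set Γ := zpowers u with hΓ
  have hΓ5 : IsPGroup 5 Γ := IsPGroup.of_card (n := 1) (by rw [Nat.card_zpowers, orderOf_eq_prime hu5 hu1, pow_one])
  have hnU : Γ ≤ normalizer (U : Set G) := zpowers_le.2 (mem_normalizer_iff_map_conj_eq.2
    (eq_of_le_of_card_ge (by rintro _ ⟨x, hx, rfl⟩; exact hn x hx)
      (card_map_of_injective (MulAut.conj u).injective).ge))
  letI : MulAction Γ U :=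
    { smul := fun g x => ⟨(g : G) * x * (g : G)⁻¹, (mem_normalizer_iff.1 (hnU g.2) _).1 x.2⟩
      one_smul := fun x => Subtype.ext (by show (1 : G) * x * (1 : G)⁻¹ = x; group)
      mul_smul := fun g h x => Subtype.ext (by
        show (g : G) * h * x * ((g : G) * h)⁻¹ = g * ((h : G) * x * (h : G)⁻¹) * (g : G)⁻¹
        group) }
  have hsm : ∀ (g : Γ) (x : U), ((g • x : U) : G) = (g : G) * x * (g : G)⁻¹ := fun _ _ => rfl
  set F : Subgroup G := U ⊓ centralizer ({u} : Set G) with hF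
  have hfix : Nat.card (MulAction.fixedPoints Γ U) = Nat.card F := by
    refine Nat.card_congr
      { toFun := fun x => ⟨(x.1 : G), x.1.2, mem_centralizer_singleton_iff.2 ?_⟩
        invFun := fun x => ⟨⟨x, x.2.1⟩, fun g => ?_⟩
        left_inv := fun x => rfl
        right_inv := fun x => rfl }
    · have h := congrArg Subtype.val (x.2 ⟨u, mem_zpowers u⟩)
      rw [hsm] at h
      exact (mul_inv_eq_iff_eq_mul.1 h).symm
    · refine Subtype.ext ?_
      rw [hsm]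
      obtain ⟨k, hk⟩ := mem_zpowers_iff.1 g.2
      have hc : Commute (x : G) u := mem_centralizer_singleton_iff.1 x.2.2
      rw [← hk, mul_inv_eq_iff_eq_mul]
      exact (hc.zpow_right k).symm.eq
  have hmod : Nat.card U % 5 = Nat.card F % 5 := hfix ▸ hΓ5.card_modEq_card_fixedPoints U
  have hZF : C.Z ≤ F := fun z hz => ⟨hZU hz, mem_centralizer_singleton_iff.2 (C.L_cent huL hz).symm⟩
  have hpow : ∀ W : Subgroup G, C.Z ≤ W → W ≤ C.Q → Nat.card W ≤ 81 →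
      Nat.card W ∈ [3, 9, 27, 81] := by
    intro W h1 h2 h3
    obtain ⟨k, -, hk⟩ := (Nat.dvd_prime_pow Nat.prime_three).1
      (show Nat.card W ∣ 3 ^ 5 by rw [show (3 : ℕ) ^ 5 = 243 from rfl, ← C.card_Q]; exact card_dvd_of_le h2)
    have h3le : 3 ≤ Nat.card W := C.card_Z ▸ card_le_of_le h1
    rw [hk] at h3le h3 ⊢
    have hk4 : k ≤ 4 := by
      by_contra hh
      have := Nat.pow_le_pow_right (show 0 < 3 by norm_num) (show 5 ≤ k by omega)
      omega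
    interval_cases k <;> simp_all
  have hFU : F = U := by
    refine eq_of_le_of_card_ge inf_le_left ?_
    have a := hpow U hZU hUQ hU
    have b := hpow F hZF (inf_le_left.trans hUQ) ((card_le_of_le inf_le_left).trans hU)
    simp only [List.mem_cons, List.not_mem_nil, or_false] at a b
    rcases a with a | a | a | a <;> rcases b with b | b | b | b <;> omega
  intro x hx
  exact (mem_centralizer_singleton_iff.1 ((hFU.ge hx : x ∈ F).2)).symm

/-- An element acting trivially on `Q/Z` and on `Z` lies in `Q`. -/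
theorem kerV {c : G} (hc : c ∈ C.CZ) (h : ∀ q ∈ C.Q, c * q * c⁻¹ * q⁻¹ ∈ C.Z) : c ∈ C.Q := by
  set K : Subgroup G := C.CZ ⊓ ⨅ q : C.Q, C.fix q with hK
  have mK : ∀ x, x ∈ K ↔ x ∈ C.CZ ∧ ∀ q ∈ C.Q, x * q * x⁻¹ * q⁻¹ ∈ C.Z := by
    intro x
    rw [hK, mem_inf, mem_iInf]
    exact ⟨fun ⟨a, b⟩ => ⟨a, fun q hq => (b ⟨q, hq⟩).2⟩, fun ⟨a, b⟩ => ⟨a, fun q => ⟨a, b q q.2⟩⟩⟩
  -- an element of prime order other than three is trivial
  have hprime : ∀ x ∈ K, ∀ p, p.Prime → p ≠ 3 → x ^ p = 1 → x = 1 := by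
    intro x hx p hp hp3 hxp
    haveI := Fact.mk hp
    obtain ⟨hxC, hxq⟩ := (mK x).1 hx
    have hcom : ∀ q ∈ C.Q, x * q = q * x := by
      intro q hq
      set z := x * q * x⁻¹ * q⁻¹ with hz
      have hzx : x * z = z * x := C.mem_CZ.1 hxC z (hxq q hq)
      have key : ∀ n : ℕ, x ^ n * q * (x ^ n)⁻¹ = z ^ n * q := by
        intro n
        induction n with
        | zero => simp
        | succ n ih =>
          calc x ^ (n + 1) * q * (x ^ (n + 1))⁻¹ = x * (x ^ n * q * (x ^ n)⁻¹) * x⁻¹ := by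
                rw [pow_succ']; group
            _ = x * z ^ n * q * x⁻¹ := by rw [ih]; group
            _ = z ^ n * (x * q * x⁻¹) := by
                rw [((show Commute x z from hzx).pow_right n).eq]; group
            _ = z ^ (n + 1) * q := by rw [pow_succ, hz]; group
      have h1 := key p
      rw [hxp, one_mul, inv_one, mul_one, eq_comm, mul_eq_right] at h1
      have h3 := C.exp_Q z (C.Z_le_Q (hxq q hq))
      have hg : z ^ Nat.gcd p 3 = 1 := pow_gcd_eq_one.2 ⟨h1, h3⟩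
      rw [(Nat.coprime_primes hp Nat.prime_three).2 hp3, pow_one] at hg
      rw [hz, mul_inv_eq_one, mul_inv_eq_iff_eq_mul] at hg
      exact hg
    have hxQ := C.cent_Q x hcom
    have h3 := C.exp_Q x hxQ
    have hg : x ^ Nat.gcd p 3 = 1 := pow_gcd_eq_one.2 ⟨hxp, h3⟩
    rwa [(Nat.coprime_primes hp Nat.prime_three).2 hp3, pow_one] at hg
  haveI : Fact (Nat.Prime 3) := ⟨Nat.prime_three⟩
  have h729 : ∀ x ∈ K, orderOf x ∣ 729 := by
    intro x hx
    have hd : orderOf x ∣ Nat.card G := orderOf_dvd_natCard x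
    have hn : orderOf x ≠ 0 := (orderOf_pos x).ne'
    have h3 : ∀ {d : ℕ}, d.Prime → d ∣ orderOf x → d = 3 := by
      intro d hd' hdx
      by_contra hd3
      have ho : orderOf (x ^ (orderOf x / d)) = d := orderOf_pow_orderOf_div hn hdx
      have := hprime _ (pow_mem hx _) d hd' hd3 (by conv_lhs => rw [← ho, pow_orderOf_eq_one])
      rw [this, orderOf_one] at ho
      exact hd'.one_lt.ne ho
    rw [Nat.eq_prime_pow_of_unique_prime_dvd hn h3, show (729 : ℕ) = 3 ^ 6 from rfl]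
    refine pow_dvd_pow 3 ?_
    by_contra hh
    exact C.not_dvd (((pow_dvd_pow 3 (show 7 ≤ (orderOf x).primeFactorsList.length by omega)).trans
      (Nat.eq_prime_pow_of_unique_prime_dvd hn h3).symm.dvd).trans hd)
  have hcK : c ∈ K := (mK c).2 ⟨hc, h⟩
  have hKL : ∀ x ∈ K, x ∈ C.L := fun x hx => C.three_L x (C.CZ_le_norm ((mK x).1 hx).1) (h729 x hx)
  -- the image in `SL(2,5)` is a normal 3-subgroup
  by_contra hcQ
  set I := (K.subgroupOf C.L).map C.pi with hI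
  have hIp : ∀ y ∈ I, y ^ 3 = 1 := by
    rintro _ ⟨x, hx, rfl⟩
    have h1 : C.pi x ^ 729 = 1 := by
      rw [← map_pow, show x ^ 729 = 1 from Subtype.ext
        (orderOf_dvd_iff_pow_eq_one.1 (h729 x hx)), map_one]
    have h2 : C.pi x ^ 120 = 1 := by rw [← card25]; exact pow_card_eq_one
    have := pow_gcd_eq_one.2 ⟨h1, h2⟩
    rwa [show Nat.gcd 729 120 = 3 from rfl] at this
  set x0 := C.pi ⟨c, hKL c hcK⟩ with hx0
  have hx0I : x0 ∈ I := ⟨⟨c, hKL c hcK⟩, hcK, rfl⟩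
  have hx01 : x0 ≠ 1 := fun e => hcQ ((C.pi_ker _).1 e)
  obtain ⟨g, hg1, hg2⟩ := three25_notnormal x0 (hIp _ hx0I) hx01
  obtain ⟨gl, rfl⟩ := C.pi_surj g
  have hgI : C.pi gl * x0 * (C.pi gl)⁻¹ ∈ I := by
    refine ⟨gl * ⟨c, hKL c hcK⟩ * gl⁻¹, ?_, by rw [map_mul, map_mul, map_inv, ← hx0]⟩
    show (gl : G) * c * (gl : G)⁻¹ ∈ K
    refine (mK _).2 ⟨mul_mem (mul_mem (C.L_le_CZ gl.2) hc) (inv_mem (C.L_le_CZ gl.2)), fun q hq => ?_⟩
    have hq' : (gl : G)⁻¹ * q * gl ∈ C.Q := by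
      simpa using C.normQ _ (inv_mem (C.L_norm gl.2)) q hq
    have e : (gl : G) * c * (gl : G)⁻¹ * q * ((gl : G) * c * (gl : G)⁻¹)⁻¹ * q⁻¹ =
        (gl : G) * (c * ((gl : G)⁻¹ * q * gl) * c⁻¹ * ((gl : G)⁻¹ * q * gl)⁻¹) * (gl : G)⁻¹ := by group
    rw [e]
    exact C.conj_Z (C.L_norm gl.2) (h _ hq')
  have h9 : ∀ y : S25, y ^ 3 = 1 → y ≠ 1 → y ≠ x0 → y ≠ x0⁻¹ → y ∈ I → False := by
    intro y hy3 hy1 hy hy' hyI
    obtain ⟨w, hw, hwp⟩ := three25_two x0 (hIp _ hx0I) hx01 y hy3 hy1 hy hy'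
    have hwI : w ∈ I := by
      simp only [List.mem_cons, List.not_mem_nil, or_false] at hw
      rcases hw with rfl | rfl
      · exact mul_mem hx0I hyI
      · exact mul_mem hx0I (inv_mem hyI)
    have hm : (-1 : S25) ∈ I := by
      rcases hwp with e | e | e <;> rw [← e] <;> exact pow_mem hwI _
    have := hIp _ hm
    rw [pow_succ, pow_two, neg25.1, one_mul] at this
    exact neg25.2.1 this
  exact h9 _ (hIp _ hgI) (fun e => hx01 (conj_eq_one_iff.1 e)) hg1 hg2 hgI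

theorem exists_t : ∃ t : C.L, t ^ 2 = 1 ∧ C.pi t = -1 := by
  obtain ⟨x, hx⟩ := C.pi_surj (-1)
  refine ⟨x ^ 3, ?_, by rw [map_pow, hx, pow_succ, pow_two, neg25.1, one_mul]⟩
  have h : ((x ^ 2 : C.L) : G) ^ 3 = 1 := C.exp_Q _ ((C.pi_ker _).1 (by rw [map_pow, hx, pow_two, neg25.1]))
  refine Subtype.ext ?_
  rw [← pow_mul, show 3 * 2 = 2 * 3 from rfl, pow_mul, coe_pow, h]
  rfl

/-- A central involution of the centraliser of `Z`. -/
noncomputable def t : G := (C.exists_t.choose : C.L)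

theorem t_mem : C.t ∈ C.L := C.exists_t.choose.2

theorem tt : C.t * C.t = 1 := by
  rw [← pow_two]; exact congrArg Subtype.val C.exists_t.choose_spec.1

theorem t_inv : C.t⁻¹ = C.t := inv_eq_of_mul_eq_one_right C.tt

theorem pi_t : C.pi ⟨C.t, C.t_mem⟩ = -1 := C.exists_t.choose_spec.2

theorem t_ne : C.t ≠ 1 := fun e => by
  have h := C.pi_t
  rw [show (⟨C.t, C.t_mem⟩ : C.L) = 1 from Subtype.ext e, map_one] at h
  exact neg25.2.1 h.symm

theorem t_notQ : C.t ∉ C.Q := fun h => neg25.2.1 (C.pi_t.symm.trans ((C.pi_ker _).2 h))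

theorem comm_t {x : G} (hx : x ∈ C.L) : x * C.t * x⁻¹ * C.t⁻¹ ∈ C.Q := by
  refine (C.pi_ker ⟨_, mul_mem (mul_mem (mul_mem hx C.t_mem) (inv_mem hx)) (inv_mem C.t_mem)⟩).1 ?_
  show C.pi (⟨x, hx⟩ * ⟨C.t, C.t_mem⟩ * ⟨x, hx⟩⁻¹ * ⟨C.t, C.t_mem⟩⁻¹) = 1
  rw [map_mul, map_mul, map_mul, map_inv, map_inv, C.pi_t, neg25.2.2]
  group

theorem conj_t_mem {q : G} (hq : q ∈ C.Q) : C.t * q * C.t⁻¹ ∈ C.Q := C.normQ _ (C.L_norm C.t_mem) q hq

/-- The involution inverts `Q/Z`. -/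
theorem inv_V {q : G} (hq : q ∈ C.Q) : C.t * q * C.t⁻¹ * q ∈ C.Z := by
  set U : Subgroup G :=
    { carrier := {x | x ∈ C.Q ∧ C.t * x * C.t⁻¹ * x ∈ C.Z}
      one_mem' := ⟨one_mem _, by simp⟩
      mul_mem' := by
        rintro a b ⟨ha, ha'⟩ ⟨hb, hb'⟩
        refine ⟨mul_mem ha hb, ?_⟩
        have hc := C.comm_mem hb ha
        have e : C.t * (a * b) * C.t⁻¹ * (a * b) =
            (C.t * a * C.t⁻¹) * (C.t * b * C.t⁻¹ * b) * (b⁻¹ * (a * b * a⁻¹ * b⁻¹) * b) * a := by group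
        have hz : b⁻¹ * (a * b * a⁻¹ * b⁻¹) * b ∈ C.Z := by
          simpa using C.conj_Z (C.L_norm (C.QL (inv_mem hb))) (C.comm_mem ha hb)
        rw [e, mul_assoc (C.t * a * C.t⁻¹), mul_assoc (C.t * a * C.t⁻¹),
          C.zq (mul_mem hb' hz) ha, ← mul_assoc]
        exact mul_mem ha' (mul_mem hb' hz)
      inv_mem' := by
        rintro a ⟨ha, ha'⟩
        refine ⟨inv_mem ha, ?_⟩
        have hz1 : a * (C.t * a * C.t⁻¹ * a)⁻¹ * a⁻¹ ∈ C.Z :=
          C.conj_Z (C.L_norm (C.QL ha)) (inv_mem ha')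
        have e' : C.t * a⁻¹ * C.t⁻¹ * a⁻¹ = (C.t * a * C.t⁻¹)⁻¹ * a⁻¹ := by group
        rw [e', ← mul_inv_rev]
        refine inv_mem ?_
        have : a * (C.t * a * C.t⁻¹) = a * (C.t * a * C.t⁻¹ * a) * a⁻¹ := by group
        rw [this]
        exact C.conj_Z (C.L_norm (C.QL ha)) ha' } with hUdef
  suffices hU : C.Q ≤ U from (hU hq).2
  by_contra hU
  have hUQ : U ≤ C.Q := fun x hx => hx.1
  have hZU : C.Z ≤ U := fun z hz => by
    refine ⟨C.Z_le_Q hz, ?_⟩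
    rw [C.L_cent C.t_mem hz, mul_assoc z, mul_inv_cancel, mul_one]
    exact mul_mem hz hz
  have hcard : Nat.card U ≤ 81 := by
    have hne : U ≠ C.Q := fun e => hU e.ge
    obtain ⟨k, hk, hk'⟩ := (Nat.dvd_prime_pow Nat.prime_three).1
      (show Nat.card U ∣ 3 ^ 5 by rw [show (3 : ℕ) ^ 5 = 243 from rfl, ← C.card_Q]; exact card_dvd_of_le hUQ)
    rcases Nat.lt_or_ge k 5 with h | h
    · rw [hk']; exact le_trans (Nat.pow_le_pow_right (by norm_num) (Nat.lt_succ_iff.1 h)) (by norm_num)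
    · exact absurd (eq_of_le_of_card_ge hUQ (by rw [hk', C.card_Q, show k = 5 by omega]; norm_num)) hne
  -- all of `L` acts trivially on `U/Z`
  have htriv : ∀ x ∈ U, C.t * x * C.t⁻¹ * x⁻¹ ∈ C.Z := by
    intro x hx
    refine (C.gen_five (C.fix x) (C.Q_le_fix hx.1) (fun u hu hu5 => ⟨C.L_le_CZ hu, ?_⟩) C.t_mem).2
    have hn : ∀ y ∈ U, u * y * u⁻¹ ∈ U := by
      intro y hy
      refine ⟨C.normQ _ (C.L_norm hu) y hy.1, ?_⟩
      set c := u⁻¹ * C.t * u * C.t⁻¹ with hc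
      have hcQ : c ∈ C.Q := by simpa [hc] using C.comm_t (inv_mem hu)
      have hb : C.t * y * C.t⁻¹ ∈ C.Q := C.conj_t_mem hy.1
      have e : C.t * (u * y * u⁻¹) * C.t⁻¹ * (u * y * u⁻¹) =
          u * ((c * (C.t * y * C.t⁻¹) * c⁻¹ * (C.t * y * C.t⁻¹)⁻¹) * (C.t * y * C.t⁻¹ * y)) * u⁻¹ := by
        rw [hc]; group
      rw [e]
      exact C.conj_Z (C.L_norm hu) (mul_mem (C.comm_mem hcQ hb) hy.2)
    rw [C.five_cent U hZU hUQ hcard hu hu5 hn x hx, mul_inv_cancel_right, mul_inv_cancel]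
    exact one_mem _
  have hUZ : ∀ x ∈ U, x ∈ C.Z := by
    intro x hx
    have h2 : x * x ∈ C.Z := by
      have e : x * x = x * ((C.t * x * C.t⁻¹ * x⁻¹)⁻¹ * (C.t * x * C.t⁻¹ * x)) * x⁻¹⁻¹⁻¹ * 1 := by group
      have hz : (C.t * x * C.t⁻¹ * x⁻¹)⁻¹ * (C.t * x * C.t⁻¹ * x) ∈ C.Z := mul_mem (inv_mem (htriv x hx)) hx.2
      rw [show (C.t * x * C.t⁻¹ * x⁻¹)⁻¹ * (C.t * x * C.t⁻¹ * x) = x * x by group] at hz
      exact hz
    have h3 : x = (x * x) * (x * x) := by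
      rw [show x * x * (x * x) = x ^ 3 * x by simp [pow_succ, mul_assoc], C.exp_Q x hx.1, one_mul]
    rw [h3]; exact mul_mem h2 h2
  -- hence `t` acts trivially on `Q/Z`
  refine C.t_notQ (C.kerV (C.L_le_CZ C.t_mem) fun x hx => ?_)
  set y := x * (C.t * x * C.t⁻¹)⁻¹ with hy
  have hb : C.t * x * C.t⁻¹ ∈ C.Q := C.conj_t_mem hx
  have hyU : y ∈ U := by
    refine ⟨mul_mem hx (inv_mem hb), ?_⟩
    have e : C.t * y * C.t⁻¹ * y =
        (C.t * x * C.t⁻¹) * ((C.t * C.t) * x * (C.t * C.t)⁻¹)⁻¹ * (x * (C.t * x * C.t⁻¹)⁻¹) := by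
      rw [hy]; group
    rw [e, C.tt]
    simp
  have hyZ := hUZ y hyU
  have : C.t * x * C.t⁻¹ * x⁻¹ = y⁻¹ := by rw [hy]; group
  rw [this]
  exact inv_mem hyZ

theorem cent_t_Q {q : G} (hq : q ∈ C.Q) (h : q * C.t = C.t * q) : q ∈ C.Z := by
  have h1 := C.inv_V hq
  rw [← h, mul_inv_cancel_right] at h1
  have h3 : q = (q * q) * (q * q) := by
    rw [show q * q * (q * q) = q ^ 3 * q by simp [pow_succ, mul_assoc], C.exp_Q q hq, one_mul]
  rw [h3]; exact mul_mem h1 h1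

theorem three_group_card {R : Subgroup G} (hR : IsPGroup 3 R) : Nat.card R ≤ 729 := by
  haveI : Fact (Nat.Prime 3) := ⟨Nat.prime_three⟩
  obtain ⟨k, hk⟩ := IsPGroup.iff_card.1 hR
  by_contra hh
  rw [hk] at hh
  have h7 : 7 ≤ k := by
    by_contra h
    exact hh ((Nat.pow_le_pow_right (by norm_num) (show k ≤ 6 by omega)).trans (by norm_num))
  exact C.not_dvd ((show (2187 : ℕ) ∣ 3 ^ k from pow_dvd_pow 3 h7).trans (hk ▸ card_subgroup_dvd_card R))

theorem S_p : IsPGroup 3 C.S := IsPGroup.of_card (n := 6) (by rw [C.card_S]; rfl)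

theorem Q_le_S : C.Q ≤ C.S := by
  have hQp : IsPGroup 3 C.Q := IsPGroup.of_card (n := 5) (by rw [C.card_Q]; rfl)
  have hn : C.S ≤ normalizer (C.Q : Set G) := fun s hs => mem_normalizer_iff_map_conj_eq.2
    (eq_of_le_of_card_ge (by rintro _ ⟨x, hx, rfl⟩; exact C.normQ _ (C.L_norm (C.SL hs)) x hx)
      (card_map_of_injective (MulAut.conj s).injective).ge)
  have hp : IsPGroup 3 (C.S ⊔ C.Q : Subgroup G) := C.S_p.to_sup_of_normal_right' hQp hn
  have := eq_of_le_of_card_ge (le_sup_left : C.S ≤ C.S ⊔ C.Q) (by rw [C.card_S]; exact C.three_group_card hp)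
  exact le_sup_right.trans this.ge

/-- `A = J ∩ Q`. -/
def A : Subgroup G := C.J ⊓ C.Q

theorem abelian_le {U : Subgroup G} (hU : U ≤ C.Q) (hc : ∀ a ∈ U, ∀ b ∈ U, a * b = b * a) :
    Nat.card U ≤ 27 := by
  haveI : Fact (Nat.Prime 3) := ⟨Nat.prime_three⟩
  haveI : IsMulCommutative (U.subgroupOf C.Q) := ⟨⟨fun a b => Subtype.ext (Subtype.ext (hc _ a.2 _ b.2))⟩⟩
  have h := FGBasics.XS.card_abelian_sq_le C.extra (U.subgroupOf C.Q) inferInstance
  rw [Nat.card_congr (subgroupOfEquivOfLe hU).toEquiv, C.card_Q] at h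
  by_contra hh
  nlinarith

theorem card_A : Nat.card C.A = 27 := by
  refine le_antisymm (C.abelian_le inf_le_right fun a ha b hb => C.J_comm a ha.1 b hb.1) ?_
  have hr : C.Q.relIndex C.S = 3 := by
    have h := (C.Q.subgroupOf C.S).card_mul_index
    rw [Nat.card_congr (subgroupOfEquivOfLe C.Q_le_S).toEquiv, C.card_Q, C.card_S] at h
    show (C.Q.subgroupOf C.S).index = 3
    omega
  have h1 : C.Q.relIndex C.J ≤ 3 := hr ▸ relIndex_le_of_le_right C.JS (by rw [hr]; norm_num)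
  have h2 := (C.Q.subgroupOf C.J).card_mul_index
  rw [C.card_J] at h2
  have e : Nat.card (C.Q.subgroupOf C.J) = Nat.card C.A := by
    rw [A, ← inf_subgroupOf_left]
    exact Nat.card_congr (subgroupOfEquivOfLe inf_le_left).toEquiv
  rw [e] at h2
  have h3 : (C.Q.subgroupOf C.J).index ≤ 3 := h1
  nlinarith

theorem A_cent {c : G} (hc : c ∈ C.Q) (h : ∀ a ∈ C.A, c * a = a * c) : c ∈ C.A := by
  set U := closure ((C.A : Set G) ∪ {c}) with hU
  have hUQ : U ≤ C.Q := (closure_le _).2 (Set.union_subset inf_le_right (by simpa using hc))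
  haveI : IsMulCommutative U := isMulCommutative_closure (by
    rintro x (hx | rfl) y (hy | rfl)
    · exact C.J_comm x hx.1 y hy.1
    · exact (h x hx).symm
    · exact h y hy
    · rfl)
  have hUc : ∀ a ∈ U, ∀ b ∈ U, a * b = b * a := fun a ha b hb =>
    congrArg Subtype.val (mul_comm' (⟨a, ha⟩ : U) ⟨b, hb⟩)
  have := eq_of_le_of_card_ge (fun x hx => subset_closure (Or.inl hx) : C.A ≤ U)
    (by rw [C.card_A]; exact C.abelian_le hUQ hUc)
  rw [this]
  exact subset_closure (Or.inr rfl)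

theorem Z_le_A : C.Z ≤ C.A := fun z hz => C.A_cent (C.Z_le_Q hz) fun _ ha => C.zq hz ha.2

theorem Z_le_J : C.Z ≤ C.J := C.Z_le_A.trans inf_le_left

theorem exists_j : ∃ j ∈ C.J, j ∉ C.Q := by
  by_contra h
  push Not at h
  have hle : C.J ≤ C.A := fun x hx => ⟨hx, h x hx⟩
  have := card_le_of_le hle
  rw [C.card_A, C.card_J] at this
  omega

theorem pi_three {j : G} (hjJ : j ∈ C.J) (hjQ : j ∉ C.Q) :
    C.pi ⟨j, C.SL (C.JS hjJ)⟩ ^ 3 = 1 ∧ C.pi ⟨j, C.SL (C.JS hjJ)⟩ ≠ 1 := by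
  refine ⟨?_, fun e => hjQ ((C.pi_ker _).1 e)⟩
  rw [← map_pow, show (⟨j, C.SL (C.JS hjJ)⟩ : C.L) ^ 3 = 1 from Subtype.ext (C.J_exp j hjJ), map_one]

/-- The fixed points of an element of `J ∖ Q` on `Q/Z` are `A/Z`. -/
theorem A_of_fix {j : G} (hjJ : j ∈ C.J) (hjQ : j ∉ C.Q) {q : G} (hq : q ∈ C.Q)
    (h : j * q * j⁻¹ * q⁻¹ ∈ C.Z) : q ∈ C.A := by
  have hjL : j ∈ C.L := C.SL (C.JS hjJ)
  have mkU : ∀ x ∈ C.L, ∃ U : Subgroup G, ∀ a, a ∈ U ↔ a ∈ C.Q ∧ x * a * x⁻¹ * a⁻¹ ∈ C.Z := by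
    intro x hx
    refine ⟨{ carrier := {a | a ∈ C.Q ∧ x * a * x⁻¹ * a⁻¹ ∈ C.Z}
              one_mem' := ⟨one_mem _, by simp⟩
              mul_mem' := ?_
              inv_mem' := ?_ }, fun a => Iff.rfl⟩
    · rintro a b ⟨ha, ha'⟩ ⟨hb, hb'⟩
      refine ⟨mul_mem ha hb, ?_⟩
      have e : x * (a * b) * x⁻¹ * (a * b)⁻¹ =
          (x * a * x⁻¹ * a⁻¹) * (a * (x * b * x⁻¹ * b⁻¹) * a⁻¹) := by group
      rw [e]
      exact mul_mem ha' (C.conj_Z (C.L_norm (C.QL ha)) hb')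
    · rintro a ⟨ha, ha'⟩
      refine ⟨inv_mem ha, ?_⟩
      have e : x * a⁻¹ * x⁻¹ * a⁻¹⁻¹ = a⁻¹ * (x * a * x⁻¹ * a⁻¹)⁻¹ * a⁻¹⁻¹ := by group
      rw [e]
      exact C.conj_Z (C.L_norm (C.QL (inv_mem ha))) (inv_mem ha')
  obtain ⟨U, hU⟩ := mkU j hjL
  obtain ⟨hx3, hx1⟩ := C.pi_three hjJ hjQ
  set x := C.pi ⟨j, C.SL (C.JS hjJ)⟩ with hx
  obtain ⟨g, hg1, hg2⟩ := three25_notnormal x hx3 hx1
  obtain ⟨gl, rfl⟩ := C.pi_surj g
  have hj'L : (gl : G) * j * (gl : G)⁻¹ ∈ C.L := mul_mem (mul_mem gl.2 hjL) (inv_mem gl.2)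
  obtain ⟨U', hU'⟩ := mkU _ hj'L
  have hAU : C.A ≤ U := fun a ha => (hU a).2 ⟨ha.2, by
    rw [C.J_comm j hjJ a ha.1, mul_inv_cancel_right, mul_inv_cancel]; exact one_mem _⟩
  have hUU' : Nat.card U' = Nat.card U := by
    have e : U' = U.map (MulAut.conj (gl : G)).toMonoidHom := by
      ext a
      rw [hU', Subgroup.mem_map_equiv]
      show _ ↔ (gl : G)⁻¹ * a * gl ∈ U
      rw [hU]
      have key : j * ((gl : G)⁻¹ * a * gl) * j⁻¹ * ((gl : G)⁻¹ * a * gl)⁻¹ =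
          (gl : G)⁻¹ * ((gl : G) * j * (gl : G)⁻¹ * a * ((gl : G) * j * (gl : G)⁻¹)⁻¹ * a⁻¹) * gl := by group
      constructor
      · rintro ⟨ha, ha'⟩
        refine ⟨by simpa using C.normQ _ (inv_mem (C.L_norm gl.2)) a ha, ?_⟩
        rw [key]; simpa using C.conj_Z (inv_mem (C.L_norm gl.2)) ha'
      · rintro ⟨ha, ha'⟩
        rw [key] at ha'
        refine ⟨?_, ?_⟩
        · simpa [mul_assoc] using C.normQ _ (C.L_norm gl.2) _ ha
        · simpa [mul_assoc] using C.conj_Z (C.L_norm gl.2) ha'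
    rw [e, card_map_of_injective (MulAut.conj _).injective]
  have hUQ : U ≤ C.Q := fun a ha => ((hU a).1 ha).1
  have hU'Q : U' ≤ C.Q := fun a ha => ((hU' a).1 ha).1
  have hinter : U ⊓ U' ≤ C.Z := by
    rintro a ⟨ha, ha'⟩
    obtain ⟨haQ, haj⟩ := (hU a).1 ha
    obtain ⟨-, haj'⟩ := (hU' a).1 ha'
    set y := C.pi gl * x * (C.pi gl)⁻¹ with hy
    obtain ⟨w, hw, hwp⟩ := three25_two x hx3 hx1 y
      (by rw [hy, conj_pow, hx3, mul_one, mul_inv_cancel]) (fun e => hx1 (conj_eq_one_iff.1 e)) hg1 hg2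
    have hjf : j ∈ C.fix a := ⟨C.L_le_CZ hjL, haj⟩
    have hjf' : (gl : G) * j * (gl : G)⁻¹ ∈ C.fix a := ⟨C.L_le_CZ hj'L, haj'⟩
    obtain ⟨wl, hwl, hwπ⟩ : ∃ wl : C.L, (wl : G) ∈ C.fix a ∧ C.pi wl = w := by
      simp only [List.mem_cons, List.not_mem_nil, or_false] at hw
      rcases hw with rfl | rfl
      · exact ⟨⟨j, C.SL (C.JS hjJ)⟩ * (gl * ⟨j, C.SL (C.JS hjJ)⟩ * gl⁻¹), mul_mem hjf hjf',
          by rw [map_mul, map_mul, map_mul, map_inv, ← hx]⟩
      · exact ⟨⟨j, C.SL (C.JS hjJ)⟩ * (gl * ⟨j, C.SL (C.JS hjJ)⟩ * gl⁻¹)⁻¹, mul_mem hjf (inv_mem hjf'),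
          by rw [map_mul, map_inv, map_mul, map_mul, map_inv, ← hx]⟩
    have htf : C.t ∈ C.fix a := by
      have key : ∀ n, C.pi (wl ^ n) = -1 → C.t ∈ C.fix a := by
        intro n hn
        have hq : ((⟨C.t, C.t_mem⟩ * (wl ^ n)⁻¹ : C.L) : G) ∈ C.Q :=
          (C.pi_ker _).1 (by rw [map_mul, map_inv, hn, C.pi_t, mul_inv_cancel])
        have := mul_mem (C.Q_le_fix haQ hq) (pow_mem hwl n)
        simpa using this
      rcases hwp with e | e | e
      · exact key 2 (by rw [map_pow, hwπ, e])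
      · exact key 3 (by rw [map_pow, hwπ, e])
      · exact key 5 (by rw [map_pow, hwπ, e])
    have h1 := htf.2
    have h2 := C.inv_V haQ
    have h4 : a * a ∈ C.Z := by
      have h5 := mul_mem (inv_mem h1) h2
      rwa [show (C.t * a * C.t⁻¹ * a⁻¹)⁻¹ * (C.t * a * C.t⁻¹ * a) = a * a by group] at h5
    have h6 : a = (a * a) * (a * a) := by
      rw [show a * a * (a * a) = a ^ 3 * a by simp [pow_succ, mul_assoc], C.exp_Q a haQ, one_mul]
    rw [h6]; exact mul_mem h4 h4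
  have hle : Nat.card U ≤ 27 := by
    have h2 := (U'.subgroupOf U).card_mul_index
    have e : Nat.card (U'.subgroupOf U) ≤ 3 := by
      rw [← inf_subgroupOf_left, Nat.card_congr (subgroupOfEquivOfLe inf_le_left).toEquiv, ← C.card_Z]
      exact card_le_of_le hinter
    have h3 := (U'.subgroupOf C.Q).card_mul_index
    rw [Nat.card_congr (subgroupOfEquivOfLe hU'Q).toEquiv, hUU', C.card_Q] at h3
    have h4 : (U'.subgroupOf U).index ≤ (U'.subgroupOf C.Q).index :=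
      relIndex_le_of_le_right hUQ (by show (U'.subgroupOf C.Q).index ≠ 0; exact index_ne_zero_of_finite)
    by_contra hh
    nlinarith
  have := eq_of_le_of_card_ge hAU (by rw [C.card_A]; exact hle)
  exact this.ge ((hU q).2 ⟨hq, h⟩)

theorem S_decomp {s : G} (hs : s ∈ C.S) : ∃ q ∈ C.Q, ∃ j ∈ C.J, s = q * j := by
  obtain ⟨j, hjJ, hjQ⟩ := C.exists_j
  have hidx : (C.Q.subgroupOf C.S).index = 3 := by
    have h := (C.Q.subgroupOf C.S).card_mul_index
    rw [Nat.card_congr (subgroupOfEquivOfLe C.Q_le_S).toEquiv, C.card_Q, C.card_S] at h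
    omega
  haveI : Fact (Nat.Prime 3) := ⟨Nat.prime_three⟩
  haveI hn : (C.Q.subgroupOf C.S).Normal := ⟨fun x hx g =>
    C.normQ _ (C.L_norm (C.SL g.2)) _ hx⟩
  set π := QuotientGroup.mk' (C.Q.subgroupOf C.S)
  have hc : Nat.card (C.S ⧸ C.Q.subgroupOf C.S) = 3 := hidx
  have hne : π ⟨j, C.JS hjJ⟩ ≠ 1 := fun e => hjQ ((QuotientGroup.eq_one_iff _).1 e : _)
  have hm : π ⟨s, hs⟩ ∈ zpowers (π ⟨j, C.JS hjJ⟩) := mem_zpowers_of_prime_card hc hne
  obtain ⟨i, hi⟩ := mem_zpowers_iff.1 hm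
  refine ⟨s * (j ^ i)⁻¹, ?_, j ^ i, zpow_mem hjJ i, by group⟩
  have h0 : π (⟨s, hs⟩ * (⟨j, C.JS hjJ⟩ ^ i)⁻¹) = 1 := by rw [map_mul, map_inv, map_zpow, hi, mul_inv_cancel]
  simpa [mem_subgroupOf] using (QuotientGroup.eq_one_iff _).1 h0

/-- `J` is normal in `S`. -/
theorem J_normal {s : G} (hs : s ∈ C.S) {x : G} (hx : x ∈ C.J) : s * x * s⁻¹ ∈ C.J := by
  obtain ⟨q, hq, j', hj', rfl⟩ := C.S_decomp hs
  rw [show q * j' * x * (q * j')⁻¹ = q * (j' * x * j'⁻¹) * q⁻¹ by group,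
    show j' * x * j'⁻¹ = x by rw [C.J_comm j' hj' x hx, mul_inv_cancel_right]]
  have hxn := C.L_norm (C.SL (C.JS hx))
  set c := q * x * q⁻¹ * x⁻¹ with hc
  have hcQ : c ∈ C.Q := by
    have : c = q * (x * q⁻¹ * x⁻¹) := by rw [hc]; group
    rw [this]; exact mul_mem hq (C.normQ _ hxn _ (inv_mem hq))
  have hcA : c ∈ C.A := by
    refine C.A_cent hcQ fun a ha => ?_
    have hxa : x * a = a * x := C.J_comm x hx a ha.1
    set ζ := q * a * q⁻¹ * a⁻¹ with hζ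
    have hζZ : ζ ∈ C.Z := C.comm_mem hq ha.2
    have hxζ : x * ζ = ζ * x := C.L_cent (C.SL (C.JS hx)) hζZ
    have hqζ : q * ζ = ζ * q := (C.zq hζZ hq).symm
    have h1 : q * x * q⁻¹ * a = a * (q * x * q⁻¹) := by
      have e : q⁻¹ * a * q = ζ⁻¹ * a := by
        calc q⁻¹ * a * q = q⁻¹ * (ζ⁻¹ * (q * a * q⁻¹)) * q := by rw [hζ]; group
          _ = ζ⁻¹ * a := by
              rw [← mul_assoc q⁻¹, ((show Commute q ζ from hqζ).inv_right.inv_left).eq]
              group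
      have hca : Commute x (q⁻¹ * a * q) := by
        rw [e]; exact ((show Commute x ζ from hxζ).inv_right).mul_right hxa
      calc q * x * q⁻¹ * a = q * (x * (q⁻¹ * a * q)) * q⁻¹ := by group
        _ = q * ((q⁻¹ * a * q) * x) * q⁻¹ := by rw [hca.eq]
        _ = _ := by group
    exact ((show Commute (q * x * q⁻¹) a from h1).mul_left (show Commute x a from hxa).inv_left).eq
  have : q * x * q⁻¹ = c * x := by rw [hc]; group
  rw [this]
  exact mul_mem hcA.1 hx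

theorem S_norm_J : C.S ≤ normalizer (C.J : Set G) := fun s hs => mem_normalizer_iff_map_conj_eq.2
  (eq_of_le_of_card_ge (by rintro _ ⟨x, hx, rfl⟩; exact C.J_normal hs hx)
    (card_map_of_injective (MulAut.conj s).injective).ge)

theorem S_le_M : C.S ≤ C.M := fun s hs => C.three_M s (C.S_norm_J hs) (by
  rw [← Subgroup.orderOf_mk s hs, ← C.card_S]; exact orderOf_dvd_natCard _)

theorem J_unique_S {B : Subgroup G} (hB : B ≤ C.S) (hBc : ∀ a ∈ B, ∀ b ∈ B, a * b = b * a)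
    (hB81 : Nat.card B = 81) : B = C.J := by
  have hBA : Nat.card (B ⊓ C.Q : Subgroup G) ≤ 27 :=
    C.abelian_le inf_le_right fun a ha b hb => hBc a ha.1 b hb.1
  obtain ⟨b, hbB, hbQ⟩ : ∃ b ∈ B, b ∉ C.Q := by
    by_contra h
    push Not at h
    have hle : B ≤ B ⊓ C.Q := fun x hx => ⟨hx, h x hx⟩
    have := card_le_of_le hle
    rw [hB81] at this
    omega
  obtain ⟨q, hq, j', hj', rfl⟩ := C.S_decomp (hB hbB)
  have hj'Q : j' ∉ C.Q := fun h => hbQ (mul_mem hq h)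
  have hBQA : B ⊓ C.Q ≤ C.A := by
    rintro a ⟨haB, haQ⟩
    refine C.A_of_fix hj' hj'Q haQ ?_
    have h := hBc _ hbB a haB
    have e : j' * a * j'⁻¹ * a⁻¹ = q⁻¹ * a * q⁻¹⁻¹ * a⁻¹ := by
      have : j' * a * j'⁻¹ = q⁻¹ * a * q := by
        calc j' * a * j'⁻¹ = q⁻¹ * ((q * j') * a) * j'⁻¹ := by group
          _ = q⁻¹ * (a * (q * j')) * j'⁻¹ := by rw [h]
          _ = _ := by group
      rw [this, inv_inv]
    rw [e]
    exact C.comm_mem (inv_mem hq) haQ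
  have hAB : C.A ≤ B := by
    have e : B ⊓ C.Q = C.A := by
      refine eq_of_le_of_card_ge hBQA ?_
      rw [C.card_A]
      have h2 := (C.Q.subgroupOf B).card_mul_index
      have h3 : (C.Q.subgroupOf B).index ≤ 3 := by
        have hr : C.Q.relIndex C.S = 3 := by
          have h := (C.Q.subgroupOf C.S).card_mul_index
          rw [Nat.card_congr (subgroupOfEquivOfLe C.Q_le_S).toEquiv, C.card_Q, C.card_S] at h
          show (C.Q.subgroupOf C.S).index = 3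
          omega
        exact hr ▸ relIndex_le_of_le_right hB (by rw [hr]; norm_num)
      rw [← inf_subgroupOf_left, Nat.card_congr (subgroupOfEquivOfLe inf_le_left).toEquiv, hB81] at h2
      have h4 : (C.Q.subgroupOf B).index ≤ 3 := h3
      rw [← inf_subgroupOf_left] at h4
      nlinarith
    exact e ▸ inf_le_left
  -- `q` centralises `A`
  have hqA : q ∈ C.A := C.A_cent hq fun a ha => by
    have h := hBc _ hbB a (hAB ha)
    calc q * a = q * (j' * a) * j'⁻¹ := by rw [C.J_comm j' hj' a ha.1]; group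
      _ = a * (q * j') * j'⁻¹ := by rw [← mul_assoc, h]
      _ = a * q := by group
  have hjB : j' ∈ B := by simpa using mul_mem (inv_mem (hAB hqA)) hbB
  refine (eq_of_le_of_card_ge (?_ : C.J ≤ B) (by rw [hB81, C.card_J])).symm
  set K := B ⊓ C.J with hK
  have hAK : C.A ≤ K := fun a ha => ⟨hAB ha, ha.1⟩
  have hK81 : C.J ≤ K := by
    haveI : Fact (Nat.Prime 3) := ⟨Nat.prime_three⟩
    refine (eq_of_le_of_card_ge (inf_le_right : K ≤ C.J) ?_).ge
    obtain ⟨k, -, hk⟩ := (Nat.dvd_prime_pow Nat.prime_three).1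
      (show Nat.card K ∣ 3 ^ 4 by rw [show (3 : ℕ) ^ 4 = 81 from rfl, ← C.card_J]; exact card_dvd_of_le inf_le_right)
    have h27 : 27 < Nat.card K := by
      refine lt_of_le_of_ne (C.card_A ▸ card_le_of_le hAK) fun e => hj'Q ?_
      have := eq_of_le_of_card_ge hAK (by rw [C.card_A, e])
      exact (this.ge (⟨hjB, hj'⟩ : j' ∈ K)).2
    rw [C.card_J, hk]
    have : 4 ≤ k := by
      by_contra h
      have := Nat.pow_le_pow_right (show 0 < 3 by norm_num) (show k ≤ 3 by omega)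
      omega
    exact le_trans (by norm_num) (Nat.pow_le_pow_right (by norm_num) this)
  exact hK81.trans inf_le_left

theorem exists_conj_S {R : Subgroup G} (hR : IsPGroup 3 R) : ∃ g : G, ∀ x ∈ R, g * x * g⁻¹ ∈ C.S := by
  haveI : Fact (Nat.Prime 3) := ⟨Nat.prime_three⟩
  have hfac : (Nat.card G).factorization 3 = 6 := by
    have h1 := (Nat.prime_three.pow_dvd_iff_le_factorization Nat.card_pos.ne').1
      (show 3 ^ 6 ∣ Nat.card G by rw [show (3 : ℕ) ^ 6 = 729 from rfl, ← C.card_S]; exact card_subgroup_dvd_card _)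
    by_contra hne
    exact C.not_dvd (show 3 ^ 7 ∣ Nat.card G from
      (Nat.prime_three.pow_dvd_iff_le_factorization Nat.card_pos.ne').2 (by omega))
  let P : Sylow 3 G := Sylow.ofCard C.S (by rw [C.card_S, hfac]; rfl)
  obtain ⟨P', hP'⟩ := hR.exists_le_sylow
  obtain ⟨g, hg⟩ := MulAction.exists_smul_eq G P' P
  refine ⟨g, fun x hx => ?_⟩
  have : g * x * g⁻¹ ∈ (P : Subgroup G) := by
    rw [← hg, Sylow.coe_subgroup_smul]; exact ⟨x, hP' hx, rfl⟩
  exact this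

/-- `J` is the only abelian subgroup of order 81 of a 3-subgroup containing it. -/
theorem J_unique {R B : Subgroup G} (hR : IsPGroup 3 R) (hJR : C.J ≤ R) (hB : B ≤ R)
    (hBc : ∀ a ∈ B, ∀ b ∈ B, a * b = b * a) (hB81 : Nat.card B = 81) : B = C.J := by
  obtain ⟨g, hg⟩ := C.exists_conj_S hR
  have key : ∀ U : Subgroup G, U ≤ R → (∀ a ∈ U, ∀ b ∈ U, a * b = b * a) → Nat.card U = 81 →
      U.map (MulAut.conj g).toMonoidHom = C.J := by
    intro U hU hUc hU81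
    refine C.J_unique_S ?_ ?_ (by rw [card_map_of_injective (MulAut.conj g).injective, hU81])
    · rintro _ ⟨x, hx, rfl⟩; exact hg x (hU hx)
    · rintro _ ⟨x, hx, rfl⟩ _ ⟨y, hy, rfl⟩; rw [← map_mul, ← map_mul, hUc x hx y hy]
  exact map_injective (MulAut.conj g).injective ((key B hB hBc hB81).trans (key C.J hJR C.J_comm C.card_J).symm)

/-- `J` is its own centraliser. -/
theorem cent_J {c : G} (hc : ∀ x ∈ C.J, c * x = x * c) : c ∈ C.J := by
  haveI : Fact (Nat.Prime 3) := ⟨Nat.prime_three⟩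
  set K := centralizer (C.J : Set G) with hK
  have mK : ∀ {x}, x ∈ K → ∀ y ∈ C.J, x * y = y * x := fun hx y hy => (mem_centralizer_iff.1 hx y hy).symm
  have hJK : C.J ≤ K := fun x hx => mem_centralizer_iff.2 fun y hy => C.J_comm y hy x hx
  obtain ⟨j, hjJ, hjQ⟩ := C.exists_j
  -- no element of prime order other than three
  have hprime : ∀ x ∈ K, ∀ p, p.Prime → p ≠ 3 → x ^ p = 1 → x = 1 := by
    intro x hx p hp hp3 hxp
    have hxZ : x ∈ C.CZ := C.mem_CZ.2 fun z hz => mK hx z (C.Z_le_J hz)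
    have hxn := C.CZ_le_norm hxZ
    have hxQ : x ∈ C.Q := by
      refine C.kerV hxZ fun q hq => ?_
      set b := x * q * x⁻¹ * q⁻¹ with hb
      have hbQ : b ∈ C.Q := mul_mem (C.normQ x hxn q hq) (inv_mem hq)
      have hcjA : j * q * j⁻¹ * q⁻¹ ∈ C.A := by
        refine mem_inf.2 ⟨?_, mul_mem (C.normQ j (C.L_norm (C.SL (C.JS hjJ))) q hq) (inv_mem hq)⟩
        rw [show j * q * j⁻¹ * q⁻¹ = j * (q * j⁻¹ * q⁻¹) by group]
        exact mul_mem hjJ (C.J_normal (C.Q_le_S hq) (inv_mem hjJ))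
      set d := j * q * j⁻¹ * q⁻¹ with hd
      have hxd : x * d = d * x := mK hx d hcjA.1
      have hxj : x * j = j * x := mK hx j hjJ
      have hbA : b ∈ C.A := by
        refine C.A_of_fix hjJ hjQ hbQ ?_
        have e1 : j * (x * q * x⁻¹) * j⁻¹ = d * (x * q * x⁻¹) := by
          calc j * (x * q * x⁻¹) * j⁻¹ = (j * x) * q * (x⁻¹ * j⁻¹) := by group
            _ = (x * j) * q * (j⁻¹ * x⁻¹) := by
                rw [← mul_inv_rev, ← mul_inv_rev, ← hxj]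
            _ = x * d * q * x⁻¹ := by rw [hd]; group
            _ = _ := by rw [hxd]; group
        have e : j * b * j⁻¹ * b⁻¹ = d * b * d⁻¹ * b⁻¹ := by
          calc j * b * j⁻¹ * b⁻¹ = (j * (x * q * x⁻¹) * j⁻¹) * (j * q * j⁻¹)⁻¹ * b⁻¹ := by rw [hb]; group
            _ = d * (x * q * x⁻¹) * (d * q)⁻¹ * b⁻¹ := by rw [e1, hd]; group
            _ = _ := by rw [hb]; group
        rw [e]
        exact C.comm_mem hcjA.2 hbQ
      have hxb : x * b = b * x := mK hx b hbA.1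
      have key : ∀ n : ℕ, x ^ n * q * (x ^ n)⁻¹ = b ^ n * q := by
        intro n
        induction n with
        | zero => simp
        | succ n ih =>
          calc x ^ (n + 1) * q * (x ^ (n + 1))⁻¹ = x * (x ^ n * q * (x ^ n)⁻¹) * x⁻¹ := by
                rw [pow_succ']; group
            _ = x * b ^ n * q * x⁻¹ := by rw [ih]; group
            _ = b ^ n * (x * q * x⁻¹) := by
                rw [((show Commute x b from hxb).pow_right n).eq]; group
            _ = b ^ (n + 1) * q := by rw [pow_succ, hb]; group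
      have h1 := key p
      rw [hxp, one_mul, inv_one, mul_one, eq_comm, mul_eq_right] at h1
      have hg : b ^ Nat.gcd p 3 = 1 := pow_gcd_eq_one.2 ⟨h1, C.exp_Q b hbQ⟩
      rw [(Nat.coprime_primes hp Nat.prime_three).2 hp3, pow_one] at hg
      rw [hg]; exact one_mem _
    have hg : x ^ Nat.gcd p 3 = 1 := pow_gcd_eq_one.2 ⟨hxp, C.exp_Q x hxQ⟩
    rwa [(Nat.coprime_primes hp Nat.prime_three).2 hp3, pow_one] at hg
  have hKp : IsPGroup 3 K := by
    refine IsPGroup.iff_card.2 ⟨_, Nat.eq_prime_pow_of_unique_prime_dvd Nat.card_pos.ne' fun {d} hd hdK => ?_⟩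
    by_contra hd3
    haveI := Fact.mk hd
    obtain ⟨x, hx⟩ := exists_prime_orderOf_dvd_card' (G := K) d hdK
    have := hprime x x.2 d hd hd3 (by
      rw [← coe_pow, ← hx, pow_orderOf_eq_one]; rfl)
    rw [show x = 1 from Subtype.ext this, orderOf_one] at hx
    exact hd.one_lt.ne hx
  have hcK : c ∈ K := mem_centralizer_iff.2 fun y hy => (hc y hy).symm
  obtain ⟨g, hg⟩ := C.exists_conj_S hKp
  have hJg : C.J.map (MulAut.conj g).toMonoidHom = C.J := by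
    refine C.J_unique_S ?_ ?_ (by rw [card_map_of_injective (MulAut.conj g).injective, C.card_J])
    · rintro _ ⟨x, hx, rfl⟩; exact hg x (hJK hx)
    · rintro _ ⟨x, hx, rfl⟩ _ ⟨y, hy, rfl⟩; rw [← map_mul, ← map_mul, C.J_comm x hx y hy]
  have hcg : g * c * g⁻¹ ∈ C.J := by
    have hS := hg c hcK
    have hcom : ∀ y ∈ C.J, (g * c * g⁻¹) * y = y * (g * c * g⁻¹) := by
      intro y hy
      rw [← hJg] at hy
      obtain ⟨x, hx, rfl⟩ := hy
      show g * c * g⁻¹ * (g * x * g⁻¹) = g * x * g⁻¹ * (g * c * g⁻¹)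
      calc g * c * g⁻¹ * (g * x * g⁻¹) = g * (c * x) * g⁻¹ := by group
        _ = g * (x * c) * g⁻¹ := by rw [hc x hx]
        _ = _ := by group
    obtain ⟨q, hq, j', hj', e⟩ := C.S_decomp hS
    rw [e]
    refine mul_mem (C.A_cent hq fun a ha => ?_).1 hj'
    have h := hcom a ha.1
    rw [e] at h
    calc q * a = q * (a * j') * j'⁻¹ := by group
      _ = q * (j' * a) * j'⁻¹ := by rw [C.J_comm j' hj' a ha.1]
      _ = a * (q * j') * j'⁻¹ := by rw [← mul_assoc, h]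
      _ = a * q := by group
  rw [← hJg] at hcg
  obtain ⟨x, hx, e⟩ := hcg
  exact conj_injective e ▸ hx

end Conf

end Cfsg.Agent.McLThree
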