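import Cfsg.Agent.Lib.McLThree.Kill

/-!
The 3-local structure of the centraliser of the involution: the normaliser of `⟨z, w⟩` and the
centraliser of `y`.
-/

set_option autoImplicit false
set_option maxRecDepth 20000
set_option maxHeartbeats 1000000
set_option synthInstance.maxSize 4000
set_option synthInstance.maxHeartbeats 400000
set_option linter.style.haveILetI false
set_option linter.unusedSectionVars false

namespace Cfsg.Agent.McLThree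

open Subgroup

/-- The images of `z` and `w` under the standard elements, as exponents. -/
def tab (a b c : Fin 2) : (Fin 3 × Fin 3) × (Fin 3 × Fin 3) :=
  let εb : Fin 3 := if b = 0 then 1 else 2
  let εc : Fin 3 := if c = 0 then 1 else 2
  if a = 0 then ((εb, 0), (0, εc)) else ((0, εb), (εc, 0))

theorem tab_inj : ∀ a b c a' b' c' : Fin 2, tab a b c = tab a' b' c' → a = a' ∧ b = b' ∧ c = c' := by decide

theorem one_type : ∀ i k : Fin 3, (i = 0 ∨ k = 0) → ¬ (i = 0 ∧ k = 0) →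
    ∃ a b : Fin 2, (tab a b 0).1 = (i, k) := by decide

theorem tab_first : ∀ a b c : Fin 2, (tab a b c).1 = (tab a b 0).1 := by decide

namespace Conf.Frame

variable {G : Type*} [Group G] [Finite G] {C : Conf G} (F : C.Frame)
include F

/-- Elements of `M` over the centraliser of `t6` can be chosen to centralise `t`. -/
theorem lift_M_t {p : A6} (hp : p * t6 = t6 * p) :
    ∃ (g : G) (hg : g ∈ C.M), F.psi ⟨g, hg⟩ = p ∧ g * C.t = C.t * g := by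
  obtain ⟨g1, hg1⟩ := F.psi_surj p
  set j : G := C.t⁻¹ * ((g1 : G) * C.t * (g1 : G)⁻¹) with hj
  have hjJ : j ∈ C.J := (F.psi_ker (⟨C.t, F.t_M⟩⁻¹ * (g1 * ⟨C.t, F.t_M⟩ * g1⁻¹))).1 (by
    rw [map_mul, map_inv, F.psi_conj, F.psi_t, hg1, hp, mul_inv_cancel_right, inv_mul_cancel])
  have h4 : C.t * j⁻¹ * C.t = j := by
    rw [hj, mul_inv_rev, inv_inv, C.t_inv]
    calc C.t * (((g1 : G) * C.t * (g1 : G)⁻¹)⁻¹ * C.t) * C.t
        = C.t * ((g1 : G) * C.t⁻¹ * (g1 : G)⁻¹) * (C.t * C.t) := by group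
      _ = _ := by rw [C.tt, mul_one, C.t_inv]
  have hgψ : F.psi ⟨j⁻¹ * g1, mul_mem (C.JM (inv_mem hjJ)) g1.2⟩ = p := by
    rw [show (⟨j⁻¹ * g1, mul_mem (C.JM (inv_mem hjJ)) g1.2⟩ : C.M) = ⟨j, C.JM hjJ⟩⁻¹ * g1 from rfl, map_mul,
      map_inv, (F.psi_ker ⟨j, C.JM hjJ⟩).2 hjJ, inv_one, one_mul, hg1]
  refine ⟨j⁻¹ * g1, _, hgψ, ?_⟩
  calc j⁻¹ * g1 * C.t = j⁻¹ * ((g1 : G) * C.t * (g1 : G)⁻¹) * g1 := by group
    _ = j⁻¹ * (C.t * j) * g1 := by rw [hj, mul_inv_cancel_left]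
    _ = (C.t * C.t) * (j⁻¹ * C.t * j) * g1 := by rw [C.tt, one_mul]; group
    _ = C.t * (C.t * j⁻¹ * C.t) * j * g1 := by group
    _ = C.t * (j * j * j) * (j⁻¹ * g1) := by rw [h4]; group
    _ = _ := by rw [← pow_two, ← pow_succ, C.J_exp j hjJ, mul_one]

end Conf.Frame

namespace Conf.Pair

variable {G : Type*} [Group G] [Finite G] {C : Conf G} (P : C.Pair)
include P

/-- The conjugate of `e` inverting `z`. -/
def e' : G := P.g * P.e * P.g⁻¹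

theorem e'_t : P.e' * C.t = C.t * P.e' :=
  (((show Commute P.g C.t from P.g_t).mul_left (show Commute P.e C.t from P.e_t)).mul_left
    (show Commute P.g C.t from P.g_t).inv_left).eq

theorem e'_z : P.e' * P.z * P.e'⁻¹ = P.z⁻¹ := by
  rw [e', show P.g * P.e * P.g⁻¹ * P.z * (P.g * P.e * P.g⁻¹)⁻¹ =
    P.g * (P.e * (P.g⁻¹ * P.z * P.g) * P.e⁻¹) * P.g⁻¹ by group, P.ginv_z, P.e_w, ← P.gwg]
  group

theorem e'_w : P.e' * P.w * P.e'⁻¹ = P.w := by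
  rw [e', show P.g * P.e * P.g⁻¹ * P.w * (P.g * P.e * P.g⁻¹)⁻¹ =
    P.g * (P.e * (P.g⁻¹ * P.w * P.g) * P.e⁻¹) * P.g⁻¹ by group, P.ginv_w, P.e_z, mul_inv_cancel_right, P.gzg]

theorem e'_sq : P.e' * P.e' = C.t := by
  rw [e', show P.g * P.e * P.g⁻¹ * (P.g * P.e * P.g⁻¹) = P.g * (P.e * P.e) * P.g⁻¹ by group, P.e_sq, P.g_t,
    mul_inv_cancel_right]

theorem e'_J : P.e' ∈ normalizer (C.J : Set G) := mul_mem (mul_mem P.g_norm P.e_J) (inv_mem P.g_norm)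

/-- The Sylow 3-subgroup of the centraliser of the involution. -/
def D (_ : C.Pair) : Subgroup G where
  carrier := {x | x ∈ C.J ∧ x * C.t = C.t * x}
  one_mem' := ⟨one_mem _, by simp⟩
  mul_mem' := fun {a b} ha hb => ⟨mul_mem ha.1 hb.1,
    ((show Commute a C.t from ha.2).mul_left (show Commute b C.t from hb.2)).eq⟩
  inv_mem' := fun {a} ha => ⟨inv_mem ha.1, (show Commute a C.t from ha.2).inv_left.eq⟩

theorem z_D : P.z ∈ P.D := ⟨P.z_J, P.z_t⟩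

theorem w_D : P.w ∈ P.D := ⟨P.w_J, P.w_t⟩

theorem D_cases' {x : G} (hx : x ∈ P.D) : ∃ i k : Fin 3, x = P.z ^ (i : ℕ) * P.w ^ (k : ℕ) :=
  P.D_cases hx.1 hx.2

/-- A standard element of the normaliser of `D`. -/
def nel (a b c : Fin 2) : G := P.g ^ (a : ℕ) * P.e' ^ (b : ℕ) * P.e ^ (c : ℕ)

theorem nel_t (a b c : Fin 2) : P.nel a b c * C.t = C.t * P.nel a b c :=
  ((((show Commute P.g C.t from P.g_t).pow_left _).mul_left ((show Commute P.e' C.t from P.e'_t).pow_left _)).mul_left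
    ((show Commute P.e C.t from P.e_t).pow_left _)).eq

theorem nel_act (a b c : Fin 2) :
    P.nel a b c * P.z * (P.nel a b c)⁻¹ =
        P.z ^ ((tab a b c).1.1 : ℕ) * P.w ^ ((tab a b c).1.2 : ℕ) ∧
      P.nel a b c * P.w * (P.nel a b c)⁻¹ =
        P.z ^ ((tab a b c).2.1 : ℕ) * P.w ^ ((tab a b c).2.2 : ℕ) := by
  have hz2 : P.z⁻¹ = P.z ^ 2 := inv_eq_of_mul_eq_one_right ((pow_succ' _ _).symm.trans P.z3)
  have hw2 : P.w⁻¹ = P.w ^ 2 := inv_eq_of_mul_eq_one_right ((pow_succ' _ _).symm.trans P.w3)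
  have hez : P.e * P.z * P.e⁻¹ = P.z := by rw [P.e_z, mul_inv_cancel_right]
  have hpow : ∀ (x u v : G), x * u * x⁻¹ = v → x * u ^ 2 * x⁻¹ = v ^ 2 := fun x u v h => by
    rw [← conj_pow, h]
  have hz' : P.e' * P.z * P.e'⁻¹ = P.z ^ 2 := P.e'_z.trans hz2
  have hw' : P.e * P.w * P.e⁻¹ = P.w ^ 2 := P.e_w.trans hw2
  fin_cases a <;> fin_cases b <;> fin_cases c <;>
    simp [nel, tab, P.gzg, P.gwg, hz', hw', hez, P.e'_w, hpow _ _ _ P.gzg, hpow _ _ _ P.gwg,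
      hpow _ _ _ P.e'_w, mul_assoc] <;>
    (try simp only [← mul_assoc, P.gzg, P.gwg, hz', hw', hez, P.e'_w, hpow _ _ _ P.gzg, hpow _ _ _ P.gwg,
      hpow _ _ _ P.e'_w]) <;>
    (try constructor) <;>
    (try first
      | (calc _ = P.g * (P.e' * (P.e * P.z * P.e⁻¹) * P.e'⁻¹) * P.g⁻¹ := by group
            _ = _ := by rw [hez, hz', hpow _ _ _ P.gzg])
      | (calc _ = P.g * (P.e' * (P.e * P.w * P.e⁻¹) * P.e'⁻¹) * P.g⁻¹ := by group
            _ = _ := by rw [hw', hpow _ _ _ P.e'_w, hpow _ _ _ P.gwg])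
      | (calc _ = P.e' * (P.e * P.z * P.e⁻¹) * P.e'⁻¹ := by group
            _ = _ := by rw [hez, hz'])
      | (calc _ = P.e' * (P.e * P.w * P.e⁻¹) * P.e'⁻¹ := by group
            _ = _ := by rw [hw', hpow _ _ _ P.e'_w])
      | (calc _ = P.g * (P.e' * P.z * P.e'⁻¹) * P.g⁻¹ := by group
            _ = _ := by rw [hz', hpow _ _ _ P.gzg])
      | (calc _ = P.g * (P.e' * P.w * P.e'⁻¹) * P.g⁻¹ := by group
            _ = _ := by rw [P.e'_w, P.gwg])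
      | (calc _ = P.g * (P.e * P.z * P.e⁻¹) * P.g⁻¹ := by group
            _ = _ := by rw [hez, P.gzg])
      | (calc _ = P.g * (P.e * P.w * P.e⁻¹) * P.g⁻¹ := by group
            _ = _ := by rw [hw', hpow _ _ _ P.gwg])) <;>
    trivial

theorem nel_norm (a b c : Fin 2) : P.nel a b c ∈ normalizer (P.D : Set G) := by
  obtain ⟨h1, h2⟩ := P.nel_act a b c
  refine C.norm_of_le fun x hx => ?_
  obtain ⟨i, k, rfl⟩ := P.D_cases' hx
  rw [show P.nel a b c * (P.z ^ (i : ℕ) * P.w ^ (k : ℕ)) * (P.nel a b c)⁻¹ =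
    (P.nel a b c * P.z ^ (i : ℕ) * (P.nel a b c)⁻¹) * (P.nel a b c * P.w ^ (k : ℕ) * (P.nel a b c)⁻¹) by group,
    ← conj_pow, ← conj_pow, h1, h2]
  exact mul_mem (pow_mem (mul_mem (pow_mem P.z_D _) (pow_mem P.w_D _)) _)
    (pow_mem (mul_mem (pow_mem P.z_D _) (pow_mem P.w_D _)) _)

/-- The elements centralising `t`, `z` and `w`. -/
theorem kernel_cases (hCZ : C.CZ ≤ C.L) {x : G} (ht : x * C.t = C.t * x) (hz : x * P.z = P.z * x)
    (hw : x * P.w = P.w * x) : ∃ (i k : Fin 3) (a : Fin 2), x = P.z ^ (i : ℕ) * P.w ^ (k : ℕ) * C.t ^ (a : ℕ) := by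
  obtain ⟨j, hj, e⟩ := P.cent_zw hCZ hz hw
  have hjt : j * C.t = C.t * j := by
    rcases e with rfl | rfl
    · exact ht
    · have := (show Commute (j * C.t) C.t from ht).mul_left (Commute.refl C.t).inv_left
      rwa [mul_inv_cancel_right] at this
  obtain ⟨i, k, rfl⟩ := P.D_cases hj hjt
  rcases e with rfl | rfl
  · exact ⟨i, k, 0, by simp⟩
  · exact ⟨i, k, 1, by simp⟩

theorem t_pow_J {a : Fin 2} (h : C.t ^ (a : ℕ) ∈ C.J) : a = 0 := by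
  fin_cases a
  · rfl
  · exfalso
    have h1 : C.t ∈ C.J := by simpa using h
    have h3 := C.J_exp _ h1
    rw [pow_succ, pow_two, C.tt, one_mul] at h3
    exact C.t_ne h3

theorem kernel_inj {i k i' k' : Fin 3} {a a' : Fin 2}
    (h : P.z ^ (i : ℕ) * P.w ^ (k : ℕ) * C.t ^ (a : ℕ) = P.z ^ (i' : ℕ) * P.w ^ (k' : ℕ) * C.t ^ (a' : ℕ)) :
    i = i' ∧ k = k' ∧ a = a' := by
  have hJ : ∀ i k : Fin 3, P.z ^ (i : ℕ) * P.w ^ (k : ℕ) ∈ C.J := fun i k =>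
    mul_mem (pow_mem P.z_J _) (pow_mem P.w_J _)
  have ha : a = a' := by
    fin_cases a <;> fin_cases a'
    · rfl
    · exact absurd (P.t_pow_J (a := 1) (by
        have := mul_mem (inv_mem (hJ i' k')) (hJ i k)
        simp only [Fin.zero_eta, Fin.mk_one, Fin.coe_ofNat_eq_mod, Nat.zero_mod, Nat.one_mod, pow_zero,
          pow_one, mul_one] at h
        rw [h, inv_mul_cancel_left] at this
        simpa using this)) (by decide)
    · exact absurd (P.t_pow_J (a := 1) (by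
        have := mul_mem (inv_mem (hJ i k)) (hJ i' k')
        simp only [Fin.zero_eta, Fin.mk_one, Fin.coe_ofNat_eq_mod, Nat.zero_mod, Nat.one_mod, pow_zero,
          pow_one, mul_one] at h
        rw [← h, inv_mul_cancel_left] at this
        simpa using this)) (by decide)
    · rfl
  subst ha
  obtain ⟨h1, h2⟩ := P.D_eq (mul_right_cancel h)
  exact ⟨h1, h2, rfl⟩

/-- The part of the centraliser of `t` normalising `D`. -/
def ND : Subgroup G := centralizer ({C.t} : Set G) ⊓ normalizer (P.D : Set G)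

theorem mem_ND {x : G} : x ∈ P.ND ↔ x * C.t = C.t * x ∧ x ∈ normalizer (P.D : Set G) := by
  rw [ND, mem_inf, mem_centralizer_singleton_iff]

theorem card_ND (hCZ : C.CZ ≤ C.L) : Nat.card P.ND = 144 := by
  classical
  have hD : P.D ≤ P.ND := fun x hx => P.mem_ND.2 ⟨hx.2, le_normalizer hx⟩
  have htN : C.t ∈ P.ND := P.mem_ND.2 ⟨rfl, C.norm_of_le fun x hx => by
    rw [← hx.2, mul_inv_cancel_right]; exact hx⟩
  set f : (Fin 2 × Fin 2 × Fin 2) × (Fin 3 × Fin 3 × Fin 2) → P.ND := fun p =>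
    ⟨P.nel p.1.1 p.1.2.1 p.1.2.2 * (P.z ^ (p.2.1 : ℕ) * P.w ^ (p.2.2.1 : ℕ) * C.t ^ (p.2.2.2 : ℕ)),
      mul_mem (P.mem_ND.2 ⟨P.nel_t _ _ _, P.nel_norm _ _ _⟩)
        (mul_mem (mul_mem (pow_mem (hD P.z_D) _) (pow_mem (hD P.w_D) _)) (pow_mem htN _))⟩
  have hker : ∀ (i k : Fin 3) (a : Fin 2), Commute (P.z ^ (i : ℕ) * P.w ^ (k : ℕ) * C.t ^ (a : ℕ)) P.z ∧
      Commute (P.z ^ (i : ℕ) * P.w ^ (k : ℕ) * C.t ^ (a : ℕ)) P.w := fun i k a =>
    ⟨(((Commute.refl P.z).pow_left _).mul_left ((show Commute P.w P.z from P.zw.symm).pow_left _)).mul_left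
      ((show Commute C.t P.z from P.z_t.symm).pow_left _),
    (((show Commute P.z P.w from P.zw).pow_left _).mul_left ((Commute.refl P.w).pow_left _)).mul_left
      ((show Commute C.t P.w from P.w_t.symm).pow_left _)⟩
  have hinj : Function.Injective f := by
    rintro ⟨⟨a, b, c⟩, i, k, d⟩ ⟨⟨a', b', c'⟩, i', k', d'⟩ h
    have h' : P.nel a b c * (P.z ^ (i : ℕ) * P.w ^ (k : ℕ) * C.t ^ (d : ℕ)) =
        P.nel a' b' c' * (P.z ^ (i' : ℕ) * P.w ^ (k' : ℕ) * C.t ^ (d' : ℕ)) := congrArg Subtype.val h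
    have e : ∀ {n r v : G}, Commute r v → (n * r) * v * (n * r)⁻¹ = n * v * n⁻¹ := fun {n r v} hc => by
      rw [show n * r * v * (n * r)⁻¹ = n * (r * v * r⁻¹) * n⁻¹ by group, hc.eq, mul_inv_cancel_right]
    have hz : P.nel a b c * P.z * (P.nel a b c)⁻¹ = P.nel a' b' c' * P.z * (P.nel a' b' c')⁻¹ := by
      rw [← e (hker i k d).1, h', e (hker i' k' d').1]
    have hw : P.nel a b c * P.w * (P.nel a b c)⁻¹ = P.nel a' b' c' * P.w * (P.nel a' b' c')⁻¹ := by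
      rw [← e (hker i k d).2, h', e (hker i' k' d').2]
    rw [(P.nel_act a b c).1, (P.nel_act a' b' c').1] at hz
    rw [(P.nel_act a b c).2, (P.nel_act a' b' c').2] at hw
    obtain ⟨q1, q2⟩ := P.D_eq hz
    obtain ⟨q3, q4⟩ := P.D_eq hw
    obtain ⟨rfl, rfl, rfl⟩ := tab_inj a b c a' b' c' (Prod.ext (Prod.ext q1 q2) (Prod.ext q3 q4))
    obtain ⟨rfl, rfl, rfl⟩ := P.kernel_inj (mul_left_cancel h')
    rfl
  have hsurj : Function.Surjective f := by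
    rintro ⟨x, hx⟩
    obtain ⟨hxt, hxD⟩ := P.mem_ND.1 hx
    obtain ⟨i, k, hik⟩ := P.D_cases' ((mem_normalizer_iff.1 hxD _).1 P.z_D)
    have hnz : ¬ (i = 0 ∧ k = 0) := by
      rintro ⟨rfl, rfl⟩
      exact P.z_ne (conj_eq_one_iff.1 (hik.trans (by simp)))
    obtain ⟨a, b, hab⟩ := one_type i k (P.type_conj hik) hnz
    set n0 := P.nel a b 0 with hn0
    have h0 : n0 * P.z * n0⁻¹ = x * P.z * x⁻¹ := by
      rw [hik, hn0, (P.nel_act a b 0).1, hab]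
    have hn0N : n0 ∈ P.ND := P.mem_ND.2 ⟨P.nel_t _ _ _, P.nel_norm _ _ _⟩
    set x1 := n0⁻¹ * x with hx1
    have hx1N : x1 ∈ P.ND := mul_mem (inv_mem hn0N) hx
    have hx1z : x1 * P.z * x1⁻¹ = P.z := by
      calc x1 * P.z * x1⁻¹ = n0⁻¹ * (x * P.z * x⁻¹) * n0 := by rw [hx1]; group
        _ = P.z := by rw [← h0]; group
    obtain ⟨i1, k1, hik1⟩ := P.D_cases' ((mem_normalizer_iff.1 (P.mem_ND.1 hx1N).2 _).1 P.w_D)
    have hw1 : i1 = 0 := by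
      rcases P.type_conj (g := x1 * P.g) (i := i1) (k := k1) (by
        rw [show x1 * P.g * P.z * (x1 * P.g)⁻¹ = x1 * (P.g * P.z * P.g⁻¹) * x1⁻¹ by group, P.gzg, hik1]) with h | h
      · exact h
      · exfalso
        subst h
        have h2 : P.w = P.z ^ (i1 : ℕ) := by
          calc P.w = x1⁻¹ * (x1 * P.w * x1⁻¹) * x1 := by group
            _ = x1⁻¹ * (x1 * P.z * x1⁻¹) ^ (i1 : ℕ) * x1 := by rw [hik1, hx1z]; simp
            _ = P.z ^ (i1 : ℕ) := by rw [conj_pow]; group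
        exact P.w_notQ (h2 ▸ pow_mem (C.Z_le_Q P.z_mem) _)
    subst hw1
    obtain ⟨c, hc⟩ : ∃ c : Fin 2, (tab 0 0 c).2 = (0, k1) := by
      have : k1 ≠ 0 := fun h => P.w_ne (conj_eq_one_iff.1 (hik1.trans (by simp [h])))
      revert this
      exact (by decide : ∀ k : Fin 3, k ≠ 0 → ∃ c : Fin 2, (tab 0 0 c).2 = (0, k)) k1
    set n1 := P.e ^ (c : ℕ) with hn1
    have hn1' : n1 = P.nel 0 0 c := by rw [hn1, nel]; simp
    have hez : n1 * P.z * n1⁻¹ = P.z := by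
      rw [hn1, ((show Commute P.e P.z from P.e_z).pow_left _).eq, mul_inv_cancel_right]
    set r := n1⁻¹ * x1 with hr
    have hrz : r * P.z = P.z * r := mul_inv_eq_iff_eq_mul.1 (by
      calc r * P.z * r⁻¹ = n1⁻¹ * (x1 * P.z * x1⁻¹) * n1 := by rw [hr]; group
        _ = P.z := by
          rw [hx1z]
          calc n1⁻¹ * P.z * n1 = n1⁻¹ * (n1 * P.z * n1⁻¹) * n1 := by rw [hez]
            _ = P.z := by group)
    have hrw : r * P.w = P.w * r := mul_inv_eq_iff_eq_mul.1 (by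
      calc r * P.w * r⁻¹ = n1⁻¹ * (x1 * P.w * x1⁻¹) * n1 := by rw [hr]; group
        _ = n1⁻¹ * (n1 * P.w * n1⁻¹) * n1 := by rw [hik1, hn1', (P.nel_act 0 0 c).2, hc]
        _ = P.w := by group)
    have hrt : r * C.t = C.t * r :=
      (((show Commute P.e C.t from P.e_t).pow_left _).inv_left.mul_left
        (show Commute x1 C.t from (P.mem_ND.1 hx1N).1)).eq
    obtain ⟨i2, k2, d, h2⟩ := P.kernel_cases hCZ hrt hrz hrw
    refine ⟨⟨⟨a, b, c⟩, i2, k2, d⟩, Subtype.ext ?_⟩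
    show P.nel a b c * (P.z ^ (i2 : ℕ) * P.w ^ (k2 : ℕ) * C.t ^ (d : ℕ)) = x
    have e : P.nel a b c = n0 * n1 := by rw [hn0, hn1, nel, nel]; simp
    rw [← h2, e, hr, hx1]
    group
  rw [← Nat.card_congr (Equiv.ofBijective f ⟨hinj, hsurj⟩)]
  simp

end Conf.Pair

namespace Conf.Pair.Point

variable {G : Type*} [Group G] [Finite G] {C : Conf G} {P : C.Pair} (O : P.Point)
include O

/-- The element of order four inverting `z` and `w`. -/
theorem exists_f : ∃ f ∈ C.M, f * C.t = C.t * f ∧ f * P.z * f⁻¹ = P.z⁻¹ ∧ f * P.w * f⁻¹ = P.w⁻¹ ∧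
    f * f = C.t := by
  obtain ⟨-, -, -, -, hfN, hff, -, -, -, -, -, -, hft, hgf⟩ := six_basic
  obtain ⟨f, hfM, hfψ, hf⟩ := P.toFrame.lift_M_t hft
  set F : C.M := ⟨f, hfM⟩
  have hN : f ∈ normalizer (C.Z : Set G) := (P.toFrame.norm_Z_iff F).2 (hfψ ▸ hfN)
  set Gm : C.M := ⟨P.g, P.g_mem⟩
  have hj : ((F * (Gm⁻¹ * F * Gm) : C.M) : G) ∈ C.J := (P.psi_ker _).1 (by
    rw [map_mul, map_mul, map_mul, map_inv, hfψ, P.psi_g]
    obtain ⟨-, -, -, -, -, -, -, -, hgg, -⟩ := six_basic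
    have : g6⁻¹ = g6 := inv_eq_of_mul_eq_one_right hgg
    rw [this] at hgf ⊢
    rw [hgf, mul_inv_cancel])
  have hswap : f * P.w * f⁻¹ = P.g * (f⁻¹ * P.z * f) * P.g⁻¹ := by
    set j : G := ((F * (Gm⁻¹ * F * Gm) : C.M) : G) with hjdef
    have e : P.g⁻¹ * f * P.g = f⁻¹ * j := by rw [hjdef]; simp [F, Gm, mul_assoc]
    calc f * P.w * f⁻¹ = P.g * ((P.g⁻¹ * f * P.g) * P.z * (P.g⁻¹ * f * P.g)⁻¹) * P.g⁻¹ := by
          rw [P.w_eq]; group
      _ = P.g * (f⁻¹ * (j * P.z * j⁻¹) * f) * P.g⁻¹ := by rw [e]; group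
      _ = _ := by rw [C.J_comm _ hj _ P.z_J, mul_inv_cancel_right]
  have hz : f * P.z * f⁻¹ = P.z⁻¹ := by
    rcases C.Z_cases P.z_mem P.z_ne (C.conj_Z hN P.z_mem) with h | h | h
    · exact absurd (conj_eq_one_iff.1 h) P.z_ne
    · exfalso
      have h' : f⁻¹ * P.z * f = P.z := by
        calc f⁻¹ * P.z * f = f⁻¹ * (f * P.z * f⁻¹) * f := by rw [h]
          _ = P.z := by group
      rw [h', P.gzg] at hswap
      refine O.f_notU (O.mem_U.2 ⟨F, ?_, hfψ⟩)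
      show f * P.y = P.y * f
      rw [y]
      exact ((show Commute f P.z from mul_inv_eq_iff_eq_mul.1 h).mul_right
        (show Commute f P.w from mul_inv_eq_iff_eq_mul.1 hswap)).eq
    · exact h
  have hzi : f⁻¹ * P.z * f = P.z⁻¹ := by
    have h2 : f * P.z⁻¹ * f⁻¹ = P.z := by
      rw [show f * P.z⁻¹ * f⁻¹ = (f * P.z * f⁻¹)⁻¹ by group, hz, inv_inv]
    calc f⁻¹ * P.z * f = f⁻¹ * (f * P.z⁻¹ * f⁻¹) * f := by rw [h2]
      _ = P.z⁻¹ := by group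
  have hw : f * P.w * f⁻¹ = P.w⁻¹ := by
    rw [hswap, hzi, show P.g * P.z⁻¹ * P.g⁻¹ = (P.g * P.z * P.g⁻¹)⁻¹ by group, P.gzg]
  refine ⟨f, hfM, hf, hz, hw, ?_⟩
  set T : C.M := ⟨C.t, P.t_M⟩
  have hjJ : C.t⁻¹ * (f * f) ∈ C.J := (P.psi_ker (T⁻¹ * (F * F))).1 (by
    rw [map_mul, map_mul, map_inv, P.psi_t, hfψ, hff, inv_mul_cancel])
  have hcomm : Commute (C.t⁻¹ * (f * f)) C.t :=
    (Commute.refl C.t).inv_left.mul_left
      ((show Commute f C.t from hf).mul_left (show Commute f C.t from hf))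
  obtain ⟨i, k, hik⟩ := P.D_cases hjJ hcomm.eq
  have hfix : f * (C.t⁻¹ * (f * f)) * f⁻¹ = C.t⁻¹ * (f * f) := by
    calc f * (C.t⁻¹ * (f * f)) * f⁻¹ = (f * C.t⁻¹) * f := by group
      _ = (C.t⁻¹ * f) * f := by rw [((show Commute f C.t from hf).inv_right).eq]
      _ = _ := by group
  rw [hik, show f * (P.z ^ (i : ℕ) * P.w ^ (k : ℕ)) * f⁻¹ =
    (f * P.z ^ (i : ℕ) * f⁻¹) * (f * P.w ^ (k : ℕ) * f⁻¹) by group, ← conj_pow, ← conj_pow, hz, hw, inv_pow,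
    inv_pow, ← P.pow_neg_fin P.z3, ← P.pow_neg_fin P.w3] at hfix
  obtain ⟨hi, hk⟩ := P.D_eq hfix
  have key : ∀ i : Fin 3, -i = i → i = 0 := by decide
  rw [key i hi, key k hk] at hik
  simp only [Fin.val_zero, pow_zero, one_mul] at hik
  exact (inv_mul_eq_one.1 hik).symm

/-- The centraliser of `t` and `y`. -/
theorem card_cent_t_y (hCZ : C.CZ ≤ C.L) :
    Nat.card (centralizer ({C.t} : Set G) ⊓ centralizer ({P.y} : Set G) : Subgroup G) = 36 := by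
  classical
  set R := (centralizer ({C.t} : Set G) ⊓ centralizer ({P.y} : Set G) : Subgroup G) with hR
  have memR : ∀ {x : G}, x ∈ R ↔ x * C.t = C.t * x ∧ x * P.y = P.y * x := fun {x} => by
    rw [hR, mem_inf, mem_centralizer_singleton_iff, mem_centralizer_singleton_iff]
  have htR : C.t ∈ R := memR.2 ⟨rfl, P.y_t.symm⟩
  have hgR : P.g ∈ R := memR.2 ⟨P.g_t, mul_inv_eq_iff_eq_mul.1 P.g_y⟩
  have hDR : ∀ i k : Fin 3, P.z ^ (i : ℕ) * P.w ^ (k : ℕ) ∈ R := fun i k => memR.2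
    ⟨(((show Commute P.z C.t from P.z_t).pow_left _).mul_left ((show Commute P.w C.t from P.w_t).pow_left _)).eq,
      C.J_comm _ (mul_mem (pow_mem P.z_J _) (pow_mem P.w_J _)) _ P.y_J⟩
  set f : (Fin 3 × Fin 3) × (Fin 2 × Fin 2) → R := fun p =>
    ⟨(P.z ^ (p.1.1 : ℕ) * P.w ^ (p.1.2 : ℕ)) * (C.t ^ (p.2.1 : ℕ) * P.g ^ (p.2.2 : ℕ)),
      mul_mem (hDR _ _) (mul_mem (pow_mem htR _) (pow_mem hgR _))⟩
  set T : C.M := ⟨C.t, P.t_M⟩
  set Gm : C.M := ⟨P.g, P.g_mem⟩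
  have hψ : ∀ (j : G) (hj : j ∈ C.J) (a b : Fin 2),
      P.psi ⟨j * (C.t ^ (a : ℕ) * P.g ^ (b : ℕ)),
        mul_mem (C.JM hj) (mul_mem (pow_mem P.t_M _) (pow_mem P.g_mem _))⟩ = t6 ^ (a : ℕ) * g6 ^ (b : ℕ) := by
    intro j hj a b
    rw [show (⟨j * (C.t ^ (a : ℕ) * P.g ^ (b : ℕ)), _⟩ : C.M) = ⟨j, C.JM hj⟩ * (T ^ (a : ℕ) * Gm ^ (b : ℕ)) from
      Subtype.ext (by simp [T, Gm]), map_mul, map_mul, map_pow, map_pow, P.psi_t, P.psi_g,
      (P.psi_ker ⟨j, C.JM hj⟩).2 hj, one_mul]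
  have hinj : Function.Injective f := by
    rintro ⟨⟨i, k⟩, a, b⟩ ⟨⟨i', k'⟩, a', b'⟩ h
    have h' : (P.z ^ (i : ℕ) * P.w ^ (k : ℕ)) * (C.t ^ (a : ℕ) * P.g ^ (b : ℕ)) =
        (P.z ^ (i' : ℕ) * P.w ^ (k' : ℕ)) * (C.t ^ (a' : ℕ) * P.g ^ (b' : ℕ)) := congrArg Subtype.val h
    have hj : ∀ i k : Fin 3, P.z ^ (i : ℕ) * P.w ^ (k : ℕ) ∈ C.J := fun i k =>
      mul_mem (pow_mem P.z_J _) (pow_mem P.w_J _)
    have e : t6 ^ (a : ℕ) * g6 ^ (b : ℕ) = t6 ^ (a' : ℕ) * g6 ^ (b' : ℕ) := by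
      rw [← hψ _ (hj i k) a b, ← hψ _ (hj i' k') a' b']
      exact congrArg P.psi (Subtype.ext h')
    obtain ⟨rfl, rfl⟩ := (by decide +kernel : ∀ a b a' b' : Fin 2,
      t6 ^ (a : ℕ) * g6 ^ (b : ℕ) = t6 ^ (a' : ℕ) * g6 ^ (b' : ℕ) → a = a' ∧ b = b') a b a' b' e
    obtain ⟨rfl, rfl⟩ := P.D_eq (mul_right_cancel h')
    rfl
  have hsurj : Function.Surjective f := by
    rintro ⟨x, hx⟩
    obtain ⟨hxt, hxy⟩ := memR.1 hx
    have hxM : x ∈ C.M := O.cent_y hCZ hxy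
    obtain ⟨a, b, i, hp⟩ := O.U_decomp (O.mem_U.2 ⟨⟨x, hxM⟩, hxy, rfl⟩)
    have hcomm := P.toFrame.psi_t_comm ⟨x, hxM⟩ hxt
    rw [hp] at hcomm
    obtain ⟨a', b', hab⟩ : ∃ a' b' : Fin 2, P.psi ⟨x, hxM⟩ = t6 ^ (a' : ℕ) * g6 ^ (b' : ℕ) := by
      have key : ∀ u : A6, (u = g6 ∨ u = t6 * g6) → ∀ (a b : Fin 2) (r : A6),
          t6 ^ (a : ℕ) * u ^ (b : ℕ) * r * t6 = t6 * (t6 ^ (a : ℕ) * u ^ (b : ℕ) * r) →
          r * t6 = t6 * r ∧ ∃ a' b' : Fin 2, t6 ^ (a : ℕ) * u ^ (b : ℕ) = t6 ^ (a' : ℕ) * g6 ^ (b' : ℕ) := by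
        intro u hu a b r h
        have hc : t6 * (t6 ^ (a : ℕ) * u ^ (b : ℕ)) = t6 ^ (a : ℕ) * u ^ (b : ℕ) * t6 ∧
            ∃ a' b' : Fin 2, t6 ^ (a : ℕ) * u ^ (b : ℕ) = t6 ^ (a' : ℕ) * g6 ^ (b' : ℕ) := by
          clear h; rcases hu with rfl | rfl <;> revert a b <;> decide +kernel
        refine ⟨?_, hc.2⟩
        rw [← mul_assoc t6, hc.1, mul_assoc _ r, mul_assoc _ t6] at h
        exact mul_left_cancel h
      obtain ⟨hr, a', b', hab⟩ := key _ O.σ_t a b _ hcomm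
      have hi : i = 0 := by
        have hne : O.σ * t6 * O.σ⁻¹ ≠ t6 := by
          rcases O.σ_t with h | h <;> rw [h] <;> decide +kernel
        rcases (by decide : ∀ i : Fin 3, i = 0 ∨ i = 1 ∨ i = 2) i with rfl | rfl | rfl
        · rfl
        · exfalso
          refine hne (mul_inv_eq_iff_eq_mul.2 ?_)
          simpa using hr
        · exfalso
          refine hne (mul_inv_eq_iff_eq_mul.2 ?_)
          have h2 : Commute (O.σ ^ 2) t6 := hr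
          have h4 := h2.mul_left h2
          rw [← pow_add, show (2 : ℕ) + 2 = 3 + 1 from rfl, pow_succ, O.σ_three.1, one_mul] at h4
          exact h4.eq
      subst hi
      exact ⟨a', b', by rw [hp, ← hab]; simp⟩
    set j := x * (C.t ^ (a' : ℕ) * P.g ^ (b' : ℕ))⁻¹ with hj
    have hjJ : j ∈ C.J := (P.psi_ker (⟨x, hxM⟩ * (T ^ (a' : ℕ) * Gm ^ (b' : ℕ))⁻¹)).1 (by
      rw [map_mul, map_inv, map_mul, map_pow, map_pow, P.psi_t, P.psi_g, hab, mul_inv_cancel]) |> fun h => by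
      simpa [hj, T, Gm] using h
    have hjt : Commute j C.t := (show Commute x C.t from hxt).mul_left
      (((Commute.refl C.t).pow_left _).mul_left ((show Commute P.g C.t from P.g_t).pow_left _)).inv_left
    obtain ⟨i', k', hik⟩ := P.D_cases hjJ hjt.eq
    exact ⟨⟨⟨i', k'⟩, a', b'⟩, Subtype.ext (by
      show P.z ^ (i' : ℕ) * P.w ^ (k' : ℕ) * (C.t ^ (a' : ℕ) * P.g ^ (b' : ℕ)) = x
      rw [← hik, hj, inv_mul_cancel_right])⟩
  rw [← Nat.card_congr (Equiv.ofBijective f ⟨hinj, hsurj⟩)]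
  simp

end Conf.Pair.Point

end Cfsg.Agent.McLThree
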