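import Cfsg.Agent.Lib.McLThree.CentYBar

/-!
In the configuration of `YBar` the abelian subgroup is normal.
-/

set_option autoImplicit false
set_option maxRecDepth 40000
set_option maxHeartbeats 1000000
set_option synthInstance.maxSize 4000
set_option synthInstance.maxHeartbeats 400000
set_option linter.style.haveILetI false
set_option linter.unusedSectionVars false

namespace Cfsg.Agent.McLThree

open Subgroup
open Cfsg.Agent.LocalTI Cfsg.Agent.ThreeTI Cfsg.Agent.ThreeTI.Mono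
open Cfsg.Agent.ThreeTI.Cube (V)
open Cfsg.Agent.A9Three (J cg vb pib pib_inv noThree_b tau_inv tau_fix tau_two b_norm b_split b_card sq_m3
  conj_inJ commute_inJ_iff eq_inJ_of_right v_cube false_of_emb' rep_order outside_cube sylow_normal_of_pLength_one
  rot_three_le fixed_le)

universe u

theorem plane_card : 9 ≤ (Finset.univ.filter fun u : V => piy u = 1).card := by decide +kernel

namespace YBar

variable {X : Type u} [Group X] [Finite X] (Y : YBar X)
include Y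

theorem mem_range {x : X} (hx : x ∈ normalizer (J Y.ι : Set X)) : x ∈ Y.ι.range := by
  rw [Y.range_eq_norm, ← Y.J_eq]; exact hx

theorem mem_J_iff {m : Mo} : Y.ι m ∈ J Y.ι ↔ m.right = 1 := by
  constructor
  · rintro ⟨v, hv⟩
    have : inJ v = m := Y.ι_inj hv
    rw [← this]; rfl
  · intro h
    exact ⟨m.left, congrArg Y.ι (eq_inJ_of_right h).symm⟩

theorem card_J : Nat.card (J Y.ι) = 27 := by
  rw [Y.J_eq, ← Nat.card_congr (MonoidHom.ofInjective Y.inj).toEquiv, Nat.card_eq_fintype_card]; rfl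

theorem card_range : Nat.card Y.ι.range = 648 := by
  rw [← Nat.card_congr (MonoidHom.ofInjective Y.ι_inj).toEquiv, Nat.card_eq_fintype_card, card_mo]

theorem mem_cg_iff (m : Mo) (v : V) : Y.ι m ∈ cg Y.ι v ↔ actFn m.right v = v := by
  rw [Subgroup.mem_centralizer_singleton_iff, ← commute_inJ_iff m v, ← map_mul, ← map_mul, Y.ι_inj.eq_iff]

/-- An abelian subgroup of order 27 of the monomial group consists of translations. -/
theorem eq_J_of_le_range {A : Subgroup X} (hA : A ≤ Y.ι.range) (hp : IsPGroup 3 A)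
    (hc : ∀ x ∈ A, ∀ y ∈ A, x * y = y * x) (h27 : Nat.card A = 27) : A = J Y.ι := by
  classical
  suffices h : A ≤ J Y.ι from Subgroup.eq_of_le_of_card_ge h (by rw [Y.card_J, h27])
  intro x hx
  obtain ⟨m, rfl⟩ := hA hx
  rw [Y.mem_J_iff]
  by_contra hm
  have rc : ∀ {n : Mo}, Y.ι n ∈ A → n.right * n.right * n.right = 1 := by
    intro n hn
    obtain ⟨k, hk⟩ := hp ⟨Y.ι n, hn⟩
    exact A9Three.Cfg.rot_cube_of_pGroup (k := k) (Y.ι_inj (by
      rw [map_pow, map_one]; exact congrArg Subtype.val hk))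
  let B := A.comap Y.ι
  have hB : Nat.card B = 27 := by
    rw [← h27]
    refine Nat.card_eq_of_bijective (fun b : B => (⟨Y.ι b, b.2⟩ : A))
      ⟨fun b b' e => Subtype.ext (Y.ι_inj (congrArg Subtype.val e)), fun a => ?_⟩
    obtain ⟨n, hn⟩ := hA a.2
    exact ⟨⟨n, show Y.ι n ∈ A from hn ▸ a.2⟩, Subtype.ext hn⟩
  let Fx := Finset.univ.filter fun v : V => actFn m.right v = v
  let f : B → Fin 3 × V := fun b =>
    (if (b : Mo).right = 1 then 0 else if (b : Mo).right = m.right then 1 else 2, (b : Mo).left)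
  have split : ∀ b : B, (b : Mo).right = 1 ∨ (b : Mo).right = m.right ∨
      (b : Mo).right = m.right * m.right := fun b => by
    refine rot_three_le _ _ (rc hx) (rc b.2) hm ?_
    have := Y.ι_inj (show Y.ι (m * b) = Y.ι ((b : Mo) * m) by
      rw [map_mul, map_mul]; exact hc _ hx _ b.2)
    exact congrArg (fun n : Mo => n.right) this
  -- at most three times the fixed points
  let B0 := B ⊓ (inJ : V →* Mo).range
  have hB0 : Nat.card B0 ≤ 3 := by
    refine le_trans ?_ (fixed_le m.right (rc hx) hm)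
    rw [← Fintype.card_coe, ← Nat.card_eq_fintype_card]
    refine Nat.card_le_card_of_injective (fun b : B0 => ⟨(b : Mo).left, ?_⟩) fun b b' e => ?_
    · obtain ⟨v, hv⟩ := b.2.2
      refine Finset.mem_filter.2 ⟨Finset.mem_univ _, (commute_inJ_iff m _).1 (Y.ι_inj ?_)⟩
      rw [map_mul, map_mul, show inJ (b : Mo).left = (b : Mo) by rw [← hv]; rfl]
      exact hc _ hx _ b.2.1
    · obtain ⟨v, hv⟩ := b.2.2
      obtain ⟨v', hv'⟩ := b'.2.2
      refine Subtype.ext ?_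
      have := congrArg Subtype.val e
      simp only at this
      rw [← hv, ← hv'] at this ⊢
      simpa using this
  have hidx : Nat.card B ≤ 3 * Nat.card B0 := by
    have h1 := Subgroup.card_mul_index (B0.subgroupOf B)
    have h2 : (B0.subgroupOf B).index ≤ 3 := by
      have hms : m.right * m.right ≠ 1 := fun h => hm (by
        have := rc hx
        rwa [h, one_mul] at this)
      let g : B → Fin 3 := fun b =>
        if (b : Mo).right = 1 then 0 else if (b : Mo).right = m.right then 1 else 2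
      have key : ∀ b b' : B, g b = g b' → b⁻¹ * b' ∈ B0.subgroupOf B := by
        intro b b' e
        have hr : (b : Mo).right = (b' : Mo).right := by
          simp only [g] at e
          rcases split b with h | h | h <;> rcases split b' with h' | h' | h' <;>
            simp_all
        refine ⟨(b⁻¹ * b').2, ⟨((b⁻¹ * b' : B) : Mo).left, (eq_inJ_of_right ?_).symm⟩⟩
        simp [hr]
      rw [Subgroup.index_eq_card]
      refine le_trans (Nat.card_le_card_of_injective (fun q : B ⧸ B0.subgroupOf B => g q.out)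
        fun q q' e => ?_) (by simp)
      rw [← QuotientGroup.out_eq' q, ← QuotientGroup.out_eq' q', QuotientGroup.eq]
      exact key _ _ e
    rw [Nat.card_congr (Subgroup.subgroupOfEquivOfLe (inf_le_left : B0 ≤ B)).toEquiv] at h1
    calc Nat.card B = Nat.card B0 * (B0.subgroupOf B).index := h1.symm
      _ ≤ Nat.card B0 * 3 := Nat.mul_le_mul_left _ h2
      _ = _ := mul_comm _ _
  omega

theorem cg_conj {q : Rot} {v w : V} (hq : actFn q v = w) (hw : cg Y.ι w ≤ Y.ι.range) : cg Y.ι v ≤ Y.ι.range := by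
  intro x hx
  have hc : Y.ι (inQ q) * x * (Y.ι (inQ q))⁻¹ ∈ cg Y.ι w := by
    refine mem_centralizer_singleton_iff.2 ?_
    have e : Y.ι (inJ w) = Y.ι (inQ q) * Y.ι (inJ v) * (Y.ι (inQ q))⁻¹ := by
      rw [← map_mul, ← map_inv, ← map_mul, conj_inJ, SemidirectProduct.right_inr, hq]
    rw [e]
    exact (Commute.map (show Commute x (Y.ι (inJ v)) from mem_centralizer_singleton_iff.1 hx)
      (MulAut.conj (Y.ι (inQ q))).toMonoidHom).eq
  have hr : Y.ι (inQ q) ∈ Y.ι.range := ⟨_, rfl⟩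
  have := mul_mem (mul_mem (inv_mem hr) (hw hc)) hr
  rwa [show (Y.ι (inQ q))⁻¹ * (Y.ι (inQ q) * x * (Y.ι (inQ q))⁻¹) * Y.ι (inQ q) = x by group] at this

theorem good_cent {v : V} (hv : GoodV v) : cg Y.ι v ≤ Y.ι.range := by
  obtain ⟨q, h | h⟩ := hv
  · refine Y.cg_conj h fun x hx => ?_
    rw [Y.range_eq_norm]
    exact Y.cent1 x (Y.ι_inJ v100 ▸ mem_centralizer_singleton_iff.1 hx)
  · refine Y.cg_conj h fun x hx => ?_
    rw [Y.range_eq_norm]
    exact Y.cent3 x (Y.ι_inJ v111 ▸ mem_centralizer_singleton_iff.1 hx)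

theorem exists_sylow_cg : ∃ P : Sylow 3 (cg Y.ι vb), (P : Subgroup (cg Y.ι vb)) = (J Y.ι).subgroupOf (cg Y.ι vb) := by
  haveI : Fact (Nat.Prime 3) := ⟨Nat.prime_three⟩
  have hp : IsPGroup 3 ((J Y.ι).subgroupOf (cg Y.ι vb)) :=
    (IsPGroup.of_card (n := 3) Y.card_J : IsPGroup 3 (J Y.ι)).comap_subtype
  obtain ⟨P, hP⟩ := hp.exists_le_sylow
  refine ⟨P, le_antisymm ?_ hP⟩
  set Q := (P : Subgroup (cg Y.ι vb)).map (cg Y.ι vb).subtype with hQd
  have hQ : IsPGroup 3 Q := P.isPGroup'.map _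
  have hJQ : J Y.ι ≤ Q := fun x hx => ⟨⟨x, A9Three.Cfg.J_le_cg vb hx⟩, hP hx, rfl⟩
  suffices h : Q = J Y.ι from fun x hx => h.le ⟨x, hx, rfl⟩
  by_contra hne
  have hlt : (J Y.ι).subgroupOf Q < ⊤ := lt_top_iff_ne_top.2 fun h =>
    hne (le_antisymm (Subgroup.subgroupOf_eq_top.1 h) hJQ)
  haveI : Group.IsNilpotent Q := hQ.isNilpotent
  obtain ⟨g, hgN, hgJ⟩ := SetLike.exists_of_lt (Group.normalizerCondition_of_isNilpotent (G := Q) _ hlt)
  have hg : (g : X) ∈ normalizer (J Y.ι : Set X) := by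
    refine mem_normalizer_iff_map_conj_eq.2 (eq_of_le_of_card_ge ?_
      (card_map_of_injective (MulAut.conj _).injective).ge)
    rintro _ ⟨a, ha, rfl⟩
    exact (mem_normalizer_iff.1 hgN ⟨a, hJQ ha⟩).1 ha
  obtain ⟨m, hm⟩ := Y.mem_range hg
  obtain ⟨k, hk⟩ := hQ g
  have h3 : m.right * m.right * m.right = 1 := A9Three.Cfg.rot_cube_of_pGroup (k := k) (Y.ι_inj (by
    rw [map_pow, map_one, hm]
    exact congrArg Subtype.val hk))
  have hgc : (g : X) ∈ cg Y.ι vb := Subgroup.map_subtype_le _ g.2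
  have h1 := noThree_b m.right ((Y.mem_cg_iff m vb).1 (hm ▸ hgc)) h3
  exact hgJ (show (g : X) ∈ J Y.ι from hm ▸ Y.mem_J_iff.2 h1)

/-- A character of the centraliser. -/
theorem split : ∃ f : cg Y.ι vb →* Multiplicative (ZMod 3), ∀ (u : V) (h : Y.ι (inJ u) ∈ cg Y.ι vb),
    f ⟨_, h⟩ = 1 ↔ pib u = 1 := by
  haveI : Fact (Nat.Prime 3) := ⟨Nat.prime_three⟩
  obtain ⟨P, hP⟩ := Y.exists_sylow_cg
  have hmem : ∀ x : (P : Subgroup (cg Y.ι vb)), ((x : cg Y.ι vb) : X) ∈ J Y.ι := fun x => hP.le x.2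
  haveI : IsMulCommutative (P : Subgroup (cg Y.ι vb)) :=
    ⟨⟨fun a b => Subtype.ext (Subtype.ext (A9Three.Cfg.J_comm (hmem a) (hmem b)))⟩⟩
  let e : V ≃* J Y.ι := MonoidHom.ofInjective (f := Y.ι.comp inJ) (Y.ι_inj.comp SemidirectProduct.inl_injective)
  let φ : (P : Subgroup (cg Y.ι vb)) →* Multiplicative (ZMod 3) :=
    pib.comp (e.symm.toMonoidHom.comp
      (((Subgroup.subgroupOfEquivOfLe (A9Three.Cfg.J_le_cg vb)).toMonoidHom).comp
        (MulEquiv.subgroupCongr hP).toMonoidHom))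
  have hφu : ∀ (x : (P : Subgroup (cg Y.ι vb))) (u : V), Y.ι (inJ u) = ((x : cg Y.ι vb) : X) →
      φ x = pib u := by
    intro x u hu
    show pib (e.symm _) = pib u
    congr 1
    rw [MulEquiv.symm_apply_eq]
    exact Subtype.ext hu.symm
  obtain ⟨f, hf⟩ := A9Three.exists_transfer P φ (by
    intro x y g hxy
    obtain ⟨u, hu⟩ := hmem x
    obtain ⟨w, hw⟩ := hmem y
    change Y.ι (inJ u) = _ at hu
    change Y.ι (inJ w) = _ at hw
    obtain ⟨n, hn, hn'⟩ := P.conj_eq_normalizer_conj_of_mem (x : cg Y.ι vb) g⁻¹ x.2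
      (by rw [inv_inv, hxy]; exact y.2)
    rw [inv_inv, hxy] at hn'
    have hnJ : ((n⁻¹ : cg Y.ι vb) : X) ∈ normalizer (J Y.ι : Set X) := by
      refine mem_normalizer_iff_map_conj_eq.2 (eq_of_le_of_card_ge ?_
        (card_map_of_injective (MulAut.conj _).injective).ge)
      rintro _ ⟨a, ha, rfl⟩
      have := (mem_normalizer_iff.1 (inv_mem hn) ⟨a, A9Three.Cfg.J_le_cg vb ha⟩).1 (hP.ge ha)
      exact hP.le this
    obtain ⟨m, hm⟩ := Y.mem_range hnJ
    have hmv : actFn m.right vb = vb := (Y.mem_cg_iff m vb).1 (hm ▸ (n⁻¹).2)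
    have hwu : Y.ι (inJ w) = Y.ι m * Y.ι (inJ u) * (Y.ι m)⁻¹ := by
      rw [hw, hu, hn', hm]
      simp
    rw [← map_inv, ← map_mul, ← map_mul, conj_inJ] at hwu
    rw [hφu x u hu, hφu y w hw, SemidirectProduct.inl_injective (Y.ι_inj hwu)]
    exact (pib_inv m.right hmv u).symm)
  refine ⟨f, fun u h => ?_⟩
  have hmP : (⟨_, h⟩ : cg Y.ι vb) ∈ (P : Subgroup (cg Y.ι vb)) := hP.ge (A9Three.Cfg.mem_J u)
  rw [hf ⟨_, hmP⟩, hφu ⟨_, hmP⟩ u rfl]
  exact A9Three.pow_eq_one_iff_m3 _ P.not_dvd_index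

theorem core_cg : Cfsg.pPrimeCore 3 (cg Y.ι vb) = ⊥ := by
  classical
  haveI : Fact (Nat.Prime 3) := ⟨Nat.prime_three⟩
  haveI := Fintype.ofFinite X
  set T := cg Y.ι vb with hT
  set O := (Cfsg.pPrimeCore 3 T).map T.subtype with hO
  have hJT : Y.j.range ≤ T := Y.J_eq ▸ A9Three.Cfg.J_le_cg vb
  have hcop : (Nat.card O).Coprime 3 := by
    rw [hO, card_map_of_injective T.subtype_injective]; exact PBasic.pPrimeCore_coprime 3 T
  have hnorm : ∀ a ∈ Y.j.range, ∀ y ∈ O, a * y * a⁻¹ ∈ O := by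
    rintro a ha _ ⟨k, hk, rfl⟩
    exact ⟨⟨a, hJT ha⟩ * k * ⟨a, hJT ha⟩⁻¹, (Cfsg.pPrimeCore_normal 3 T).conj_mem k hk _, rfl⟩
  have hOJ : ∀ y ∈ O, y ∈ Y.j.range → y = 1 := by
    intro y hy hyJ
    have h1 : orderOf y ∣ Nat.card O := Subgroup.orderOf_dvd_natCard _ hy
    have h2 : orderOf y ∣ 3 := orderOf_dvd_of_pow_eq_one (by rw [pow_succ, pow_two]; exact Y.j_cube hyJ)
    exact orderOf_eq_one_iff.1 (Nat.eq_one_of_dvd_coprimes hcop h1 h2)
  have hON : ∀ y ∈ O, y ∈ Y.ι.range → y = 1 := by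
    intro y hy hyr
    rw [Y.range_eq_norm] at hyr
    refine hOJ y hy (Y.ker y fun v => mul_inv_eq_one.1 (hOJ _ ?_ ?_))
    · have := mul_mem hy (hnorm _ ⟨v, rfl⟩ _ (inv_mem hy))
      simpa [mul_assoc] using this
    · exact mul_mem ((mem_normalizer_iff.1 hyr _).1 ⟨v, rfl⟩) (inv_mem ⟨v, rfl⟩)
  set A := piy.ker.map Y.j with hA
  haveI : IsMulCommutative A := ⟨⟨fun a b => Subtype.ext (by
    obtain ⟨a', -, ha⟩ := a.2
    obtain ⟨b', -, hb⟩ := b.2
    show (a : X) * b = b * a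
    rw [← ha, ← hb, Y.j_comm])⟩⟩
  have hAJ : A ≤ Y.j.range := map_le_range _ _
  have hnc : ¬ IsCyclic A := by
    intro hcyc
    obtain ⟨z, hz⟩ := IsCyclic.exists_generator (α := A)
    have hz3 : z ^ 3 = 1 := Subtype.ext (by
      rw [coe_pow, pow_succ, pow_two]; exact Y.j_cube (hAJ z.2))
    have h1 : Nat.card A ≤ 3 := by
      rw [← orderOf_eq_card_of_forall_mem_zpowers hz]
      exact orderOf_le_of_pow_eq_one (by norm_num) hz3
    have h2 : Nat.card {u : V // piy u = 1} ≤ Nat.card A :=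
      Nat.card_le_card_of_injective (fun u => ⟨Y.j u.1, mem_map_of_mem _ (MonoidHom.mem_ker.2 u.2)⟩)
        fun u u' e => Subtype.ext (Y.inj (congrArg Subtype.val e))
    rw [Nat.card_eq_fintype_card, Fintype.card_subtype] at h2
    have := plane_card
    omega
  have hAN : A ≤ normalizer (O : Set X) := fun a ha => mem_normalizer_iff_map_conj_eq.2
    (eq_of_le_of_card_ge (by rintro _ ⟨y, hy, rfl⟩; exact hnorm a (hAJ ha) y hy)
      (card_map_of_injective (MulAut.conj a).injective).ge)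
  have hcopA : (Nat.card A).Coprime (Nat.card O) := by
    refine Nat.Coprime.coprime_dvd_left (card_dvd_of_le hAJ) ?_
    rw [← Y.J_eq, Y.card_J, show 27 = 3 ^ 3 from rfl]
    exact hcop.symm.pow_left 3
  have hO1 : O = ⊥ := by
    rw [← CoprimeAct.generated_by_centralizers hnc hAN hcopA]
    refine le_bot_iff.1 (iSup₂_le ?_)
    rintro _ ⟨ha, ha1⟩ y hy
    obtain ⟨c, hc, rfl⟩ := ha
    obtain ⟨hyO, hyc⟩ := mem_inf.1 hy
    have hyc' := mem_centralizer_singleton_iff.1 hyc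
    rw [mem_bot]
    refine hON y hyO ?_
    rcases plane_good c (fun h => ha1 (by rw [h, map_one])) (MonoidHom.mem_ker.1 hc) with h | ⟨k, h⟩
    · exact Y.good_cent h (mem_centralizer_singleton_iff.2 (by rw [Y.ι_inJ]; exact hyc'))
    · refine Y.good_cent h (mem_centralizer_singleton_iff.2 ?_)
      have hvb : y * Y.j vb = Y.j vb * y := by
        obtain ⟨k', -, rfl⟩ := hyO
        rw [← Y.ι_inJ]; exact mem_centralizer_singleton_iff.1 k'.2
      rw [Y.ι_inJ, map_mul, map_pow]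
      exact (((show Commute y _ from hyc').pow_right _).mul_right hvb).eq
  exact (map_eq_bot_iff_of_injective _ T.subtype_injective).1 hO1

/-- The centraliser of the vector with two nonzero coordinates. -/
theorem cg_b : cg Y.ι vb ≤ Y.ι.range := by
  classical
  haveI : Fact (Nat.Prime 3) := ⟨Nat.prime_three⟩
  haveI := Fintype.ofFinite X
  obtain ⟨f, hf⟩ := Y.split
  have hcore : Cfsg.pPrimeCore 3 f.ker = ⊥ := by
    have h := Cfsg.Agent.PBasic.map_pPrimeCore_le_of_normal (p := 3) f.ker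
    rw [Y.core_cg, le_bot_iff, Subgroup.map_eq_bot_iff_of_injective _ f.ker.subtype_injective] at h
    exact h
  obtain ⟨P, hP⟩ := Y.exists_sylow_cg
  obtain ⟨Q, hQ⟩ := Cfsg.Agent.PBasic.exists_sylow_subgroupOf P f.ker
  have hmemQ : ∀ {x : f.ker}, x ∈ (Q : Subgroup f.ker) ↔ ((x : cg Y.ι vb) : X) ∈ J Y.ι := by
    intro x
    rw [hQ, Subgroup.mem_subgroupOf, hP, Subgroup.mem_subgroupOf]
  have hu : ∀ {x : f.ker}, x ∈ (Q : Subgroup f.ker) →
      ∃ u : V, pib u = 1 ∧ Y.ι (inJ u) = ((x : cg Y.ι vb) : X) := by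
    intro x hx
    obtain ⟨u, hu⟩ := hmemQ.1 hx
    refine ⟨u, (hf u (A9Three.Cfg.J_le_cg vb (A9Three.Cfg.mem_J u))).1 ?_, hu⟩
    rw [show (⟨Y.ι (inJ u), _⟩ : cg Y.ι vb) = x from Subtype.ext hu]
    exact x.2
  have hmk : ∀ {u : V}, pib u = 1 → (⟨Y.ι (inJ u), A9Three.Cfg.J_le_cg vb (A9Three.Cfg.mem_J u)⟩ : cg Y.ι vb) ∈ f.ker :=
    fun h => (hf _ _).2 h
  have hτ : Y.ι (inQ ⟨11⟩) ∈ cg Y.ι vb := (Y.mem_cg_iff _ _).2 tau_fix
  have hτK : (⟨_, hτ⟩ : cg Y.ι vb) ∈ f.ker := by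
    rw [MonoidHom.mem_ker]
    refine sq_m3 _ ?_
    rw [← map_mul, show (⟨_, hτ⟩ : cg Y.ι vb) * ⟨_, hτ⟩ = 1 from Subtype.ext (by
      show Y.ι (inQ ⟨11⟩) * Y.ι (inQ ⟨11⟩) = 1
      rw [← map_mul, ← map_mul, tau_two, map_one, map_one]), map_one]
  have hI : SmithTyrer.Inverted Q ⟨⟨_, hτ⟩, hτK⟩ := by
    have hinv : ∀ x ∈ (Q : Subgroup f.ker),
        (⟨⟨_, hτ⟩, hτK⟩ : f.ker) * x * (⟨⟨_, hτ⟩, hτK⟩ : f.ker)⁻¹ = x⁻¹ := by
      intro x hx
      obtain ⟨u, h1, h2⟩ := hu hx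
      refine Subtype.ext (Subtype.ext ?_)
      show Y.ι (inQ ⟨11⟩) * ((x : cg Y.ι vb) : X) * (Y.ι (inQ ⟨11⟩))⁻¹ = ((x : cg Y.ι vb) : X)⁻¹
      rw [← h2, ← map_mul, ← map_inv, ← map_mul, conj_inJ, SemidirectProduct.right_inr,
        tau_inv u h1, map_inv, map_inv]
    refine ⟨by norm_num, ⟨⟨fun x y => ?_⟩⟩, ?_, hinv, fun g hg => ?_⟩
    · exact Subtype.ext (Subtype.ext (Subtype.ext (A9Three.Cfg.J_comm (hmemQ.1 x.2) (hmemQ.1 y.2))))
    · refine Subgroup.mem_normalizer_iff.2 fun x => ⟨fun hx => ?_, fun hx => ?_⟩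
      · rw [hinv x hx]; exact inv_mem hx
      · set τ : f.ker := ⟨⟨_, hτ⟩, hτK⟩
        have ht : τ * τ = 1 := Subtype.ext (Subtype.ext (by
          show Y.ι (inQ ⟨11⟩) * Y.ι (inQ ⟨11⟩) = 1
          rw [← map_mul, ← map_mul, tau_two, map_one, map_one]))
        have h := hinv _ hx
        rw [show τ * (τ * x * τ⁻¹) * τ⁻¹ = τ * τ * x * (τ * τ)⁻¹ by group, ht, one_mul, inv_one,
          mul_one] at h
        rw [h]
        exact inv_mem hx
    · have hgJ : ((g : cg Y.ι vb) : X) ∈ Subgroup.normalizer (J Y.ι : Set X) := by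
        have one : ∀ k : f.ker, k ∈ Subgroup.normalizer ((Q : Subgroup f.ker) : Set f.ker) →
            ∀ y ∈ J Y.ι, ((k : cg Y.ι vb) : X) * y * ((k : cg Y.ι vb) : X)⁻¹ ∈ J Y.ι := by
          intro k hk y hy
          obtain ⟨u, rfl⟩ := hy
          obtain ⟨w, hw, hc⟩ := b_split u
          have hcb := Subgroup.mem_centralizer_singleton_iff.1 (k : cg Y.ι vb).2
          have hw' : ((k : cg Y.ι vb) : X) * Y.ι (inJ w) * ((k : cg Y.ι vb) : X)⁻¹ ∈ J Y.ι :=
            hmemQ.1 ((Subgroup.mem_normalizer_iff.1 hk ⟨_, hmk hw⟩).1 (hmemQ.2 (A9Three.Cfg.mem_J w)))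
          have hvb' : ((k : cg Y.ι vb) : X) * Y.ι (inJ vb) * ((k : cg Y.ι vb) : X)⁻¹ ∈ J Y.ι := by
            rw [hcb, mul_inv_cancel_right]; exact A9Three.Cfg.mem_J vb
          show _ * Y.ι (inJ u) * _ ∈ _
          rcases hc with e | e | e <;> rw [e]
          · exact hw'
          · rw [map_mul, map_mul, ← conj_mul]
            exact mul_mem hw' hvb'
          · rw [map_mul, map_mul, map_mul, map_mul, ← conj_mul, ← conj_mul]
            exact mul_mem (mul_mem hw' hvb') hvb'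
        refine Subgroup.mem_normalizer_iff.2 fun y => ⟨one g hg y, fun hy => ?_⟩
        have := one g⁻¹ (inv_mem hg) _ hy
        push_cast at this
        rwa [show ((g : cg Y.ι vb) : X)⁻¹ * (((g : cg Y.ι vb) : X) * y * ((g : cg Y.ι vb) : X)⁻¹) *
          ((g : cg Y.ι vb) : X)⁻¹⁻¹ = y by group] at this
      obtain ⟨m, hm⟩ := Y.mem_range hgJ
      have hfix : actFn m.right vb = vb := (Y.mem_cg_iff m vb).1 (hm ▸ (g : cg Y.ι vb).2)
      have act : ∀ x ∈ (Q : Subgroup f.ker), ∃ u : V, pib u = 1 ∧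
          ((x : cg Y.ι vb) : X) = Y.ι (inJ u) ∧
          ((g * x * g⁻¹ : f.ker) : cg Y.ι vb).1 = Y.ι (inJ (actFn m.right u)) := by
        intro x hx
        obtain ⟨u, h1, h2⟩ := hu hx
        refine ⟨u, h1, h2.symm, ?_⟩
        show ((g : cg Y.ι vb) : X) * ((x : cg Y.ι vb) : X) * ((g : cg Y.ι vb) : X)⁻¹ = _
        rw [← h2, ← hm, ← map_mul, ← map_inv, ← map_mul, conj_inJ]
      rcases b_norm _ hfix with h | h
      · refine Or.inl fun x hx => ?_
        obtain ⟨u, h1, h2, h3⟩ := act x hx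
        rw [h u h1, ← h2] at h3
        exact Subtype.ext (Subtype.ext h3)
      · refine Or.inr fun x hx => ?_
        obtain ⟨u, h1, h2, h3⟩ := act x hx
        rw [h u h1, map_inv, map_inv, ← h2] at h3
        exact Subtype.ext (Subtype.ext h3)
  have hnc : ¬ IsCyclic (Q : Subgroup f.ker) := by
    intro hcyc
    obtain ⟨z, hz⟩ := IsCyclic.exists_generator (α := (Q : Subgroup f.ker))
    have hz3 : z ^ 3 = 1 := by
      obtain ⟨u, -, h2⟩ := hu z.2
      refine Subtype.ext (Subtype.ext (Subtype.ext ?_))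
      show (((z : f.ker) : cg Y.ι vb) : X) ^ 3 = 1
      rw [← h2, ← map_pow, ← map_pow, show u ^ 3 = 1 from (pow_three' u).trans (v_cube u), map_one,
        map_one]
    have h1 : Nat.card (Q : Subgroup f.ker) ≤ 3 := by
      rw [← orderOf_eq_card_of_forall_mem_zpowers hz]
      exact orderOf_le_of_pow_eq_one (by norm_num) hz3
    have h2 : Nat.card {u : V // pib u = 1} ≤ Nat.card (Q : Subgroup f.ker) := by
      refine Nat.card_le_card_of_injective
        (fun u => ⟨⟨_, hmk u.2⟩, hmemQ.2 (A9Three.Cfg.mem_J u.1)⟩) fun u u' e => Subtype.ext ?_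
      exact SemidirectProduct.inl_injective (Y.ι_inj
        (congrArg (fun q : (Q : Subgroup f.ker) => (((q : f.ker) : cg Y.ι vb) : X)) e))
    rw [Nat.card_eq_fintype_card, Fintype.card_subtype] at h2
    have := b_card
    omega
  haveI : (Q : Subgroup f.ker).Normal :=
    sylow_normal_of_pLength_one (SmithTyrer.pLength_one hI hnc hcore) hcore Q
  haveI : (Q : Subgroup f.ker).Characteristic := Q.characteristic_of_normal inferInstance
  haveI hQn : ((Q : Subgroup f.ker).map f.ker.subtype).Normal := inferInstance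
  have one : ∀ k : cg Y.ι vb, ∀ y ∈ J Y.ι, (k : X) * y * (k : X)⁻¹ ∈ J Y.ι := by
    intro k y hy
    obtain ⟨u, rfl⟩ := hy
    obtain ⟨w, hw, hc⟩ := b_split u
    have hw' : (k : X) * Y.ι (inJ w) * (k : X)⁻¹ ∈ J Y.ι := by
      obtain ⟨x, hx, hxe⟩ :=
        hQn.conj_mem _ ⟨⟨_, hmk hw⟩, hmemQ.2 (A9Three.Cfg.mem_J w), rfl⟩ k
      have := hmemQ.1 hx
      rwa [show (x : cg Y.ι vb) = k * ⟨_, A9Three.Cfg.J_le_cg vb (A9Three.Cfg.mem_J w)⟩ * k⁻¹ from hxe] at this
    have hvb' : (k : X) * Y.ι (inJ vb) * (k : X)⁻¹ ∈ J Y.ι := by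
      rw [Subgroup.mem_centralizer_singleton_iff.1 k.2, mul_inv_cancel_right]; exact A9Three.Cfg.mem_J vb
    show _ * Y.ι (inJ u) * _ ∈ _
    rcases hc with e | e | e <;> rw [e]
    · exact hw'
    · rw [map_mul, map_mul, ← conj_mul]
      exact mul_mem hw' hvb'
    · rw [map_mul, map_mul, map_mul, map_mul, ← conj_mul, ← conj_mul]
      exact mul_mem (mul_mem hw' hvb') hvb'
  refine fun g hg => Y.mem_range (Subgroup.mem_normalizer_iff.2 fun y => ⟨one ⟨g, hg⟩ y, fun hy => ?_⟩)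
  have := one ⟨g, hg⟩⁻¹ _ hy
  push_cast at this
  rwa [show g⁻¹ * (g * y * g⁻¹) * g⁻¹⁻¹ = y by group] at this

/-- The abelian subgroup is normal. -/
theorem range_top : Y.ι.range = ⊤ := by
  have hC : ∀ v : V, v ≠ 1 → cg Y.ι v ≤ Y.ι.range := by
    intro v hv
    obtain ⟨q, h | h | h⟩ := vec_orbits v hv
    · exact Y.good_cent ⟨q, Or.inl h⟩
    · exact Y.good_cent ⟨q, Or.inr h⟩
    · exact Y.cg_conj h Y.cg_b
  by_contra hne
  have tiJ : ∀ v : V, v ≠ 1 → ∀ g : X, g * Y.ι (inJ v) * g⁻¹ ∈ J Y.ι → g ∈ Y.ι.range := by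
    intro v hv g hg
    have hA : (J Y.ι).map (MulAut.conj g⁻¹).toMonoidHom ≤ cg Y.ι v := by
      rintro _ ⟨x, hx, rfl⟩
      refine Subgroup.mem_centralizer_singleton_iff.2 ?_
      show g⁻¹ * x * g⁻¹⁻¹ * Y.ι (inJ v) = Y.ι (inJ v) * (g⁻¹ * x * g⁻¹⁻¹)
      calc g⁻¹ * x * g⁻¹⁻¹ * Y.ι (inJ v) = g⁻¹ * (x * (g * Y.ι (inJ v) * g⁻¹)) * g := by group
        _ = g⁻¹ * ((g * Y.ι (inJ v) * g⁻¹) * x) * g := by rw [A9Three.Cfg.J_comm hx hg]
        _ = _ := by group
    have hp : IsPGroup 3 (J Y.ι) := IsPGroup.of_card (n := 3) Y.card_J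
    have hAeq := Y.eq_J_of_le_range (hA.trans (hC v hv)) (hp.map _)
      (by
        rintro _ ⟨a, ha, rfl⟩ _ ⟨b, hb, rfl⟩
        rw [← map_mul, ← map_mul, A9Three.Cfg.J_comm ha hb])
      (by rw [Subgroup.card_map_of_injective (MulEquiv.injective _), Y.card_J])
    have hgi : g⁻¹ ∈ Subgroup.normalizer (J Y.ι : Set X) := mem_normalizer_iff_map_conj_eq.2 hAeq
    exact Y.mem_range ((inv_mem_iff (x := g)).1 hgi)
  have hleft : ∀ {i : Fin 14}, i = 5 ∨ i = 6 ∨ i = 7 → inJ (rep i).left = rep i ∧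
      (rep i).left ≠ 1 := by
    intro i hi
    obtain ⟨h1, h2⟩ := rep_J i (by rcases hi with rfl | rfl | rfl <;> decide)
      (by rcases hi with rfl | rfl | rfl <;> decide)
    exact ⟨(eq_inJ_of_right h1).symm, fun h => h2 (by rw [eq_inJ_of_right h1, h, map_one])⟩
  have sc : ∀ (i : Fin 14) (h : Mo), i = 5 ∨ i = 6 → IsConj (Y.ι (rep i)) (Y.ι h) → h.right = 1 := by
    intro i h hi hc
    obtain ⟨g, hg⟩ := isConj_iff.1 hc
    by_contra hr
    obtain ⟨e, en⟩ := hleft (i := i) (by tauto)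
    have h3 : h * h * h = 1 := Y.ι_inj (by
      rw [map_mul, map_mul, map_one, ← hg]
      have := congrArg Y.ι (J_cube (rep i) (rep_J i (by rcases hi with rfl | rfl <;> decide)
        (by rcases hi with rfl | rfl <;> decide)).1)
      rw [map_mul, map_mul, map_one] at this
      calc _ = g * (Y.ι (rep i) * Y.ι (rep i) * Y.ι (rep i)) * g⁻¹ := by group
        _ = 1 := by rw [this]; group)
    obtain ⟨v, hv, hcom⟩ := outside_cube h h3 hr
    have hq : g⁻¹ * Y.ι (inJ v) * g ∈ Subgroup.centralizer ({Y.ι (rep i)} : Set X) := by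
      refine Subgroup.mem_centralizer_singleton_iff.2 ?_
      have hcom' : Y.ι h * Y.ι (inJ v) = Y.ι (inJ v) * Y.ι h := by rw [← map_mul, hcom, map_mul]
      rw [← hg] at hcom'
      calc g⁻¹ * Y.ι (inJ v) * g * Y.ι (rep i)
          = g⁻¹ * (Y.ι (inJ v) * (g * Y.ι (rep i) * g⁻¹)) * g := by group
        _ = _ := by rw [← hcom']; group
    rw [← e] at hq
    obtain ⟨m, hm⟩ := hC _ en hq
    rw [e] at hq
    have hm1 : m.right = 1 := by
      refine cube_comm i hi m (Y.ι_inj ?_) (Y.ι_inj ?_)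
      · rw [map_mul, map_mul, map_one, hm]
        have := congrArg Y.ι (J_cube (inJ v) (SemidirectProduct.right_inl v))
        rw [map_mul, map_mul, map_one] at this
        calc _ = g⁻¹ * (Y.ι (inJ v) * Y.ι (inJ v) * Y.ι (inJ v)) * g := by group
          _ = 1 := by rw [this]; group
      · rw [map_mul, map_mul, hm]
        exact Subgroup.mem_centralizer_singleton_iff.1 hq
    obtain ⟨n, hn⟩ := tiJ v hv g⁻¹ (by rw [inv_inv, ← hm]; exact Y.mem_J_iff.2 hm1)
    have hn' : Y.ι (n⁻¹ * rep i * n⁻¹⁻¹) = Y.ι h := by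
      rw [inv_inv, map_mul, map_mul, map_inv, hn, inv_inv, hg]
    refine hr ?_
    rw [← Y.ι_inj hn']
    simp [(rep_J i (by rcases hi with rfl | rfl <;> decide)
      (by rcases hi with rfl | rfl <;> decide)).1]
  have E : Emb Y.ι Dset := by
    refine ⟨Y.ι_inj, fun h h' hh hh' g hg => ?_⟩
    have hpow : powIn (cl h) = powIn (cl h') := by
      refine rep_order _ _ hh hh' fun k => ?_
      rw [← conj_eq_one_iff (a := wit h), ← conj_pow, conj_wit,
        ← conj_eq_one_iff (a := wit h') (b := rep (cl h') ^ k.val), ← conj_pow, conj_wit,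
        ← Y.ι_inj.eq_iff, ← Y.ι_inj.eq_iff (a := h' ^ k.val), map_pow, map_pow, map_one, ← hg,
        conj_pow, conj_eq_one_iff]
    obtain ⟨hr, hn⟩ := power_in h hh
    have hr' := (power_in h' hh').1
    rw [← hpow] at hr'
    refine tiJ (h ^ powIn (cl h)).left (fun h1 => hn ?_) g ?_
    · rw [eq_inJ_of_right hr, h1, map_one]
    · rw [← eq_inJ_of_right hr, map_pow, ← conj_pow, hg, ← map_pow]
      exact Y.mem_J_iff.2 hr'
  have hcard : Nat.card Y.ι.range = 648 := Y.card_range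
  refine false_of_emb' E sc ?_ (hcard ▸ Y.ι.range.card_subgroup_dvd_card)
  rw [← Y.ι.range.card_mul_index, hcard]
  have h0 : Y.ι.range.index ≠ 0 := Subgroup.index_ne_zero_of_finite
  have h1 : Y.ι.range.index ≠ 1 := fun h => hne (Subgroup.index_eq_one.1 h)
  omega

theorem top (x : X) : x ∈ normalizer (Y.j.range : Set X) := by
  rw [← Y.range_eq_norm, Y.range_top]; exact mem_top x

end YBar

end Cfsg.Agent.McLThree
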