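import Cfsg.Agent.Lib.McLThree.CentYNorm
import Cfsg.Agent.Lib.McLThree.CentYTop

/-!
When the centraliser of `Z` is larger than `L`, the centraliser of `y` normalises `J`.
-/

set_option autoImplicit false
set_option maxRecDepth 20000
set_option maxHeartbeats 1000000
set_option synthInstance.maxSize 4000
set_option synthInstance.maxHeartbeats 400000
set_option linter.style.haveILetI false
set_option linter.unusedSectionVars false

namespace Cfsg.Agent.McLThree

open Subgroup
open Cfsg.Agent.ThreeTI.Mono (Rot actFn)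
open Cfsg.Agent.ThreeTI.Cube (V)

universe u

namespace Conf.Pair.Point

variable {G : Type u} [Group G] [Finite G] {C : Conf G} {P : C.Pair} (O : P.Point)
include O

/-- The elements centralising `y` and fixing the point normalise `J`. -/
theorem norm_of_fix_point {x : G} (hy : x * P.y = P.y * x)
    (hζ : x * (O.m * P.z * O.m⁻¹) = O.m * P.z * O.m⁻¹ * x) : x ∈ normalizer (C.J : Set G) := by
  set a1 := O.m⁻¹ * P.y * O.m with ha1
  set x1 := O.m⁻¹ * x * O.m with hx1
  have hx1z : Commute x1 P.z := by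
    have h := Commute.map (show Commute x (O.m * P.z * O.m⁻¹) from hζ) (MulAut.conj O.m⁻¹).toMonoidHom
    simp only [MulEquiv.coe_toMonoidHom, MulAut.conj_apply, inv_inv] at h
    rwa [show O.m⁻¹ * (O.m * P.z * O.m⁻¹) * O.m = P.z by group] at h
  have hx1a : Commute x1 a1 := by
    have h := Commute.map (show Commute x P.y from hy) (MulAut.conj O.m⁻¹).toMonoidHom
    simpa only [MulEquiv.coe_toMonoidHom, MulAut.conj_apply, inv_inv] using h
  have hx1N : x1 ∈ normalizer (C.Z : Set G) :=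
    C.norm_Z_of P.z_mem P.z_ne (by rw [hx1z.eq, mul_inv_cancel_right]; exact P.z_mem)
  have hS : ∀ s ∈ C.S, x1 * s * x1⁻¹ ∈ C.S := by
    intro s hs
    refine P.stab_A (C.normL x1 hx1N s (C.SL hs)) O.y_A O.a1_notZ ?_
    obtain ⟨q, hq, j, hj, rfl⟩ := C.S_decomp hs
    have e : x1 * (q * j) * x1⁻¹ * a1 * (x1 * (q * j) * x1⁻¹)⁻¹ * a1⁻¹ =
        x1 * (q * a1 * q⁻¹ * a1⁻¹) * x1⁻¹ := by
      have hxa : x1⁻¹ * a1 * x1 = a1 := by rw [mul_assoc, ← hx1a.eq, inv_mul_cancel_left]
      have hja : j * a1 * j⁻¹ = a1 := by rw [C.J_comm _ hj _ O.y_A.1, mul_inv_cancel_right]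
      calc x1 * (q * j) * x1⁻¹ * a1 * (x1 * (q * j) * x1⁻¹)⁻¹ * a1⁻¹
          = x1 * (q * (j * (x1⁻¹ * a1 * x1) * j⁻¹) * q⁻¹ * (x1⁻¹ * a1 * x1)⁻¹) * x1⁻¹ := by group
        _ = _ := by rw [hxa, hja]
    show x1 * (q * j) * x1⁻¹ * a1 * (x1 * (q * j) * x1⁻¹)⁻¹ * a1⁻¹ ∈ C.Z
    rw [e]
    exact C.conj_Z hx1N (C.comm_mem hq O.y_A.2)
  have hx1J : x1 ∈ normalizer (C.J : Set G) := by
    refine C.norm_of_le fun j hj => ?_
    have := C.J_unique_S (B := C.J.map (MulAut.conj x1).toMonoidHom)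
      (by rintro _ ⟨v, hv, rfl⟩; exact hS v (C.JS hv))
      (by rintro _ ⟨v, hv, rfl⟩ _ ⟨v', hv', rfl⟩; rw [← map_mul, ← map_mul, C.J_comm v hv v' hv'])
      (by rw [card_map_of_injective (MulAut.conj x1).injective, C.card_J])
    exact this.le ⟨j, hj, rfl⟩
  have hm := C.M_norm O.m_mem
  have := mul_mem (mul_mem hm hx1J) (inv_mem hm)
  rwa [hx1, show O.m * (O.m⁻¹ * x * O.m) * O.m⁻¹ = x by group] at this

theorem zpowers_y {g : G} (h : g ∈ zpowers P.y) : ∃ d : ℕ, g = P.y ^ d := by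
  obtain ⟨d, hd⟩ := (isOfFinOrder_of_finite P.y).mem_powers_iff_mem_zpowers.2 h
  exact ⟨d, hd.symm⟩

/-- The centraliser of `y` normalises `J`. -/
theorem cent_y_norm (hne : ¬ C.CZ ≤ C.L) {x : G} (hy : x * P.y = P.y * x) :
    x ∈ normalizer (C.J : Set G) := by
  classical
  set K := centralizer ({P.y} : Set G) with hK
  have memK : ∀ {g : G}, g ∈ K ↔ g * P.y = P.y * g := fun {g} => mem_centralizer_singleton_iff
  set Y := (zpowers P.y).subgroupOf K with hY
  haveI : Y.Normal := ⟨fun n hn g => by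
    refine mem_subgroupOf.2 ?_
    obtain ⟨i, hi⟩ := mem_zpowers_iff.1 (mem_subgroupOf.1 hn)
    show (g : G) * (n : G) * (g : G)⁻¹ ∈ zpowers P.y
    rw [← hi, ((show Commute (g : G) P.y from memK.1 g.2).zpow_right i).eq, mul_inv_cancel_right]
    exact zpow_mem (mem_zpowers _) _⟩
  set π := QuotientGroup.mk' Y with hπ
  have hJK : C.J ≤ K := fun g hg => memK.2 (C.J_comm g hg _ P.y_J)
  have hYJ : ∀ g ∈ zpowers P.y, g ∈ C.J := zpowers_le.2 P.y_J
  have eqπ : ∀ {a b : K}, π a = π b ↔ (a : G)⁻¹ * b ∈ zpowers P.y := fun {a b} => by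
    rw [hπ, QuotientGroup.mk'_apply, QuotientGroup.mk'_apply, QuotientGroup.eq]; rfl
  set j : V →* K ⧸ Y := π.comp (O.co.codRestrict K fun v => hJK (O.co_J v)) with hj
  have jdef : ∀ v, j v = π ⟨O.co v, hJK (O.co_J v)⟩ := fun v => rfl
  have hinj : Function.Injective j := fun u v h => by
    obtain ⟨d, hd⟩ := O.zpowers_y (eqπ.1 h)
    exact inv_mul_eq_one.1 (O.co_100_y (d := d) (by rw [map_mul, map_inv]; exact hd))
  have hrange : ∀ a : K, π a ∈ j.range ↔ (a : G) ∈ C.J := by
    intro a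
    constructor
    · rintro ⟨v, hv⟩
      have h1 : (O.co v)⁻¹ * (a : G) ∈ zpowers P.y := eqπ.1 hv
      have := mul_mem (O.co_J v) (hYJ _ h1)
      rwa [mul_inv_cancel_left] at this
    · intro ha
      obtain ⟨v, d, hvd⟩ := O.J_decomp ha
      refine ⟨v, eqπ.2 ?_⟩
      show (O.co v)⁻¹ * (a : G) ∈ zpowers P.y
      rw [hvd, inv_mul_cancel_left]
      exact pow_mem (mem_zpowers _) _
  have hnorm : ∀ a : K, π a ∈ normalizer (j.range : Set (K ⧸ Y)) ↔ (a : G) ∈ normalizer (C.J : Set G) := by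
    intro a
    constructor
    · intro h
      refine C.norm_of_le fun g hg => (hrange (a * ⟨g, hJK hg⟩ * a⁻¹)).1 ?_
      rw [map_mul, map_mul, map_inv]
      exact (mem_normalizer_iff.1 h _).1 ((hrange _).2 hg)
    · intro h
      refine mem_normalizer_iff_map_conj_eq.2 (eq_of_le_of_card_ge ?_
        (card_map_of_injective (MulAut.conj (π a)).injective).ge)
      rintro _ ⟨_, ⟨v, rfl⟩, rfl⟩
      show π a * j v * (π a)⁻¹ ∈ j.range
      rw [jdef, ← map_inv, ← map_mul, ← map_mul, hrange]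
      exact (mem_normalizer_iff.1 h _).1 (O.co_J v)
  -- the action of an element and of its image
  have hact : ∀ {g : G} {f : V → V}, O.ActV g f → ∃ gK : K, (gK : G) = g ∧
      ∀ v, π gK * j v * (π gK)⁻¹ = j (f v) := by
    intro g f h
    refine ⟨⟨g, memK.2 h.1⟩, rfl, fun v => ?_⟩
    obtain ⟨d, hd⟩ := h.2 v
    rw [jdef, jdef, ← map_inv, ← map_mul, ← map_mul, eqπ]
    show (g * O.co v * g⁻¹)⁻¹ * O.co (f v) ∈ zpowers P.y
    rw [hd, mul_inv_rev, inv_mul_cancel_right]
    exact inv_mem (pow_mem (mem_zpowers _) _)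
  have hback : ∀ (a : K) (u v : V), π a * j u * (π a)⁻¹ = j v →
      ∃ d : ℕ, (a : G) * O.co u * (a : G)⁻¹ = O.co v * P.y ^ d := by
    intro a u v h
    rw [jdef, jdef, ← map_inv, ← map_mul, ← map_mul] at h
    obtain ⟨d, hd⟩ := O.zpowers_y (eqπ.1 h.symm)
    refine ⟨d, ?_⟩
    rw [← hd]
    show (a : G) * O.co u * (a : G)⁻¹ = O.co v * ((O.co v)⁻¹ * ((a : G) * O.co u * (a : G)⁻¹))
    rw [mul_inv_cancel_left]
  obtain ⟨a0, j0, hj0, hg0⟩ := O.g0_split
  set g1 := C.t ^ (a0 : ℕ) * P.g0 with hg1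
  have htt : C.t ^ (a0 : ℕ) * C.t ^ (a0 : ℕ) = 1 := by
    rw [← pow_add, ← two_mul, pow_mul, pow_two, C.tt, one_pow]
  have hct : Commute (C.t ^ (a0 : ℕ)) P.g0 := (show Commute P.g0 C.t from P.g0_t).symm.pow_left _
  have hg1B : O.ActV g1 sgB := by
    have e : g1 = O.s * C.t * O.s⁻¹ * j0 := by
      rw [hg1, hg0]; simp only [← mul_assoc, htt, one_mul]
    rw [e]
    exact O.actV_congr (O.actV_mul O.actV_sigma (O.actV_J hj0)) fun v => rfl
  obtain ⟨tK, htK, hta⟩ := hact O.actV_t
  obtain ⟨gK, hgK, hga⟩ := hact hg1B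
  obtain ⟨r, -, -, -, -, -, hr⟩ := O.exists_r4 hne
  let B : YBar (K ⧸ Y) :=
    { j := j
      inj := hinj
      a := π tK
      b := π gK
      aa := by rw [← map_mul, show tK * tK = 1 from Subtype.ext (by simp [htK, C.tt]), map_one]
      bb := by
        rw [← map_mul, show gK * gK = 1 from Subtype.ext (by
          rw [Subgroup.coe_mul, hgK, hg1, hct.symm.mul_mul_mul_comm, htt, P.g0_sq, one_mul, Subgroup.coe_one]), map_one]
      ab := by
        rw [← map_mul, ← map_mul]
        refine congrArg π (Subtype.ext ?_)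
        rw [Subgroup.coe_mul, Subgroup.coe_mul, htK, hgK, hg1]
        exact ((Commute.refl C.t).pow_right _ |>.mul_right (show Commute P.g0 C.t from P.g0_t).symm).eq
      a_conj := hta
      b_conj := hga
      lift := fun q => by
        obtain ⟨a, b, i, k, e⟩ := rot_word q
        obtain ⟨xK, -, hx⟩ := hact (O.actV_congr
          (O.actV_mul (O.actV_mul (O.actV_mul (O.actV_pow O.actV_t a) (O.actV_pow O.actV_sigma b))
            (O.actV_pow O.actV_s i)) (O.actV_pow hr k)) fun v => (e v).symm)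
        exact ⟨π xK, hx⟩
      norm := fun a ha => by
        induction a using QuotientGroup.induction_on with
        | H a =>
          obtain ⟨q, hq⟩ := O.mem_AY hne (memK.1 a.2) ((hnorm a).1 ha)
          obtain ⟨aK, haK, haq⟩ := hact hq
          exact ⟨q, fun v => by rw [← haq v, show aK = a from Subtype.ext haK]; rfl⟩
      ker := fun a ha => by
        induction a using QuotientGroup.induction_on with
        | H a => exact (hrange a).2 (O.actV_one ⟨memK.1 a.2, fun v => hback a v v (ha v)⟩)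
      cent1 := fun a ha => by
        induction a using QuotientGroup.induction_on with
        | H a =>
          obtain ⟨d, hd⟩ := hback a v100 v100 (mul_inv_eq_iff_eq_mul.2 ha)
          rw [O.co_100] at hd
          obtain ⟨hz, hw⟩ := O.z_shift (memK.1 a.2) hd
          exact (hnorm a).2 (P.cent_zw_norm hz hw)
      cent3 := fun a ha => by
        induction a using QuotientGroup.induction_on with
        | H a =>
          obtain ⟨d, hd⟩ := hback a v111 v111 (mul_inv_eq_iff_eq_mul.2 ha)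
          have hay : Commute (a : G) P.y := memK.1 a.2
          obtain ⟨k, e, -, hζ⟩ := O.diag_point
          have h : (a : G) * (O.m * P.z * O.m⁻¹) * (a : G)⁻¹ = O.m * P.z * O.m⁻¹ * P.y ^ (d * (k : ℕ) % 3) := by
            rw [hζ, ← pow_eq_pow_mod _ O.y3, map_pow,
              show (a : G) * (O.co v111 ^ (k : ℕ) * P.y ^ e) * (a : G)⁻¹ =
                ((a : G) * O.co v111 ^ (k : ℕ) * (a : G)⁻¹) * ((a : G) * P.y ^ e * (a : G)⁻¹) by group,
              (hay.pow_right e).eq, mul_inv_cancel_right, ← conj_pow, hd,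
              (show Commute (O.co v111) (P.y ^ d) from
                (show Commute (O.co v111) P.y from C.J_comm _ (O.co_J _) _ P.y_J).pow_right d).mul_pow,
              ← pow_mul, mul_assoc, mul_assoc, ← pow_add, ← pow_add, add_comm]
          have h0 := O.shift_point (i := ⟨d * (k : ℕ) % 3, Nat.mod_lt _ (by norm_num)⟩) h
          rw [show d * (k : ℕ) % 3 = 0 from congrArg Fin.val h0, pow_zero, mul_one] at h
          exact (hnorm a).2 (O.norm_of_fix_point (memK.1 a.2) (mul_inv_eq_iff_eq_mul.1 h)) }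
  exact (hnorm ⟨x, memK.2 hy⟩).1 (B.top _)

end Conf.Pair.Point

end Cfsg.Agent.McLThree
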