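import Cfsg.Agent.Lib.McLThree.CentYModel

/-!
A group with an elementary abelian subgroup of order 27 whose normaliser induces the rotations of
the cube is the split extension, provided two classes of centralisers normalise the subgroup.
-/

set_option autoImplicit false
set_option maxRecDepth 40000
set_option maxHeartbeats 1000000
set_option synthInstance.maxSize 4000
set_option synthInstance.maxHeartbeats 400000
set_option linter.style.haveILetI false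
set_option linter.unusedSectionVars false

namespace Cfsg.Agent.McLThree

open Subgroup
open Cfsg.Agent.ThreeTI.Mono
open Cfsg.Agent.ThreeTI.Cube (V)

universe u

/-- The configuration. -/
structure YBar (X : Type u) [Group X] [Finite X] where
  /-- the abelian subgroup -/
  j : V →* X
  inj : Function.Injective j
  /-- the first sign change -/
  a : X
  /-- the second sign change -/
  b : X
  aa : a * a = 1
  bb : b * b = 1
  ab : a * b = b * a
  a_conj : ∀ v, a * j v * a⁻¹ = j (sgA v)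
  b_conj : ∀ v, b * j v * b⁻¹ = j (sgB v)
  lift : ∀ q : Rot, ∃ x, ∀ v, x * j v * x⁻¹ = j (actFn q v)
  norm : ∀ x ∈ normalizer (j.range : Set X), ∃ q : Rot, ∀ v, x * j v * x⁻¹ = j (actFn q v)
  ker : ∀ x, (∀ v, x * j v * x⁻¹ = j v) → x ∈ j.range
  cent1 : ∀ x, x * j v100 = j v100 * x → x ∈ normalizer (j.range : Set X)
  cent3 : ∀ x, x * j v111 = j v111 * x → x ∈ normalizer (j.range : Set X)

namespace YBar

variable {X : Type u} [Group X] [Finite X] (Y : YBar X)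
include Y

theorem j_comm (u v : V) : Y.j u * Y.j v = Y.j v * Y.j u := by rw [← map_mul, ← map_mul, mul_comm]

theorem act_mul {x y : X} {f g : V → V} (hx : ∀ v, x * Y.j v * x⁻¹ = Y.j (f v))
    (hy : ∀ v, y * Y.j v * y⁻¹ = Y.j (g v)) (v : V) : x * y * Y.j v * (x * y)⁻¹ = Y.j (f (g v)) := by
  rw [← hx, ← hy]; group

theorem act_inv {x : X} {q : Rot} (hx : ∀ v, x * Y.j v * x⁻¹ = Y.j (actFn q v)) (v : V) :
    x⁻¹ * Y.j v * x⁻¹⁻¹ = Y.j (actFn q⁻¹ v) := by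
  have h := hx (actFn q⁻¹ v)
  rw [← actFn_comp, mul_inv_cancel, rot_one.1] at h
  rw [← h]; group

theorem norm_of_act {x : X} {f : V → V} (h : ∀ v, x * Y.j v * x⁻¹ = Y.j (f v)) :
    x ∈ normalizer (Y.j.range : Set X) :=
  mem_normalizer_iff_map_conj_eq.2
    (eq_of_le_of_card_ge (by rintro _ ⟨_, ⟨v, rfl⟩, rfl⟩; exact ⟨f v, (h v).symm⟩)
      (card_map_of_injective (MulAut.conj x).injective).ge)

theorem j_cube {x : X} (hx : x ∈ Y.j.range) : x * x * x = 1 := by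
  obtain ⟨v, rfl⟩ := hx
  rw [← map_mul, ← map_mul, A9Three.v_cube, map_one]

/-- Two involutions with the same action are conjugate under `J`. -/
theorem root {u w : X} (hu : u * u = 1) (hw : w * w = 1) {f : V → V} (hf : ∀ v, f (f v) = v)
    (au : ∀ v, u * Y.j v * u⁻¹ = Y.j (f v)) (aw : ∀ v, w * Y.j v * w⁻¹ = Y.j (f v)) :
    u * w ∈ Y.j.range ∧ (u * w) * u * (u * w)⁻¹ = w := by
  have hJ : u * w ∈ Y.j.range := Y.ker _ fun v => by rw [Y.act_mul au aw, hf]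
  refine ⟨hJ, ?_⟩
  rw [mul_inv_rev, inv_eq_of_mul_eq_one_right hu, inv_eq_of_mul_eq_one_right hw]
  refine (eq_inv_of_mul_eq_one_left ?_).trans (inv_eq_of_mul_eq_one_right hw)
  have := Y.j_cube hJ
  calc u * w * u * (w * u) * w = u * w * (u * w) * (u * w) := by group
    _ = 1 := this

/-- The four group. -/
def K4 : Subgroup X where
  carrier := {x | x = 1 ∨ x = Y.a ∨ x = Y.b ∨ x = Y.a * Y.b}
  one_mem' := Or.inl rfl
  mul_mem' := by
    have ha : ∀ x, Y.a * (Y.a * x) = x := fun x => by rw [← mul_assoc, Y.aa, one_mul]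
    have hb : ∀ x, Y.b * (Y.b * x) = x := fun x => by rw [← mul_assoc, Y.bb, one_mul]
    have hba : ∀ x, Y.b * (Y.a * x) = Y.a * (Y.b * x) := fun x => by rw [← mul_assoc, ← Y.ab, mul_assoc]
    intro x y hx hy
    rcases hx with rfl | rfl | rfl | rfl <;> rcases hy with rfl | rfl | rfl | rfl <;>
      simp [mul_assoc, ha, hb, hba, Y.aa, Y.bb, ← Y.ab]
  inv_mem' := by
    intro x hx
    rcases hx with rfl | rfl | rfl | rfl
    · simp
    · rw [inv_eq_of_mul_eq_one_right Y.aa]; simp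
    · rw [inv_eq_of_mul_eq_one_right Y.bb]; simp
    · rw [mul_inv_rev, inv_eq_of_mul_eq_one_right Y.bb, inv_eq_of_mul_eq_one_right Y.aa, ← Y.ab]; simp

theorem mem_K4 {x : X} : x ∈ Y.K4 ↔ x = 1 ∨ x = Y.a ∨ x = Y.b ∨ x = Y.a * Y.b := Iff.rfl

/-- The complement. -/
def Qc : Subgroup X := normalizer (Y.j.range : Set X) ⊓ normalizer (Y.K4 : Set X)

theorem Qc_exists (q : Rot) : ∃ x ∈ Y.Qc, ∀ v, x * Y.j v * x⁻¹ = Y.j (actFn q v) := by
  obtain ⟨n, hn⟩ := Y.lift q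
  obtain ⟨f2, f2b, f2ab, -⟩ := four_distinct
  have aab : ∀ v, Y.a * Y.b * Y.j v * (Y.a * Y.b)⁻¹ = Y.j (sgA (sgB v)) := Y.act_mul Y.a_conj Y.b_conj
  have habab : Y.a * Y.b * (Y.a * Y.b) = 1 := by
    rw [show Y.a * Y.b * (Y.a * Y.b) = Y.a * (Y.b * Y.a) * Y.b by group, ← Y.ab,
      show Y.a * (Y.a * Y.b) * Y.b = (Y.a * Y.a) * (Y.b * Y.b) by group, Y.aa, Y.bb, one_mul]
  have pick : ∀ f : V → V, ((∀ v, f v = sgA v) ∨ (∀ v, f v = sgB v) ∨ ∀ v, f v = sgA (sgB v)) →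
      ∃ k ∈ Y.K4, k * k = 1 ∧ (∀ v, f (f v) = v) ∧ ∀ v, k * Y.j v * k⁻¹ = Y.j (f v) := by
    rintro f (h | h | h)
    · exact ⟨Y.a, Or.inr (Or.inl rfl), Y.aa, fun v => by rw [h, h, f2], fun v => by rw [h, Y.a_conj]⟩
    · exact ⟨Y.b, Or.inr (Or.inr (Or.inl rfl)), Y.bb, fun v => by rw [h, h, f2b],
        fun v => by rw [h, Y.b_conj]⟩
    · exact ⟨Y.a * Y.b, Or.inr (Or.inr (Or.inr rfl)), habab, fun v => by rw [h, h, f2ab],
        fun v => by rw [h, aab]⟩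
  have hKc : ∀ k ∈ Y.K4, ∀ l ∈ Y.K4, k * l = l * k := by
    have h1 : Commute Y.a Y.b := Y.ab
    intro k hk l hl
    rcases hk with rfl | rfl | rfl | rfl <;> rcases hl with rfl | rfl | rfl | rfl <;>
      first
        | exact (Commute.one_left _).eq
        | exact (Commute.one_right _).eq
        | exact (Commute.refl _).eq
        | exact h1.eq
        | exact h1.symm.eq
        | exact ((Commute.refl _).mul_right h1).eq
        | exact (h1.symm.mul_right (Commute.refl _)).eq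
        | exact ((Commute.refl _).mul_left h1.symm).eq
        | exact (h1.mul_left (Commute.refl _)).eq
  have conjAct : ∀ (x k : X) (f : V → V), (∀ v, x * Y.j v * x⁻¹ = Y.j (actFn q v)) →
      (∀ v, k * Y.j v * k⁻¹ = Y.j (f v)) →
      ∀ v, x * k * x⁻¹ * Y.j v * (x * k * x⁻¹)⁻¹ = Y.j (actFn q (f (actFn q⁻¹ v))) := fun x k f hx hk v =>
    Y.act_mul (Y.act_mul hx hk) (Y.act_inv hx) v
  have sq : ∀ x k : X, k * k = 1 → x * k * x⁻¹ * (x * k * x⁻¹) = 1 := fun x k h => by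
    rw [show x * k * x⁻¹ * (x * k * x⁻¹) = x * (k * k) * x⁻¹ by group, h]; group
  obtain ⟨a', ha'K, ha'2, hfa, ha'⟩ := pick _ (rot_four_conj q).1
  obtain ⟨hjJ, hj⟩ := Y.root (sq n _ Y.aa) ha'2 hfa (conjAct n _ _ hn Y.a_conj) ha'
  set j1 := n * Y.a * n⁻¹ * a'
  have hn1 : ∀ v, j1 * n * Y.j v * (j1 * n)⁻¹ = Y.j (actFn q v) := by
    obtain ⟨w, hw⟩ := hjJ
    intro v
    rw [show j1 * n * Y.j v * (j1 * n)⁻¹ = j1 * (n * Y.j v * n⁻¹) * j1⁻¹ by group, hn, ← hw, Y.j_comm,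
      mul_inv_cancel_right]
  set n1 := j1 * n
  have hn1a : n1 * Y.a * n1⁻¹ = a' := by
    rw [show n1 * Y.a * n1⁻¹ = j1 * (n * Y.a * n⁻¹) * j1⁻¹ by simp only [n1]; group]
    exact hj
  obtain ⟨b', hb'K, hb'2, hfb, hb'⟩ := pick _ (rot_four_conj q).2
  obtain ⟨hkJ, hk⟩ := Y.root (sq n1 _ Y.bb) hb'2 hfb (conjAct n1 _ _ hn1 Y.b_conj) hb'
  set j2 := n1 * Y.b * n1⁻¹ * b'
  have hj2a : Commute j2 a' := by
    have h1 : Commute (n1 * Y.b * n1⁻¹) a' := by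
      rw [← hn1a]
      exact Commute.map (show Commute Y.b Y.a from Y.ab.symm) (MulAut.conj n1).toMonoidHom
    exact h1.mul_left (hKc _ hb'K _ ha'K)
  have hn2 : ∀ v, j2 * n1 * Y.j v * (j2 * n1)⁻¹ = Y.j (actFn q v) := by
    obtain ⟨w, hw⟩ := hkJ
    intro v
    rw [show j2 * n1 * Y.j v * (j2 * n1)⁻¹ = j2 * (n1 * Y.j v * n1⁻¹) * j2⁻¹ by group, hn1, ← hw, Y.j_comm,
      mul_inv_cancel_right]
  refine ⟨j2 * n1, mem_inf.2 ⟨Y.norm_of_act hn2, ?_⟩, hn2⟩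
  have ea : j2 * n1 * Y.a * (j2 * n1)⁻¹ = a' := by
    rw [show j2 * n1 * Y.a * (j2 * n1)⁻¹ = j2 * (n1 * Y.a * n1⁻¹) * j2⁻¹ by group, hn1a, hj2a.eq,
      mul_inv_cancel_right]
  have eb : j2 * n1 * Y.b * (j2 * n1)⁻¹ = b' := by
    rw [show j2 * n1 * Y.b * (j2 * n1)⁻¹ = j2 * (n1 * Y.b * n1⁻¹) * j2⁻¹ by group]
    exact hk
  refine mem_normalizer_iff_map_conj_eq.2 (eq_of_le_of_card_ge ?_
    (card_map_of_injective (MulAut.conj _).injective).ge)
  rintro _ ⟨k, hk', rfl⟩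
  show j2 * n1 * k * (j2 * n1)⁻¹ ∈ Y.K4
  rcases hk' with rfl | rfl | rfl | rfl
  · rw [mul_one, mul_inv_cancel]; exact one_mem _
  · rw [ea]; exact ha'K
  · rw [eb]; exact hb'K
  · rw [show j2 * n1 * (Y.a * Y.b) * (j2 * n1)⁻¹ =
      (j2 * n1 * Y.a * (j2 * n1)⁻¹) * (j2 * n1 * Y.b * (j2 * n1)⁻¹) by group, ea, eb]
    exact mul_mem ha'K hb'K

theorem Qc_inj {x x' : X} (hx : x ∈ Y.Qc) (hx' : x' ∈ Y.Qc) {q : Rot}
    (h : ∀ v, x * Y.j v * x⁻¹ = Y.j (actFn q v)) (h' : ∀ v, x' * Y.j v * x'⁻¹ = Y.j (actFn q v)) : x = x' := by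
  have hm : ∀ v, x⁻¹ * x' * Y.j v * (x⁻¹ * x')⁻¹ = Y.j v := fun v => by
    rw [show x⁻¹ * x' * Y.j v * (x⁻¹ * x')⁻¹ = x⁻¹ * (x' * Y.j v * x'⁻¹) * x by group, h', ← h]; group
  obtain ⟨v, hv⟩ := Y.ker _ hm
  obtain ⟨-, -, -, hfix, nA, nB, nBA, nABA, nABB⟩ := four_distinct
  have hK : ∀ k ∈ Y.K4, Y.j v * k * (Y.j v)⁻¹ ∈ Y.K4 := fun k hk => by
    rw [hv]; exact (mem_normalizer_iff.1 (mul_mem (inv_mem hx.2) hx'.2) k).1 hk
  have act : ∀ (k : X) (f : V → V), (∀ u, k * Y.j u * k⁻¹ = Y.j (f u)) →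
      ∀ u, Y.j v * k * (Y.j v)⁻¹ * Y.j u * (Y.j v * k * (Y.j v)⁻¹)⁻¹ = Y.j (f u) := fun k f hk u => by
    rw [show Y.j v * k * (Y.j v)⁻¹ * Y.j u * (Y.j v * k * (Y.j v)⁻¹)⁻¹ =
      Y.j v * (k * ((Y.j v)⁻¹ * Y.j u * Y.j v) * k⁻¹) * (Y.j v)⁻¹ by group,
      show (Y.j v)⁻¹ * Y.j u * Y.j v = Y.j u by rw [mul_assoc, Y.j_comm u v, inv_mul_cancel_left], hk, Y.j_comm,
      mul_inv_cancel_right]
  have aab : ∀ v, Y.a * Y.b * Y.j v * (Y.a * Y.b)⁻¹ = Y.j (sgA (sgB v)) := Y.act_mul Y.a_conj Y.b_conj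
  have fix : ∀ k : X, Y.j v * k * (Y.j v)⁻¹ = k → ∀ f : V → V, (∀ u, k * Y.j u * k⁻¹ = Y.j (f u)) → f v = v :=
    fun k e f hf => Y.inj (by rw [← hf, ← mul_inv_eq_iff_eq_mul.1 e, mul_inv_cancel_right])
  have ea : Y.j v * Y.a * (Y.j v)⁻¹ = Y.a := by
    have hu := act _ _ Y.a_conj
    rcases hK Y.a (Or.inr (Or.inl rfl)) with e | e | e | e <;> rw [e] at hu ⊢
    · exact absurd (fun u => Y.inj (by rw [← hu]; group)) nA
    · exact absurd (fun u => Y.inj ((Y.b_conj u).symm.trans (hu u))) nBA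
    · exact absurd (fun u => Y.inj ((aab u).symm.trans (hu u))) nABA
  have eb : Y.j v * Y.b * (Y.j v)⁻¹ = Y.b := by
    have hu := act _ _ Y.b_conj
    rcases hK Y.b (Or.inr (Or.inr (Or.inl rfl))) with e | e | e | e <;> rw [e] at hu ⊢
    · exact absurd (fun u => Y.inj (by rw [← hu]; group)) nB
    · exact absurd (fun u => Y.inj ((hu u).symm.trans (Y.a_conj u))) nBA
    · exact absurd (fun u => Y.inj ((aab u).symm.trans (hu u))) nABB
  have hv1 : v = 1 := hfix v (fix _ ea _ Y.a_conj) (fix _ eb _ Y.b_conj)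
  rw [hv1, map_one] at hv
  exact inv_mul_eq_one.1 hv.symm

/-- The section. -/
noncomputable def sec : Rot →* X where
  toFun q := (Y.Qc_exists q).choose
  map_one' := Y.Qc_inj (Y.Qc_exists 1).choose_spec.1 (one_mem _) (Y.Qc_exists 1).choose_spec.2
    fun v => by rw [rot_one.1]; group
  map_mul' q r := Y.Qc_inj (Y.Qc_exists _).choose_spec.1
    (mul_mem (Y.Qc_exists q).choose_spec.1 (Y.Qc_exists r).choose_spec.1) (Y.Qc_exists _).choose_spec.2
    fun v => by rw [Y.act_mul (Y.Qc_exists q).choose_spec.2 (Y.Qc_exists r).choose_spec.2, ← actFn_comp]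

theorem sec_act (q : Rot) (v : V) : Y.sec q * Y.j v * (Y.sec q)⁻¹ = Y.j (actFn q v) :=
  (Y.Qc_exists q).choose_spec.2 v

/-- The map of the monomial group. -/
noncomputable def ι : Mo →* X :=
  SemidirectProduct.lift Y.j Y.sec fun q => MonoidHom.ext fun v => (Y.sec_act q v).symm

theorem ι_apply (m : Mo) : Y.ι m = Y.j m.left * Y.sec m.right := rfl

theorem ι_inJ (v : V) : Y.ι (inJ v) = Y.j v := SemidirectProduct.lift_inl _ _ _ v

theorem ι_conj (m : Mo) (v : V) : Y.ι m * Y.j v * (Y.ι m)⁻¹ = Y.j (actFn m.right v) := by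
  rw [Y.ι_apply, show Y.j m.left * Y.sec m.right * Y.j v * (Y.j m.left * Y.sec m.right)⁻¹ =
    Y.j m.left * (Y.sec m.right * Y.j v * (Y.sec m.right)⁻¹) * (Y.j m.left)⁻¹ by group, Y.sec_act, Y.j_comm,
    mul_inv_cancel_right]

theorem ι_inj : Function.Injective Y.ι := by
  refine (injective_iff_map_eq_one _).2 fun m hm => ?_
  have h1 : m.right = 1 := rot_one.2 _ fun v => Y.inj (by rw [← Y.ι_conj, hm]; group)
  rw [A9Three.eq_inJ_of_right h1, Y.ι_inJ] at hm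
  rw [A9Three.eq_inJ_of_right h1, show m.left = 1 from Y.inj (hm.trans (map_one _).symm), map_one]

theorem range_eq_norm : Y.ι.range = normalizer (Y.j.range : Set X) := by
  refine le_antisymm (fun _ ⟨m, hm⟩ => hm ▸ Y.norm_of_act (Y.ι_conj m)) fun x hx => ?_
  obtain ⟨q, hq⟩ := Y.norm x hx
  obtain ⟨v, hv⟩ := Y.ker (x * (Y.sec q)⁻¹) fun v => by
    have h := Y.sec_act q (actFn q⁻¹ v)
    rw [← actFn_comp, mul_inv_cancel, rot_one.1] at h
    rw [show x * (Y.sec q)⁻¹ * Y.j v * (x * (Y.sec q)⁻¹)⁻¹ =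
      x * ((Y.sec q)⁻¹ * Y.j v * Y.sec q) * x⁻¹ by group, ← h,
      show (Y.sec q)⁻¹ * (Y.sec q * Y.j (actFn q⁻¹ v) * (Y.sec q)⁻¹) * Y.sec q = Y.j (actFn q⁻¹ v) by group,
      hq, ← actFn_comp, mul_inv_cancel, rot_one.1, h]
  exact ⟨⟨v, q⟩, by rw [Y.ι_apply, hv, inv_mul_cancel_right]⟩

theorem J_eq : A9Three.J Y.ι = Y.j.range :=
  congrArg MonoidHom.range (MonoidHom.ext Y.ι_inJ)

end YBar

end Cfsg.Agent.McLThree
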