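import Cfsg.Agent.Lib.McLThree.Bar
import Cfsg.Agent.Lib.A9Three.CentB
import Cfsg.Agent.Lib.A9Three.Small

/-!
The rotations of the cube and the sign changes used in the local group of `C(y)`.
-/

set_option autoImplicit false
set_option maxRecDepth 40000
set_option maxHeartbeats 1000000
set_option synthInstance.maxSize 4000

namespace Cfsg.Agent.McLThree

open Cfsg.Agent.ThreeTI.Mono
open Cfsg.Agent.ThreeTI.Cube (V)

/-- The rotation of order four about the first axis. -/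
def rot4 (v : V) : V := Multiplicative.ofAdd (v.toAdd.1, -v.toAdd.2.2, v.toAdd.2.1)

theorem rot_gens : (∃ q : Rot, ∀ v, actFn q v = sgA v) ∧ (∃ q : Rot, ∀ v, actFn q v = sgB v) ∧
    (∃ q : Rot, ∀ v, actFn q v = rot3 v) ∧ ∃ q : Rot, ∀ v, actFn q v = rot4 v := by decide +kernel

theorem rot_word : ∀ q : Rot, ∃ (a b : Fin 2) (i : Fin 3) (k : Fin 4),
    ∀ v : V, actFn q v = act3 a b i (rot4^[(k : ℕ)] v) := by decide +kernel

theorem rot_one : (∀ v : V, actFn 1 v = v) ∧ ∀ q : Rot, (∀ v : V, actFn q v = v) → q = 1 := by decide +kernel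

theorem rot_four_conj : ∀ q : Rot,
    ((∀ v, actFn q (sgA (actFn q⁻¹ v)) = sgA v) ∨ (∀ v, actFn q (sgA (actFn q⁻¹ v)) = sgB v) ∨
      ∀ v, actFn q (sgA (actFn q⁻¹ v)) = sgA (sgB v)) ∧
    ((∀ v, actFn q (sgB (actFn q⁻¹ v)) = sgA v) ∨ (∀ v, actFn q (sgB (actFn q⁻¹ v)) = sgB v) ∨
      ∀ v, actFn q (sgB (actFn q⁻¹ v)) = sgA (sgB v)) := by decide +kernel

theorem four_distinct : (∀ v : V, sgA (sgA v) = v) ∧ (∀ v : V, sgB (sgB v) = v) ∧
    (∀ v : V, sgA (sgB (sgA (sgB v))) = v) ∧ (∀ v : V, sgA v = v → sgB v = v → v = 1) ∧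
    ¬ (∀ v : V, sgA v = v) ∧ ¬ (∀ v : V, sgB v = v) ∧ ¬ (∀ v : V, sgB v = sgA v) ∧
    ¬ (∀ v : V, sgA (sgB v) = sgA v) ∧ ¬ (∀ v : V, sgA (sgB v) = sgB v) := by decide +kernel

theorem vec_orbits : ∀ v : V, v ≠ 1 → ∃ q : Rot, actFn q v = v100 ∨ actFn q v = v111 ∨ actFn q v = A9Three.vb := by
  decide +kernel

/-- The second coordinate. -/
def piy : V →* Multiplicative (ZMod 3) where
  toFun u := Multiplicative.ofAdd u.toAdd.2.1
  map_one' := rfl
  map_mul' := fun _ _ => rfl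

/-- The classes whose centralisers normalise the abelian subgroup. -/
abbrev GoodV (v : V) : Prop := ∃ q : Rot, actFn q v = v100 ∨ actFn q v = v111

theorem plane_good : ∀ u : V, u ≠ 1 → piy u = 1 → GoodV u ∨ ∃ k : Fin 3, GoodV (u ^ (k : ℕ) * A9Three.vb) := by
  decide +kernel

theorem plane_facts : piy v100 = 1 ∧ piy (A9Three.vec 0 0 1) = 1 ∧ v100 ≠ 1 ∧
    ∀ i : Fin 3, A9Three.vec 0 0 1 ≠ v100 ^ (i : ℕ) := by decide +kernel

end Cfsg.Agent.McLThree
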