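import Cfsg.Agent.Lib.McLThree.Ortho
import Cfsg.Agent.Lib.McLThree.Bar

/-!
The three lines of `J/⟨y⟩`, the stabiliser of a vector of `Q/Z` and the centraliser of the plane
spanned by `z` and `w` when the centraliser of `Z` is `L`.
-/

set_option autoImplicit false
set_option maxRecDepth 20000
set_option maxHeartbeats 1000000
set_option synthInstance.maxSize 4000
set_option synthInstance.maxHeartbeats 400000
set_option linter.style.haveILetI false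
set_option linter.unusedSectionVars false

namespace Cfsg.Agent.McLThree

open Subgroup
open Cfsg.Agent.ThreeTI.Cube (V)

/-- Powers indexed by a residue modulo three. -/
theorem pow_val_add {G : Type*} [Group G] {x : G} (hx : x ^ 3 = 1) (a b : ZMod 3) :
    x ^ (a + b).val = x ^ a.val * x ^ b.val := by
  rw [← pow_add, ZMod.val_add]
  exact (pow_eq_pow_mod _ hx).symm

theorem pow_eq_pow_mod_of {G : Type*} [Group G] {x : G} (hx : x ^ 3 = 1) {a b : ℕ} (h : a % 3 = b % 3) :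
    x ^ a = x ^ b := by rw [pow_eq_pow_mod a hx, h, ← pow_eq_pow_mod b hx]

theorem pow_val_neg {G : Type*} [Group G] {x : G} (hx : x ^ 3 = 1) (a : ZMod 3) :
    x ^ (-a).val = (x ^ a.val)⁻¹ := by
  refine eq_inv_of_mul_eq_one_left ?_
  rw [← pow_val_add hx, neg_add_cancel, ZMod.val_zero, pow_zero]

namespace Conf

variable {G : Type*} [Group G] [Finite G] (C : Conf G)
include C

/-- An element of order five of `L` moves every element of `Q` outside `Z` modulo `Z`. -/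
theorem five_fpf {u a : G} (hu : u ∈ C.L) (hu5 : u ^ 5 = 1) (ha : a ∈ C.Q) (haZ : a ∉ C.Z)
    (h : u * a * u⁻¹ * a⁻¹ ∈ C.Z) : u = 1 := by
  by_contra hu1
  haveI : Fact (Nat.Prime 5) := ⟨by norm_num⟩
  haveI : Fact (Nat.Prime 3) := ⟨Nat.prime_three⟩
  -- `u` centralises `a`
  have hua : Commute u a := by
    set ζ := u * a * u⁻¹ * a⁻¹ with hζ
    have hz : u * ζ = ζ * u := C.L_cent hu h
    have key : ∀ n : ℕ, u ^ n * a * (u ^ n)⁻¹ = ζ ^ n * a := by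
      intro n
      induction n with
      | zero => simp
      | succ n ih =>
        calc u ^ (n + 1) * a * (u ^ (n + 1))⁻¹ = u * (u ^ n * a * (u ^ n)⁻¹) * u⁻¹ := by
              rw [pow_succ']; group
          _ = u * ζ ^ n * a * u⁻¹ := by rw [ih]; group
          _ = ζ ^ n * (u * a * u⁻¹) := by rw [((show Commute u ζ from hz).pow_right n).eq]; group
          _ = ζ ^ (n + 1) * a := by rw [pow_succ, hζ]; group
    have h1 := key 5
    rw [hu5, one_mul, inv_one, mul_one, eq_comm, mul_eq_right] at h1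
    have h3 := C.exp_Q ζ (C.Z_le_Q h)
    have hg : ζ ^ Nat.gcd 5 3 = 1 := pow_gcd_eq_one.2 ⟨h1, h3⟩
    rw [show Nat.gcd 5 3 = 1 from rfl, pow_one, hζ, mul_inv_eq_one] at hg
    exact mul_inv_eq_iff_eq_mul.1 hg
  set Γ := zpowers u with hΓ
  have hΓ5 : IsPGroup 5 Γ :=
    IsPGroup.of_card (n := 1) (by rw [Nat.card_zpowers, orderOf_eq_prime hu5 hu1, pow_one])
  have hΓn : Γ ≤ normalizer (C.Z : Set G) := zpowers_le.2 (C.L_norm hu)
  letI : MulAction Γ C.Q :=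
    { smul := fun g x => ⟨(g : G) * x * (g : G)⁻¹, C.normQ _ (hΓn g.2) _ x.2⟩
      one_smul := fun x => Subtype.ext (by show (1 : G) * x * (1 : G)⁻¹ = x; group)
      mul_smul := fun g h x => Subtype.ext (by
        show (g : G) * h * x * ((g : G) * h)⁻¹ = g * ((h : G) * x * (h : G)⁻¹) * (g : G)⁻¹
        group) }
  have hsm : ∀ (g : Γ) (x : C.Q), ((g • x : C.Q) : G) = (g : G) * x * (g : G)⁻¹ := fun _ _ => rfl
  set F : Subgroup G := C.Q ⊓ centralizer ({u} : Set G) with hF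
  have hfix : Nat.card (MulAction.fixedPoints Γ C.Q) = Nat.card F := by
    refine Nat.card_congr
      { toFun := fun x => ⟨(x.1 : G), x.1.2, mem_centralizer_singleton_iff.2 ?_⟩
        invFun := fun x => ⟨⟨x, x.2.1⟩, fun g => ?_⟩
        left_inv := fun x => rfl
        right_inv := fun x => rfl }
    · have h := congrArg Subtype.val (x.2 ⟨u, mem_zpowers u⟩)
      rw [hsm] at h
      exact (mul_inv_eq_iff_eq_mul.1 h).symm
    · refine Subtype.ext ?_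
      rw [hsm]
      obtain ⟨k, hk⟩ := mem_zpowers_iff.1 g.2
      have hc : Commute (x : G) u := mem_centralizer_singleton_iff.1 x.2.2
      rw [← hk, mul_inv_eq_iff_eq_mul]
      exact (hc.zpow_right k).symm.eq
  have hmod : Nat.card C.Q % 5 = Nat.card F % 5 := hfix ▸ hΓ5.card_modEq_card_fixedPoints C.Q
  have hZF : C.Z ≤ F := fun z hz =>
    mem_inf.2 ⟨C.Z_le_Q hz, mem_centralizer_singleton_iff.2 (C.L_cent hu hz).symm⟩
  have hlt : 3 < Nat.card F := by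
    refine C.card_Z ▸ lt_of_le_of_ne (card_le_of_le hZF) fun e => haZ ?_
    have := eq_of_le_of_card_ge hZF e.ge
    exact this.ge (mem_inf.2 ⟨ha, mem_centralizer_singleton_iff.2 hua.symm.eq⟩)
  obtain ⟨k, hk5, hk⟩ := (Nat.dvd_prime_pow Nat.prime_three).1
    (show Nat.card F ∣ 3 ^ 5 by
      rw [show (3 : ℕ) ^ 5 = 243 from rfl, ← C.card_Q]; exact card_dvd_of_le inf_le_left)
  have hFQ : F = C.Q := by
    refine eq_of_le_of_card_ge inf_le_left ?_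
    rw [C.card_Q] at hmod ⊢
    rw [hk] at hmod hlt ⊢
    interval_cases k <;> omega
  have huQ : u ∈ C.Q := C.cent_Q u fun q hq =>
    (mem_centralizer_singleton_iff.1 (mem_inf.1 (hFQ.ge hq)).2).symm
  have hg : u ^ Nat.gcd 5 3 = 1 := pow_gcd_eq_one.2 ⟨hu5, C.exp_Q u huQ⟩
  exact hu1 (by rwa [show Nat.gcd 5 3 = 1 from rfl, pow_one] at hg)

end Conf

namespace Conf.Pair

variable {G : Type*} [Group G] [Finite G] {C : Conf G} (P : C.Pair)
include P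

/-- The stabiliser of a vector of `A/Z`. -/
theorem stab_A {x a : G} (hx : x ∈ C.L) (ha : a ∈ C.A) (haZ : a ∉ C.Z) (h : x * a * x⁻¹ * a⁻¹ ∈ C.Z) :
    x ∈ C.S := by
  set W : C.L := ⟨P.w, C.SL (C.JS P.w_J)⟩ with hW
  obtain ⟨hw3, hw1⟩ := P.pi_w
  set H := ((C.fix a).subgroupOf C.L).map C.pi with hH
  have memH : ∀ y : C.L, (y : G) * a * (y : G)⁻¹ * a⁻¹ ∈ C.Z → C.pi y ∈ H := fun y hy =>
    mem_map_of_mem _ (mem_subgroupOf.2 ⟨C.L_le_CZ y.2, hy⟩)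
  have hneg : (-1 : S25) ∉ H := by
    rintro ⟨y, hy, e⟩
    have hq : ((⟨C.t, C.t_mem⟩ * y⁻¹ : C.L) : G) ∈ C.Q :=
      (C.pi_ker _).1 (by rw [map_mul, map_inv, e, C.pi_t, mul_inv_cancel])
    have ht : C.t ∈ C.fix a := by
      have := mul_mem (C.Q_le_fix ha.2 hq) (mem_subgroupOf.1 hy)
      simpa using this
    have h5 := mul_mem (inv_mem ht.2) (C.inv_V ha.2)
    rw [show (C.t * a * C.t⁻¹ * a⁻¹)⁻¹ * (C.t * a * C.t⁻¹ * a) = a * a by group] at h5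
    refine haZ ?_
    have h6 : a = (a * a) * (a * a) := by
      rw [show a * a * (a * a) = a ^ 3 * a by simp [pow_succ, mul_assoc], C.exp_Q a ha.2, one_mul]
    rw [h6]; exact mul_mem h5 h5
  have hnd : ∀ p : ℕ, p.Prime → p ∣ Nat.card H → p = 3 := by
    intro p hp hpH
    haveI := Fact.mk hp
    obtain ⟨y, hy⟩ := exists_prime_orderOf_dvd_card' (G := H) p hpH
    have hyp : (y : S25) ^ p = 1 := by
      rw [← Subgroup.coe_pow, ← hy, pow_orderOf_eq_one]; rfl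
    have hy1 : (y : S25) ≠ 1 := fun e => by
      rw [show y = 1 from Subtype.ext e, orderOf_one] at hy
      exact hp.one_lt.ne hy
    have h120 : p ∣ 120 := by
      rw [← card25, ← Nat.card_eq_fintype_card]
      exact hpH.trans (card_subgroup_dvd_card H)
    have hp' : p = 2 ∨ p = 3 ∨ p = 5 := by
      have h7 : p ∈ Nat.divisors 120 := Nat.mem_divisors.2 ⟨h120, by norm_num⟩
      have h8 : ∀ d ∈ Nat.divisors 120, d = 2 ∨ d = 3 ∨ d = 5 ∨ d = 1 ∨ 2 ∣ d ∧ d ≠ 2 ∨ 3 ∣ d ∧ d ≠ 3 ∨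
          5 ∣ d ∧ d ≠ 5 := by decide +kernel
      rcases h8 p h7 with r | r | r | r | ⟨r, r'⟩ | ⟨r, r'⟩ | ⟨r, r'⟩
      · exact Or.inl r
      · exact Or.inr (Or.inl r)
      · exact Or.inr (Or.inr r)
      · exact absurd r hp.one_lt.ne'
      · exact absurd ((Nat.prime_dvd_prime_iff_eq Nat.prime_two hp).1 r).symm r'
      · exact absurd ((Nat.prime_dvd_prime_iff_eq Nat.prime_three hp).1 r).symm r'
      · exact absurd ((Nat.prime_dvd_prime_iff_eq (by norm_num) hp).1 r).symm r'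
    rcases hp' with rfl | rfl | rfl
    · exact absurd (invol25 _ (by rw [← pow_two, hyp]) hy1 ▸ y.2) hneg
    · rfl
    · exfalso
      obtain ⟨v, hv, e⟩ := y.2
      obtain ⟨u, hu, hu5⟩ := C.five_lift hyp
      have hq : ((u * v⁻¹ : C.L) : G) ∈ C.Q :=
        (C.pi_ker _).1 (by rw [map_mul, map_inv, e, hu, mul_inv_cancel])
      have huf : (u : G) ∈ C.fix a := by
        have := mul_mem (C.Q_le_fix ha.2 hq) (mem_subgroupOf.1 hv)
        simpa using this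
      have hu1 := C.five_fpf u.2 (congrArg Subtype.val hu5) ha.2 haZ huf.2
      rw [show u = 1 from Subtype.ext hu1, map_one] at hu
      exact hy1 hu.symm
  have hW' : C.pi W ∈ H := memH W (by
    show P.w * a * P.w⁻¹ * a⁻¹ ∈ C.Z
    rw [C.J_comm _ P.w_J _ ha.1, mul_inv_cancel_right, mul_inv_cancel]; exact one_mem _)
  have hle : zpowers (C.pi W) ≤ H := zpowers_le.2 hW'
  haveI : Fact (Nat.Prime 3) := ⟨Nat.prime_three⟩
  have h3 : Nat.card H ≤ 3 := by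
    have e := Nat.eq_prime_pow_of_unique_prime_dvd Nat.card_pos.ne' (fun {d} hd hd' => hnd d hd hd')
    have h120 : Nat.card H ∣ 120 := by
      rw [← card25, ← Nat.card_eq_fintype_card]; exact card_subgroup_dvd_card H
    rw [e] at h120 ⊢
    have : (Nat.card H).primeFactorsList.length ≤ 1 := by
      by_contra hh
      have := (pow_dvd_pow 3 (show 2 ≤ (Nat.card H).primeFactorsList.length by omega)).trans h120
      norm_num at this
    exact (Nat.pow_le_pow_right (by norm_num) this).trans (by norm_num)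
  have heq := eq_of_le_of_card_ge hle (by rw [Nat.card_zpowers, orderOf_eq_prime hw3 hw1]; exact h3)
  obtain ⟨i, hi⟩ := mem_zpowers_iff.1 (heq.ge (memH ⟨x, hx⟩ h))
  have hq : ((⟨x, hx⟩ * (W ^ i)⁻¹ : C.L) : G) ∈ C.Q :=
    (C.pi_ker _).1 (by rw [map_mul, map_inv, map_zpow, hi, mul_inv_cancel])
  have := mul_mem (C.Q_le_S hq) (zpow_mem (C.JS P.w_J) i)
  simpa [hW] using this

/-- The centraliser of `w` in `L`. -/
theorem cent_zw_L {x : G} (hxL : x ∈ C.L) (hw : x * P.w = P.w * x) :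
    ∃ j ∈ C.J, x = j ∨ x = j * C.t := by
  obtain ⟨hw3, hw1⟩ := P.pi_w
  set W : C.L := ⟨P.w, C.SL (C.JS P.w_J)⟩ with hW
  set X : C.L := ⟨x, hxL⟩ with hX
  obtain ⟨i, h⟩ := three25_cent _ hw3 hw1 (C.pi X) (by
    rw [← map_mul, ← map_mul]; exact congrArg C.pi (Subtype.ext hw))
  have hfix : ∀ q : G, q ∈ C.Q → Commute q P.w → q ∈ C.J := fun q hq hc =>
    (C.A_of_fix P.w_J P.w_notQ hq (by rw [← hc.eq, mul_inv_cancel_right, mul_inv_cancel]; exact one_mem _)).1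
  have hwi : Commute (P.w ^ (i : ℕ))⁻¹ P.w := (Commute.refl P.w).pow_left _ |>.inv_left
  rcases h with h | h
  · have hq : ((X * (W ^ (i : ℕ))⁻¹ : C.L) : G) ∈ C.Q :=
      (C.pi_ker _).1 (by rw [map_mul, map_inv, map_pow, h, mul_inv_cancel])
    refine ⟨x, ?_, Or.inl rfl⟩
    have hq' : x * (P.w ^ (i : ℕ))⁻¹ ∈ C.J := hfix _ hq ((show Commute x P.w from hw).mul_left hwi)
    have := mul_mem hq' (pow_mem P.w_J (i : ℕ))
    rwa [inv_mul_cancel_right] at this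
  · set T : C.L := ⟨C.t, C.t_mem⟩ with hT
    have hq : ((X * T * (W ^ (i : ℕ))⁻¹ : C.L) : G) ∈ C.Q :=
      (C.pi_ker _).1 (by
        rw [map_mul, map_mul, map_inv, map_pow, h, C.pi_t, neg25.2.2, ← mul_assoc, neg25.1, one_mul,
          mul_inv_cancel])
    have hq' : x * C.t * (P.w ^ (i : ℕ))⁻¹ ∈ C.J :=
      hfix _ hq (((show Commute x P.w from hw).mul_left (show Commute P.w C.t from P.w_t).symm).mul_left hwi)
    refine ⟨x * C.t, ?_, Or.inr (by rw [mul_assoc, C.tt, mul_one])⟩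
    have := mul_mem hq' (pow_mem P.w_J (i : ℕ))
    rwa [inv_mul_cancel_right] at this

/-- The centraliser of `⟨z, w⟩` when the centraliser of `Z` is `L`. -/
theorem cent_zw (hCZ : C.CZ ≤ C.L) {x : G} (hz : x * P.z = P.z * x) (hw : x * P.w = P.w * x) :
    ∃ j ∈ C.J, x = j ∨ x = j * C.t :=
  P.cent_zw_L (hCZ (C.mem_CZ.2 fun ζ hζ => by
    obtain ⟨i, rfl⟩ := P.Z_pow hζ
    exact ((show Commute x P.z from hz).pow_right _).eq)) hw

theorem y_pow_one {d : Fin 3} {i : Fin 3} (h : P.z ^ (i : ℕ) = P.y ^ (d : ℕ)) : i = 0 ∧ d = 0 := by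
  rw [y, (show Commute P.z P.w from P.zw).mul_pow] at h
  have h1 := P.D_eq (i := i) (k := 0) (i' := d) (k' := d) (by rw [← h]; simp)
  obtain ⟨h2, h3⟩ := h1
  exact ⟨h2.trans h3.symm, h3.symm⟩

end Conf.Pair

namespace Conf.Pair.Point

variable {G : Type*} [Group G] [Finite G] {C : Conf G} {P : C.Pair} (O : P.Point)
include O

theorem y3 : P.y ^ 3 = 1 := C.J_exp _ P.y_J

theorem s_norm : O.s ∈ normalizer (C.J : Set G) := C.M_norm O.s_M

/-- The second line. -/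
def u1 : G := O.s * P.z * O.s⁻¹

/-- The third line. -/
def u2 : G := O.s * O.u1 * O.s⁻¹

theorem u1_J : O.u1 ∈ C.J := (mem_normalizer_iff.1 O.s_norm _).1 P.z_J

theorem u2_J : O.u2 ∈ C.J := (mem_normalizer_iff.1 O.s_norm _).1 O.u1_J

theorem s_u2 : O.s * O.u2 * O.s⁻¹ = P.z := by
  rw [u2, u1, show O.s * (O.s * (O.s * P.z * O.s⁻¹) * O.s⁻¹) * O.s⁻¹ = O.s ^ 3 * P.z * (O.s ^ 3)⁻¹ by
    simp [pow_succ, mul_assoc], O.s3]
  group

/-- Elements of `M` over `g` or `t g` send `z` to `z⁻¹ y`. -/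
theorem flip {x : C.M} (h : P.psi x = g6 ∨ P.psi x = t6 * g6) :
    (x : G) * P.z * (x : G)⁻¹ = P.z⁻¹ * P.y := by
  have hw : P.z⁻¹ * P.y = P.w := by rw [y, inv_mul_cancel_left]
  rw [hw]
  have key : ∀ k : C.M, (k : G) * P.z * (k : G)⁻¹ = P.w → P.psi k = P.psi x →
      (x : G) * P.z * (x : G)⁻¹ = P.w := by
    intro k hk e
    have hj : ((k⁻¹ * x : C.M) : G) ∈ C.J := (P.psi_ker _).1 (by rw [map_mul, map_inv, e, inv_mul_cancel])
    calc (x : G) * P.z * (x : G)⁻¹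
        = (k : G) * (((k⁻¹ * x : C.M) : G) * P.z * ((k⁻¹ * x : C.M) : G)⁻¹) * (k : G)⁻¹ := by
          simp only [Subgroup.coe_mul, Subgroup.coe_inv]; group
      _ = P.w := by rw [C.J_comm _ hj _ P.z_J, mul_inv_cancel_right, hk]
  rcases h with h | h
  · exact key ⟨P.g, P.g_mem⟩ P.gzg (by rw [P.psi_g, h])
  · refine key (⟨C.t, P.t_M⟩ * ⟨P.g, P.g_mem⟩) ?_ (by rw [map_mul, P.psi_t, P.psi_g, h])
    show C.t * P.g * P.z * (C.t * P.g)⁻¹ = P.w
    rw [show C.t * P.g * P.z * (C.t * P.g)⁻¹ = C.t * (P.g * P.z * P.g⁻¹) * C.t⁻¹ by group, P.gzg, ← P.w_t,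
      mul_inv_cancel_right]

theorem σinv_t : (O.σ⁻¹ * t6 * O.σ = g6 ∨ O.σ⁻¹ * t6 * O.σ = t6 * g6) ∧
    ((O.σ * O.σ)⁻¹ * t6 * (O.σ * O.σ) = g6 ∨ (O.σ * O.σ)⁻¹ * t6 * (O.σ * O.σ) = t6 * g6) := by
  have e2 : O.σ * O.σ * O.σ = 1 := by rw [← pow_two, ← pow_succ, O.σ_three.1]
  have ei : O.σ⁻¹ = O.σ * O.σ := inv_eq_of_mul_eq_one_left e2
  have h2 : (O.σ * O.σ)⁻¹ = O.σ := by rw [← ei, inv_inv]
  have h1 : O.σ⁻¹ * t6 * O.σ = O.σ * (O.σ * t6 * O.σ⁻¹) * O.σ⁻¹ := by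
    conv_rhs => rw [show O.σ * (O.σ * t6 * O.σ⁻¹) * O.σ⁻¹ = (O.σ * O.σ) * t6 * (O.σ * O.σ)⁻¹ by group]
    rw [h2, ei]
  have h3 : (O.σ * O.σ)⁻¹ * t6 * (O.σ * O.σ) = O.σ * t6 * O.σ⁻¹ := by rw [h2, ei]
  rw [h1, h3]
  rcases O.σ_cyclic with ⟨ha, hb⟩ | ⟨ha, hb⟩
  · rw [ha, hb]; exact ⟨Or.inr rfl, Or.inl rfl⟩
  · rw [ha]
    refine ⟨Or.inl ?_, Or.inr rfl⟩
    rw [show O.σ * (t6 * g6) * O.σ⁻¹ = (O.σ * t6 * O.σ⁻¹) * (O.σ * g6 * O.σ⁻¹) by group, ha, hb]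
    obtain ⟨-, -, -, -, -, -, htt, -, -, hgt, -⟩ := six_basic
    rw [mul_assoc, hgt, ← mul_assoc, htt, one_mul]

theorem t_u1 : C.t * O.u1 * C.t⁻¹ = O.u1⁻¹ * P.y := by
  have h := O.flip (x := ⟨O.s, O.s_M⟩⁻¹ * ⟨C.t, P.t_M⟩ * ⟨O.s, O.s_M⟩) (by
    rw [map_mul, map_mul, map_inv, P.psi_t]; exact O.σinv_t.1)
  have hy : O.s * P.y * O.s⁻¹ = P.y := mul_inv_eq_iff_eq_mul.2 O.s_y
  calc C.t * O.u1 * C.t⁻¹ = O.s * ((O.s⁻¹ * C.t * O.s) * P.z * (O.s⁻¹ * C.t * O.s)⁻¹) * O.s⁻¹ := by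
        rw [u1]; group
    _ = O.s * (P.z⁻¹ * P.y) * O.s⁻¹ := by rw [← h]; rfl
    _ = (O.s * P.z * O.s⁻¹)⁻¹ * (O.s * P.y * O.s⁻¹) := by group
    _ = _ := by rw [hy]; rfl

theorem t_u2 : C.t * O.u2 * C.t⁻¹ = O.u2⁻¹ * P.y := by
  set S' : C.M := ⟨O.s, O.s_M⟩
  have h := O.flip (x := (S' * S')⁻¹ * ⟨C.t, P.t_M⟩ * (S' * S')) (by
    rw [map_mul, map_mul, map_inv, map_mul, P.psi_t]; exact O.σinv_t.2)
  have hy : O.s * P.y * O.s⁻¹ = P.y := mul_inv_eq_iff_eq_mul.2 O.s_y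
  calc C.t * O.u2 * C.t⁻¹
      = (O.s * O.s) * (((O.s * O.s)⁻¹ * C.t * (O.s * O.s)) * P.z * ((O.s * O.s)⁻¹ * C.t * (O.s * O.s))⁻¹) *
          (O.s * O.s)⁻¹ := by rw [u2, u1]; group
    _ = (O.s * O.s) * (P.z⁻¹ * P.y) * (O.s * O.s)⁻¹ := by rw [← h]; rfl
    _ = (O.s * (O.s * P.z * O.s⁻¹) * O.s⁻¹)⁻¹ * (O.s * (O.s * P.y * O.s⁻¹) * O.s⁻¹) := by simp [mul_assoc]
    _ = _ := by rw [hy, hy]; rfl

/-- The coordinates. -/
def co : V →* G where
  toFun v := P.z ^ v.toAdd.1.val * O.u1 ^ v.toAdd.2.1.val * O.u2 ^ v.toAdd.2.2.val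
  map_one' := by simp
  map_mul' := fun a b => by
    simp only [toAdd_mul, Prod.fst_add, Prod.snd_add]
    rw [pow_val_add P.z3, pow_val_add (C.J_exp _ O.u1_J), pow_val_add (C.J_exp _ O.u2_J)]
    have hJ : ∀ (x y : G), x ∈ C.J → y ∈ C.J → ∀ m n : ℕ, Commute (x ^ m) (y ^ n) := fun x y hx hy m n =>
      (show Commute x y from C.J_comm x hx y hy).pow_pow m n
    calc P.z ^ a.toAdd.1.val * P.z ^ b.toAdd.1.val * (O.u1 ^ a.toAdd.2.1.val * O.u1 ^ b.toAdd.2.1.val) *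
          (O.u2 ^ a.toAdd.2.2.val * O.u2 ^ b.toAdd.2.2.val)
        = P.z ^ a.toAdd.1.val * (P.z ^ b.toAdd.1.val * O.u1 ^ a.toAdd.2.1.val) *
            ((O.u1 ^ b.toAdd.2.1.val * O.u2 ^ a.toAdd.2.2.val) * O.u2 ^ b.toAdd.2.2.val) := by group
      _ = P.z ^ a.toAdd.1.val * (O.u1 ^ a.toAdd.2.1.val * P.z ^ b.toAdd.1.val) *
            ((O.u2 ^ a.toAdd.2.2.val * O.u1 ^ b.toAdd.2.1.val) * O.u2 ^ b.toAdd.2.2.val) := by
          rw [(hJ _ _ P.z_J O.u1_J _ _).eq, (hJ _ _ O.u1_J O.u2_J _ _).eq]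
      _ = P.z ^ a.toAdd.1.val * O.u1 ^ a.toAdd.2.1.val *
            ((P.z ^ b.toAdd.1.val * O.u2 ^ a.toAdd.2.2.val) *
              (O.u1 ^ b.toAdd.2.1.val * O.u2 ^ b.toAdd.2.2.val)) := by group
      _ = P.z ^ a.toAdd.1.val * O.u1 ^ a.toAdd.2.1.val *
            ((O.u2 ^ a.toAdd.2.2.val * P.z ^ b.toAdd.1.val) *
              (O.u1 ^ b.toAdd.2.1.val * O.u2 ^ b.toAdd.2.2.val)) := by
          rw [(hJ _ _ P.z_J O.u2_J _ _).eq]
      _ = _ := by group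

theorem co_J (v : V) : O.co v ∈ C.J :=
  mul_mem (mul_mem (pow_mem P.z_J _) (pow_mem O.u1_J _)) (pow_mem O.u2_J _)

theorem co_100 : O.co v100 = P.z := by simp [co, v100, ZMod.val_one]

theorem s_co (v : V) : O.s * O.co v * O.s⁻¹ = O.co (rot3 v) := by
  show O.s * (P.z ^ v.toAdd.1.val * O.u1 ^ v.toAdd.2.1.val * O.u2 ^ v.toAdd.2.2.val) * O.s⁻¹ =
    P.z ^ v.toAdd.2.2.val * O.u1 ^ v.toAdd.1.val * O.u2 ^ v.toAdd.2.1.val
  have hJ : ∀ (x y : G), x ∈ C.J → y ∈ C.J → ∀ m n : ℕ, Commute (x ^ m) (y ^ n) := fun x y hx hy m n =>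
    (show Commute x y from C.J_comm x hx y hy).pow_pow m n
  calc O.s * (P.z ^ v.toAdd.1.val * O.u1 ^ v.toAdd.2.1.val * O.u2 ^ v.toAdd.2.2.val) * O.s⁻¹
      = (O.s * P.z * O.s⁻¹) ^ v.toAdd.1.val * (O.s * O.u1 * O.s⁻¹) ^ v.toAdd.2.1.val *
          (O.s * O.u2 * O.s⁻¹) ^ v.toAdd.2.2.val := by
        rw [conj_pow, conj_pow, conj_pow]
        generalize P.z ^ v.toAdd.1.val = a
        generalize O.u1 ^ v.toAdd.2.1.val = b
        generalize O.u2 ^ v.toAdd.2.2.val = c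
        group
    _ = O.u1 ^ v.toAdd.1.val * O.u2 ^ v.toAdd.2.1.val * P.z ^ v.toAdd.2.2.val := by rw [O.s_u2]; rfl
    _ = _ := by
        rw [((hJ _ _ O.u1_J P.z_J _ _).mul_left (hJ _ _ O.u2_J P.z_J _ _)).eq, ← mul_assoc]

theorem t_co (v : V) : ∃ d : ℕ, C.t * O.co v * C.t⁻¹ = O.co (sgA v) * P.y ^ d := by
  refine ⟨v.toAdd.2.1.val + v.toAdd.2.2.val, ?_⟩
  show C.t * (P.z ^ v.toAdd.1.val * O.u1 ^ v.toAdd.2.1.val * O.u2 ^ v.toAdd.2.2.val) * C.t⁻¹ =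
    P.z ^ v.toAdd.1.val * O.u1 ^ (-v.toAdd.2.1).val * O.u2 ^ (-v.toAdd.2.2).val *
      P.y ^ (v.toAdd.2.1.val + v.toAdd.2.2.val)
  rw [pow_val_neg (C.J_exp _ O.u1_J), pow_val_neg (C.J_exp _ O.u2_J), pow_add]
  have hz : C.t * P.z * C.t⁻¹ = P.z := by rw [← P.z_t, mul_inv_cancel_right]
  have hJy : ∀ x ∈ C.J, ∀ n : ℕ, (x⁻¹ * P.y) ^ n = (x ^ n)⁻¹ * P.y ^ n := fun x hx n => by
    rw [((show Commute x P.y from C.J_comm x hx _ P.y_J).inv_left).mul_pow, inv_pow]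
  have hc : Commute (P.y ^ v.toAdd.2.1.val) (O.u2 ^ v.toAdd.2.2.val)⁻¹ :=
    ((show Commute P.y O.u2 from C.J_comm _ P.y_J _ O.u2_J).pow_pow _ _).inv_right
  calc C.t * (P.z ^ v.toAdd.1.val * O.u1 ^ v.toAdd.2.1.val * O.u2 ^ v.toAdd.2.2.val) * C.t⁻¹
      = (C.t * P.z * C.t⁻¹) ^ v.toAdd.1.val * (C.t * O.u1 * C.t⁻¹) ^ v.toAdd.2.1.val *
          (C.t * O.u2 * C.t⁻¹) ^ v.toAdd.2.2.val := by
        rw [conj_pow, conj_pow, conj_pow]
        generalize P.z ^ v.toAdd.1.val = a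
        generalize O.u1 ^ v.toAdd.2.1.val = b
        generalize O.u2 ^ v.toAdd.2.2.val = c
        group
    _ = P.z ^ v.toAdd.1.val * (O.u1 ^ v.toAdd.2.1.val)⁻¹ *
          (P.y ^ v.toAdd.2.1.val * (O.u2 ^ v.toAdd.2.2.val)⁻¹) * P.y ^ v.toAdd.2.2.val := by
        rw [hz, O.t_u1, O.t_u2, hJy _ O.u1_J, hJy _ O.u2_J]
        group
    _ = _ := by rw [hc.eq]; group

theorem co_100_y {v : V} {d : ℕ} (h : O.co v = P.y ^ d) : v = 1 := by
  have step : ∀ v : V, ∀ d : ℕ, O.co v = P.y ^ d → v.toAdd.1 = 0 := by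
    intro v d h
    obtain ⟨d', hd'⟩ := O.t_co v
    have hy : C.t * P.y * C.t⁻¹ = P.y := by rw [← P.y_t, mul_inv_cancel_right]
    rw [h, ← conj_pow, hy] at hd'
    have h2 : O.co (v * sgA v) * P.y ^ d' = P.y ^ (d + d) := by
      rw [map_mul, mul_assoc, ← hd', h, pow_add]
    have e : O.co (v * sgA v) = P.z ^ (v.toAdd.1 + v.toAdd.1).val := by
      have hv : v * sgA v = Multiplicative.ofAdd (v.toAdd.1 + v.toAdd.1, 0, 0) :=
        (by decide +kernel : ∀ v : V, v * sgA v = Multiplicative.ofAdd (v.toAdd.1 + v.toAdd.1, 0, 0)) v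
      rw [hv]
      simp [co]
    rw [e] at h2
    have h3 : P.z ^ (v.toAdd.1 + v.toAdd.1).val = P.y ^ ((d + d + 2 * d') % 3) := by
      rw [← pow_eq_pow_mod _ O.y3, pow_add, ← h2, mul_assoc, ← pow_add, show d' + 2 * d' = 3 * d' by ring,
        pow_mul, O.y3, one_pow, mul_one]
    obtain ⟨h4, -⟩ := P.y_pow_one (i := ⟨(v.toAdd.1 + v.toAdd.1).val, ZMod.val_lt _⟩)
      (d := ⟨(d + d + 2 * d') % 3, Nat.mod_lt _ (by norm_num)⟩) h3
    exact (by decide : ∀ a : ZMod 3, (a + a).val = 0 → a = 0) _ (congrArg Fin.val h4)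
  have hy : ∀ x : G, x * P.y * x⁻¹ = P.y → ∀ n : ℕ, x * P.y ^ n * x⁻¹ = P.y ^ n := fun x hx n => by
    rw [← conj_pow, hx]
  have hs : O.s * P.y * O.s⁻¹ = P.y := mul_inv_eq_iff_eq_mul.2 O.s_y
  have h1 := step v d h
  have h2 := step (rot3 v) d (by rw [← O.s_co, h, hy _ hs])
  have h3 := step (rot3 (rot3 v)) d (by rw [← O.s_co, ← O.s_co, h, hy _ hs, hy _ hs])
  exact (by decide +kernel : ∀ v : V,
    v.toAdd.1 = 0 → (rot3 v).toAdd.1 = 0 → (rot3 (rot3 v)).toAdd.1 = 0 → v = 1) v h1 h2 h3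

/-- The coordinates are determined modulo `⟨y⟩`. -/
theorem co_inj_mod {u v : V} {c d : ℕ} (h : O.co u * P.y ^ c = O.co v * P.y ^ d) : u = v := by
  refine inv_mul_eq_one.1 (O.co_100_y (d := c + 2 * d) ?_)
  calc O.co (u⁻¹ * v) = (O.co u)⁻¹ * (O.co v * P.y ^ d) * (P.y ^ d)⁻¹ := by rw [map_mul, map_inv]; group
    _ = P.y ^ c * (P.y ^ d)⁻¹ := by rw [← h]; group
    _ = _ := by
        have h3 : P.y ^ d * P.y ^ (2 * d) = 1 := by
          rw [← pow_add, show d + 2 * d = 3 * d by ring, pow_mul, O.y3, one_pow]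
        rw [inv_eq_of_mul_eq_one_right h3, ← pow_add]

theorem J_decomp {x : G} (hx : x ∈ C.J) : ∃ (v : V) (d : ℕ), x = O.co v * P.y ^ d := by
  set f : V × Fin 3 → C.J := fun a => ⟨O.co a.1 * P.y ^ (a.2 : ℕ), mul_mem (O.co_J _) (pow_mem P.y_J _)⟩
  have hinj : Function.Injective f := by
    rintro ⟨u, i⟩ ⟨v, k⟩ h
    have h' : O.co u * P.y ^ (i : ℕ) = O.co v * P.y ^ (k : ℕ) := congrArg Subtype.val h
    have e : O.co (v⁻¹ * u) = P.y ^ ((k : ℕ) + 2 * (i : ℕ)) := by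
      rw [map_mul, map_inv, pow_add]
      calc (O.co v)⁻¹ * O.co u = (O.co v)⁻¹ * (O.co u * P.y ^ (i : ℕ)) * (P.y ^ (i : ℕ))⁻¹ := by group
        _ = P.y ^ (k : ℕ) * (P.y ^ (i : ℕ))⁻¹ := by rw [h']; group
        _ = _ := by
          congr 1
          refine inv_eq_of_mul_eq_one_right ?_
          rw [← pow_add, show (i : ℕ) + 2 * (i : ℕ) = 3 * (i : ℕ) by ring, pow_mul, O.y3, one_pow]
    have huv : v = u := inv_mul_eq_one.1 (O.co_100_y e)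
    subst huv
    have h2 : P.y ^ (i : ℕ) = P.y ^ (k : ℕ) := mul_left_cancel h'
    haveI : Fact (Nat.Prime 3) := ⟨Nat.prime_three⟩
    have ho : orderOf P.y = 3 := orderOf_eq_prime O.y3 P.y_ne
    rw [pow_inj_mod, ho, Nat.mod_eq_of_lt i.2, Nat.mod_eq_of_lt k.2] at h2
    rw [Fin.ext h2]
  have hsurj : Function.Surjective f := by
    haveI := Fintype.ofFinite C.J
    refine ((Fintype.bijective_iff_injective_and_card f).2 ⟨hinj, ?_⟩).2
    rw [← Nat.card_eq_fintype_card, ← Nat.card_eq_fintype_card, C.card_J, Nat.card_prod, Nat.card_eq_fintype_card,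
      Nat.card_fin]
    rfl
  obtain ⟨⟨v, i⟩, hv⟩ := hsurj ⟨x, hx⟩
  exact ⟨v, i, (congrArg Subtype.val hv).symm⟩

end Conf.Pair.Point

end Cfsg.Agent.McLThree
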