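import Cfsg.Agent.Lib.McLThree.Wact
import Cfsg.Agent.Lib.McLThree.Lines

/-!
The centraliser of `⟨z, w⟩` without assuming that the centraliser of `Z` is `L`.
-/

set_option autoImplicit false
set_option maxRecDepth 20000
set_option maxHeartbeats 1000000
set_option synthInstance.maxSize 4000
set_option synthInstance.maxHeartbeats 400000
set_option linter.style.haveILetI false
set_option linter.unusedSectionVars false

namespace Cfsg.Agent.McLThree

open Subgroup

namespace Conf.Pair

variable {G : Type*} [Group G] [Finite G] {C : Conf G} (P : C.Pair)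
include P

/-- Elements centralising `z` and `w` are products of elements of `J` and elements centralising
`z`, `w` and the involution. -/
theorem cent_zw_decomp {x : G} (hz : x * P.z = P.z * x) (hw : x * P.w = P.w * x) :
    ∃ j ∈ C.J, ∃ k : G, x = j * k ∧ k * C.t = C.t * k ∧ k * P.z = P.z * k ∧ k * P.w = P.w * k := by
  have hxN : x ∈ normalizer (C.Z : Set G) :=
    C.norm_Z_of P.z_mem P.z_ne (by rw [hz, mul_inv_cancel_right]; exact P.z_mem)
  set u := x * C.t * x⁻¹ with hu
  have huu : u * u = 1 := by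
    rw [hu, show x * C.t * x⁻¹ * (x * C.t * x⁻¹) = x * (C.t * C.t) * x⁻¹ by group, C.tt, mul_one, mul_inv_cancel]
  have hu1 : u ≠ 1 := fun h => C.t_ne (conj_eq_one_iff.1 h)
  obtain ⟨j, hj, e | e⟩ : ∃ j ∈ C.J, u = j ∨ u = j * C.t := P.cent_zw_L (C.normL x hxN _ C.t_mem)
    (((show Commute x P.w from hw).mul_left (show Commute P.w C.t from P.w_t).symm).mul_left
      (show Commute x P.w from hw).inv_left).eq
  · exfalso
    apply hu1
    have h3 := C.J_exp j hj
    rw [← e, pow_succ, pow_two, huu, one_mul] at h3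
    exact h3
  have h3 := C.J_exp j hj
  have hJ' : u * C.t ∈ C.J := by rw [e, mul_assoc, C.tt, mul_one]; exact hj
  set i := C.t * u with hi
  have hiJ : i ∈ C.J := by
    have h := inv_mem hJ'
    rwa [mul_inv_rev, C.t_inv, inv_eq_of_mul_eq_one_right huu] at h
  -- `i` conjugates the involution to its conjugate
  have hc : i * C.t * i⁻¹ = u := by
    have hi3 := C.J_exp _ hiJ
    calc i * C.t * i⁻¹ = C.t * u * C.t * u * C.t := by
          rw [hi, mul_inv_rev, inv_eq_of_mul_eq_one_right huu, C.t_inv]; group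
      _ = u⁻¹ := eq_inv_of_mul_eq_one_left (by rw [← hi3, hi]; simp only [pow_succ, pow_zero, one_mul, mul_assoc])
      _ = u := inv_eq_of_mul_eq_one_right huu
  refine ⟨i, hiJ, i⁻¹ * x, by group, ?_, ?_, ?_⟩
  · calc i⁻¹ * x * C.t = i⁻¹ * u * x := by rw [hu]; group
      _ = i⁻¹ * (i * C.t * i⁻¹) * x := by rw [hc]
      _ = _ := by group
  · exact ((show Commute i P.z from C.J_comm _ hiJ _ P.z_J).inv_left.mul_left hz).eq
  · exact ((show Commute i P.w from C.J_comm _ hiJ _ P.w_J).inv_left.mul_left hw).eq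

/-- Elements centralising `z` and `w` normalise `J`. -/
theorem cent_zw_norm {x : G} (hz : x * P.z = P.z * x) (hw : x * P.w = P.w * x) :
    x ∈ normalizer (C.J : Set G) := by
  obtain ⟨j, hj, k, rfl, hkt, hkz, hkw⟩ := P.cent_zw_decomp hz hw
  exact mul_mem (C.M_norm (C.JM hj)) (P.mem_NT.1 (P.kernel_NT hkt hkz hkw)).1

end Conf.Pair

end Cfsg.Agent.McLThree
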