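import Cfsg.Agent.Lib.McLThree.Lines
import Cfsg.Agent.Lib.McLThree.BarTop

/-!
When the centraliser of `Z` is `L`, the centraliser of `y` lies in `M`.
-/

set_option autoImplicit false
set_option maxRecDepth 20000
set_option maxHeartbeats 1000000
set_option synthInstance.maxSize 4000
set_option synthInstance.maxHeartbeats 400000
set_option linter.style.haveILetI false
set_option linter.unusedSectionVars false

namespace Cfsg.Agent.McLThree

open Subgroup
open Cfsg.Agent.ThreeTI.Cube (V)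

theorem neg_fin_three : ∀ i : Fin 3, (-i : Fin 3) = 0 ↔ i = 0 := by decide

theorem two_types : ∀ a b : Fin 3, a = 0 ∨ b = 0 → 1 - a = 0 ∨ 1 - b = 0 →
    (a = 1 ∧ b = 0) ∨ (a = 0 ∧ b = 1) := by decide

theorem succ_zero : ∀ i : Fin 3, 1 + i = 0 → i = 2 := by decide

namespace Conf.Pair

variable {G : Type*} [Group G] [Finite G] {C : Conf G} (P : C.Pair)
include P

theorem pow_neg_fin {x : G} (hx : x ^ 3 = 1) (i : Fin 3) : x ^ ((-i : Fin 3) : ℕ) = (x ^ (i : ℕ))⁻¹ := by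
  refine eq_inv_of_mul_eq_one_left ?_
  rw [← pow_add, pow_eq_pow_mod _ hx,
    (by decide : ∀ i : Fin 3, (((-i : Fin 3) : ℕ) + i) % 3 = 0) i, pow_zero]

/-- Every conjugate of `z` in the centraliser of the involution lies in one of the two fixed groups. -/
theorem type_conj {g : G} {i k : Fin 3} (h : g * P.z * g⁻¹ = P.z ^ (i : ℕ) * P.w ^ (k : ℕ)) :
    i = 0 ∨ k = 0 := by
  obtain ⟨m, hm, e | e⟩ := P.weak_closure (g := g)
    (h ▸ mul_mem (pow_mem P.z_J _) (pow_mem P.w_J _))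
  · exact P.type_D hm (e ▸ h)
  · have h2 : m * P.z * m⁻¹ = P.z ^ ((-i : Fin 3) : ℕ) * P.w ^ ((-k : Fin 3) : ℕ) := by
      rw [P.pow_neg_fin P.z3, P.pow_neg_fin P.w3,
        show m * P.z * m⁻¹ = (m * P.z⁻¹ * m⁻¹)⁻¹ by group, ← e, h, mul_inv_rev]
      exact ((show Commute P.z P.w from P.zw).pow_pow _ _).inv_inv.eq.symm
    rcases P.type_D hm h2 with h3 | h3
    · exact Or.inl ((neg_fin_three i).1 h3)
    · exact Or.inr ((neg_fin_three k).1 h3)

end Conf.Pair

namespace Conf.Pair.Point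

variable {G : Type*} [Group G] [Finite G] {C : Conf G} {P : C.Pair} (O : P.Point)
include O

theorem flip_g {x : C.M} (h : P.psi x = g6 ∨ P.psi x = t6 * g6) : (x : G) * P.z * (x : G)⁻¹ = P.w := by
  rw [O.flip h, y, inv_mul_cancel_left]

theorem σ_t : O.σ * t6 * O.σ⁻¹ = g6 ∨ O.σ * t6 * O.σ⁻¹ = t6 * g6 := by
  rcases O.σ_cyclic with h | h
  · exact Or.inl h.1
  · exact Or.inr h.1

theorem U_decomp {p : A6} (hp : p ∈ O.U) : ∃ (a b : Fin 2) (i : Fin 3),
    p = t6 ^ (a : ℕ) * (O.σ * t6 * O.σ⁻¹) ^ (b : ℕ) * O.σ ^ (i : ℕ) := by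
  classical
  haveI : Fact (Nat.Prime 3) := ⟨Nat.prime_three⟩
  set f : Fin 2 × Fin 2 × Fin 3 → O.U := fun a => ⟨t6 ^ (a.1 : ℕ) * (O.σ * t6 * O.σ⁻¹) ^ (a.2.1 : ℕ) *
    O.σ ^ (a.2.2 : ℕ), mul_mem (mul_mem (pow_mem O.t_U _)
      (pow_mem (mul_mem (mul_mem O.σ_U O.t_U) (inv_mem O.σ_U)) _)) (pow_mem O.σ_U _)⟩
  have hV : ∀ u : A6, (u = g6 ∨ u = t6 * g6) → ∀ a b c d : Fin 2,
      (t6 ^ (a : ℕ) * u ^ (b : ℕ) = t6 ^ (c : ℕ) * u ^ (d : ℕ) → a = c ∧ b = d) ∧
      ((t6 ^ (c : ℕ) * u ^ (d : ℕ))⁻¹ * (t6 ^ (a : ℕ) * u ^ (b : ℕ))) *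
        ((t6 ^ (c : ℕ) * u ^ (d : ℕ))⁻¹ * (t6 ^ (a : ℕ) * u ^ (b : ℕ))) = 1 := by
    rintro u (rfl | rfl) <;> decide +kernel
  have hinj : Function.Injective f := by
    rintro ⟨a, b, i⟩ ⟨c, d, k⟩ h
    have h' : t6 ^ (a : ℕ) * (O.σ * t6 * O.σ⁻¹) ^ (b : ℕ) * O.σ ^ (i : ℕ) =
        t6 ^ (c : ℕ) * (O.σ * t6 * O.σ⁻¹) ^ (d : ℕ) * O.σ ^ (k : ℕ) := congrArg Subtype.val h
    obtain ⟨hsep, h2⟩ := hV _ O.σ_t a b c d
    set v := t6 ^ (a : ℕ) * (O.σ * t6 * O.σ⁻¹) ^ (b : ℕ)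
    set v' := t6 ^ (c : ℕ) * (O.σ * t6 * O.σ⁻¹) ^ (d : ℕ)
    have hx : v'⁻¹ * v = O.σ ^ (k : ℕ) * (O.σ ^ (i : ℕ))⁻¹ := by
      calc v'⁻¹ * v = v'⁻¹ * (v * O.σ ^ (i : ℕ)) * (O.σ ^ (i : ℕ))⁻¹ := by group
        _ = _ := by rw [h']; group
    have h3 : (v'⁻¹ * v) ^ 3 = 1 := by
      rw [hx, ((Commute.refl O.σ).pow_pow _ _).inv_right.mul_pow, inv_pow, ← pow_mul, ← pow_mul, mul_comm _ 3,
        mul_comm _ 3, pow_mul, pow_mul, O.σ_three.1]
      simp
    have h1 : v'⁻¹ * v = 1 := by rwa [pow_succ, pow_two, h2, one_mul] at h3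
    obtain ⟨rfl, rfl⟩ := hsep (inv_mul_eq_one.1 h1).symm
    have hik : O.σ ^ (i : ℕ) = O.σ ^ (k : ℕ) := mul_left_cancel h'
    rw [pow_inj_mod, orderOf_eq_prime O.σ_three.1 O.σ_three.2, Nat.mod_eq_of_lt i.2, Nat.mod_eq_of_lt k.2] at hik
    rw [Fin.ext hik]
  have hsurj : Function.Surjective f := by
    haveI := Fintype.ofFinite O.U
    refine ((Fintype.bijective_iff_injective_and_card f).2 ⟨hinj, ?_⟩).2
    rw [← Nat.card_eq_fintype_card, ← Nat.card_eq_fintype_card, O.U_card, Nat.card_eq_fintype_card]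
    rfl
  obtain ⟨⟨a, b, i⟩, h⟩ := hsurj ⟨p, hp⟩
  exact ⟨a, b, i, (congrArg Subtype.val h).symm⟩

theorem U_two {p : A6} (hp : p ∈ O.U) (h2 : p * p = 1) : p = 1 ∨ p = t6 ∨ p = g6 ∨ p = t6 * g6 := by
  obtain ⟨a, b, i, rfl⟩ := O.U_decomp hp
  have hlist : ∀ a b : Fin 2, ∀ u : A6, (u = g6 ∨ u = t6 * g6) →
      t6 ^ (a : ℕ) * u ^ (b : ℕ) ∈ [1, t6, g6, t6 * g6] := by
    rintro a b u (rfl | rfl) <;> revert a b <;> decide +kernel
  have hi : i = 0 := by
    have hmul : ∀ u v : A6, u ∈ [1, t6, g6, t6 * g6] → v ∈ [1, t6, g6, t6 * g6] →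
        (u * v) * (u * v) = 1 := by decide +kernel
    set v := t6 ^ (a : ℕ) * (O.σ * t6 * O.σ⁻¹) ^ (b : ℕ) with hv
    set r := O.σ ^ (i : ℕ) with hr
    have hv4 : v ∈ [1, t6, g6, t6 * g6] := hlist a b _ O.σ_t
    have hr3 : r ^ 3 = 1 := by rw [hr, ← pow_mul, mul_comm, pow_mul, O.σ_three.1, one_pow]
    have hconj : r * v * r⁻¹ ∈ [1, t6, g6, t6 * g6] := by
      have key : ∀ u ∈ [1, t6, g6, t6 * g6], O.σ * u * O.σ⁻¹ ∈ [1, t6, g6, t6 * g6] := by
        intro u hu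
        simp only [List.mem_cons, List.not_mem_nil, or_false] at hu ⊢
        rcases hu with rfl | rfl | rfl | rfl
        · left; group
        · rcases O.σ_cyclic with h | h <;> simp [h.1]
        · rcases O.σ_cyclic with h | h <;> simp [h.2]
        · rw [show O.σ * (t6 * g6) * O.σ⁻¹ = (O.σ * t6 * O.σ⁻¹) * (O.σ * g6 * O.σ⁻¹) by group]
          rcases O.σ_cyclic with h | h <;> rw [h.1, h.2]
          · exact (by decide +kernel : g6 * (t6 * g6) = 1 ∨ g6 * (t6 * g6) = t6 ∨ g6 * (t6 * g6) = g6 ∨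
              g6 * (t6 * g6) = t6 * g6)
          · exact (by decide +kernel : t6 * g6 * t6 = 1 ∨ t6 * g6 * t6 = t6 ∨ t6 * g6 * t6 = g6 ∨
              t6 * g6 * t6 = t6 * g6)
      have hn : ∀ n : ℕ, O.σ ^ n * v * (O.σ ^ n)⁻¹ ∈ [1, t6, g6, t6 * g6] := by
        intro n
        induction n with
        | zero => simpa using hv4
        | succ n ih =>
          rw [show O.σ ^ (n + 1) * v * (O.σ ^ (n + 1))⁻¹ = O.σ * (O.σ ^ n * v * (O.σ ^ n)⁻¹) * O.σ⁻¹ by
            rw [pow_succ']; group]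
          exact key _ ih
      exact hn _
    have h6 : (r * r) * (r * r) = 1 := by
      have e : v * (r * v * r⁻¹) = (r * r)⁻¹ := by
        refine eq_inv_of_mul_eq_one_left ?_
        calc v * (r * v * r⁻¹) * (r * r) = v * r * (v * r) := by group
          _ = 1 := h2
      have := hmul _ _ hv4 hconj
      rw [e, ← mul_inv_rev, inv_eq_one] at this
      exact this
    have h7 : r = 1 := by
      calc r = r ^ 3 * r := by rw [hr3, one_mul]
        _ = (r * r) * (r * r) := by simp [pow_succ, mul_assoc]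
        _ = 1 := h6
    rw [hr] at h7
    haveI : Fact (Nat.Prime 3) := ⟨Nat.prime_three⟩
    have := orderOf_dvd_of_pow_eq_one h7
    rw [orderOf_eq_prime O.σ_three.1 O.σ_three.2] at this
    exact Fin.ext (by
      rcases Nat.eq_zero_or_pos (i : ℕ) with h | h
      · exact h
      · exact absurd (Nat.le_of_dvd h this) (by omega))
  subst hi
  simpa using hlist a b _ O.σ_t

/-- The elements of the normaliser of `J` centralising `y`. -/
theorem norm_y (hCZ : C.CZ ≤ C.L) {x : G} (hy : x * P.y = P.y * x) (hJ : x ∈ normalizer (C.J : Set G)) :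
    x ∈ C.M := by
  obtain ⟨-, -, -, -, -, -, htt, ht1, -⟩ := six_basic
  set T : C.M := ⟨C.t, P.t_M⟩ with hT
  set t' : C.M := ⟨x * C.t * x⁻¹, C.M_normal hJ P.t_M⟩ with ht'
  have hp : P.psi t' ∈ O.U := O.mem_U.2 ⟨t', by
    show x * C.t * x⁻¹ * P.y = P.y * (x * C.t * x⁻¹)
    exact (((show Commute x P.y from hy).mul_left (show Commute C.t P.y from P.y_t.symm)).mul_left
      (show Commute x P.y from hy).inv_left).eq, rfl⟩
  have hp2 : P.psi t' * P.psi t' = 1 := by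
    rw [← map_mul, show t' * t' = 1 from Subtype.ext (by
      show x * C.t * x⁻¹ * (x * C.t * x⁻¹) = 1
      calc x * C.t * x⁻¹ * (x * C.t * x⁻¹) = x * (C.t * C.t) * x⁻¹ := by group
        _ = 1 := by rw [C.tt]; group), map_one]
  have hp1 : P.psi t' ≠ 1 := fun h => C.t_ne (by
    have h3 := C.J_exp _ ((P.psi_ker t').1 h)
    have : x * C.t * x⁻¹ = 1 := by
      have e : x * C.t * x⁻¹ = (x * C.t * x⁻¹) ^ 3 := by
        rw [conj_pow, pow_succ, pow_two, C.tt, one_mul]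
      rw [e, h3]
    exact conj_eq_one_iff.1 this)
  obtain ⟨k, hk⟩ : ∃ k : ℕ, O.σ ^ k * t6 * (O.σ ^ k)⁻¹ = P.psi t' := by
    rcases (O.U_two hp hp2).resolve_left hp1 with h | h | h
    · exact ⟨0, by rw [h]; simp⟩
    · rcases O.σ_cyclic with ⟨ha, -⟩ | ⟨ha, hb⟩
      · exact ⟨1, by rw [pow_one, ha, h]⟩
      · refine ⟨2, ?_⟩
        rw [h, pow_two, show O.σ * O.σ * t6 * (O.σ * O.σ)⁻¹ = O.σ * (O.σ * t6 * O.σ⁻¹) * O.σ⁻¹ by group, ha,
          show O.σ * (t6 * g6) * O.σ⁻¹ = (O.σ * t6 * O.σ⁻¹) * (O.σ * g6 * O.σ⁻¹) by group, ha, hb]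
        decide +kernel
    · rcases O.σ_cyclic with ⟨ha, hb⟩ | ⟨ha, -⟩
      · refine ⟨2, ?_⟩
        rw [h, pow_two, show O.σ * O.σ * t6 * (O.σ * O.σ)⁻¹ = O.σ * (O.σ * t6 * O.σ⁻¹) * O.σ⁻¹ by group, ha, hb]
      · exact ⟨1, by rw [pow_one, ha, h]⟩
  set S' : C.M := ⟨O.s, O.s_M⟩ with hS
  set x' := (O.s ^ k)⁻¹ * x with hx'
  have hx'y : x' * P.y = P.y * x' :=
    (((show Commute O.s P.y from O.s_y).pow_left k).inv_left.mul_left (show Commute x P.y from hy)).eq
  have hx'J : x' ∈ normalizer (C.J : Set G) := mul_mem (inv_mem (pow_mem O.s_norm _)) hJ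
  set j : C.M := (S' ^ k)⁻¹ * t' * S' ^ k * T⁻¹ with hj
  have hjJ : (j : G) ∈ C.J := (P.psi_ker j).1 (by
    rw [hj, map_mul, map_mul, map_mul, map_inv, map_inv, map_pow, P.psi_t, ← hk, show P.psi S' = O.σ from rfl]
    group)
  have hx't : x' * C.t * x'⁻¹ = (j : G) * C.t := by
    rw [hj]
    show x' * C.t * x'⁻¹ = (O.s ^ k)⁻¹ * (x * C.t * x⁻¹) * O.s ^ k * C.t⁻¹ * C.t
    rw [hx']; group
  set ζ := x' * P.z * x'⁻¹ with hζ
  have hζJ : ζ ∈ C.J := (mem_normalizer_iff.1 hx'J _).1 P.z_J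
  have hζt : ζ * C.t = C.t * ζ := by
    have h1 : Commute ζ ((j : G) * C.t) := by
      rw [← hx't, hζ]
      exact Commute.map (show Commute P.z C.t from P.z_t) (MulAut.conj x').toMonoidHom
    have h2 : Commute ζ (j : G)⁻¹ := (show Commute ζ (j : G) from C.J_comm _ hζJ _ hjJ).inv_right
    have h3 := h2.mul_right h1
    rwa [inv_mul_cancel_left] at h3
  obtain ⟨a, b, hab⟩ := P.D_cases hζJ hζt
  have hw : x' * P.w * x'⁻¹ = P.z ^ ((1 - a : Fin 3) : ℕ) * P.w ^ ((1 - b : Fin 3) : ℕ) := by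
    have h1 : x' * P.w * x'⁻¹ = ζ⁻¹ * P.y := by
      calc x' * P.w * x'⁻¹ = (x' * P.z * x'⁻¹)⁻¹ * (x' * P.y * x'⁻¹) := by rw [y]; group
        _ = _ := by rw [hx'y, mul_inv_cancel_right]
    have e : ∀ u : G, u ^ 3 = 1 → ∀ i : Fin 3, u ^ ((1 - i : Fin 3) : ℕ) = (u ^ (i : ℕ))⁻¹ * u := by
      intro u hu i
      rw [eq_inv_mul_iff_mul_eq, ← pow_add, pow_eq_pow_mod _ hu,
        (by decide : ∀ i : Fin 3, ((i : ℕ) + ((1 - i : Fin 3) : ℕ)) % 3 = 1) i, pow_one]
    rw [h1, hab, e _ P.z3, e _ P.w3, y]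
    have c1 : Commute (P.w ^ (b : ℕ))⁻¹ (P.z ^ (a : ℕ))⁻¹ :=
      ((show Commute P.w P.z from P.zw.symm).pow_pow _ _).inv_inv
    have c2 : Commute (P.w ^ (b : ℕ))⁻¹ P.z := ((show Commute P.w P.z from P.zw.symm).pow_left _).inv_left
    rw [mul_inv_rev]
    calc (P.w ^ (b : ℕ))⁻¹ * (P.z ^ (a : ℕ))⁻¹ * (P.z * P.w)
        = (P.w ^ (b : ℕ))⁻¹ * ((P.z ^ (a : ℕ))⁻¹ * P.z) * P.w := by group
      _ = (P.z ^ (a : ℕ))⁻¹ * P.z * (P.w ^ (b : ℕ))⁻¹ * P.w := by rw [(c1.mul_right c2).eq]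
      _ = _ := by group
  have t1 := P.type_conj hab
  have t2 := P.type_conj (g := x' * P.g) (i := 1 - a) (k := 1 - b) (by
    rw [show x' * P.g * P.z * (x' * P.g)⁻¹ = x' * (P.g * P.z * P.g⁻¹) * x'⁻¹ by group, P.gzg, hw])
  have hcases : (a = 1 ∧ b = 0) ∨ (a = 0 ∧ b = 1) := by
    exact two_types a b t1 t2
  have key : ∀ x0 : G, x0 * P.y = P.y * x0 → x0 * P.z * x0⁻¹ = P.z → x0 ∈ C.M := by
    intro x0 h0 hz0
    have hw0 : x0 * P.w * x0⁻¹ = P.w := by
      calc x0 * P.w * x0⁻¹ = (x0 * P.z * x0⁻¹)⁻¹ * (x0 * P.y * x0⁻¹) := by rw [y]; group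
        _ = P.w := by rw [hz0, h0, mul_inv_cancel_right, y, inv_mul_cancel_left]
    obtain ⟨i, hi, rfl | rfl⟩ := P.cent_zw hCZ (mul_inv_eq_iff_eq_mul.1 hz0) (mul_inv_eq_iff_eq_mul.1 hw0)
    · exact C.JM hi
    · exact mul_mem (C.JM hi) P.t_M
  have hx'M : x' ∈ C.M := by
    rcases hcases with ⟨rfl, rfl⟩ | ⟨rfl, rfl⟩
    · exact key x' hx'y (by rw [← hζ, hab]; simp)
    · set g' : C.M := S' * T * S'⁻¹ with hg'
      have hg'z : (g' : G) * P.z * (g' : G)⁻¹ = P.w := O.flip_g (by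
        rw [hg', map_mul, map_mul, map_inv, P.psi_t]; exact O.σ_t)
      have hg'y : Commute (g' : G) P.y := (((show Commute O.s P.y from O.s_y).mul_left
        (show Commute C.t P.y from P.y_t.symm))).mul_left (show Commute O.s P.y from O.s_y).inv_left
      have := key ((g' : G)⁻¹ * x') (hg'y.inv_left.mul_left (show Commute x' P.y from hx'y)).eq (by
        rw [show (g' : G)⁻¹ * x' * P.z * ((g' : G)⁻¹ * x')⁻¹ = (g' : G)⁻¹ * (x' * P.z * x'⁻¹) * g' by group,
          ← hζ, hab, show P.z ^ ((0 : Fin 3) : ℕ) * P.w ^ ((1 : Fin 3) : ℕ) = P.w by simp, ← hg'z]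
        group)
      have h2 := mul_mem g'.2 this
      rwa [mul_inv_cancel_left] at h2
  have := mul_mem (pow_mem O.s_M k) hx'M
  rwa [hx', mul_inv_cancel_left] at this

theorem co_inj : Function.Injective O.co := fun u v h => by
  have : O.co (v⁻¹ * u) = P.y ^ 0 := by rw [map_mul, map_inv, h, inv_mul_cancel, pow_zero]
  exact (inv_mul_eq_one.1 (O.co_100_y this)).symm

/-- The point spans the diagonal line modulo `⟨y⟩`. -/
theorem diag_point : ∃ (k : Fin 3) (d : ℕ), k ≠ 0 ∧ O.m * P.z * O.m⁻¹ = O.co (v111 ^ (k : ℕ)) * P.y ^ d := by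
  set ζ := O.m * P.z * O.m⁻¹ with hζ
  have hζJ : ζ ∈ C.J := (mem_normalizer_iff.1 (C.M_norm O.m_mem) _).1 P.z_J
  obtain ⟨v, d, hv⟩ := O.J_decomp hζJ
  have hc : O.s * ζ * O.s⁻¹ = ζ := by
    rw [s, hζ, show O.m * O.q1 * O.m⁻¹ * (O.m * P.z * O.m⁻¹) * (O.m * O.q1 * O.m⁻¹)⁻¹ =
      O.m * (O.q1 * P.z * O.q1⁻¹) * O.m⁻¹ by group, ← C.zq P.z_mem O.q1_Q, mul_inv_cancel_right]
  rw [hv, show O.s * (O.co v * P.y ^ d) * O.s⁻¹ = (O.s * O.co v * O.s⁻¹) * (O.s * P.y ^ d * O.s⁻¹) by group,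
    O.s_co, ← conj_pow, O.s_y, mul_inv_cancel_right] at hc
  obtain ⟨k, hk⟩ := rot_fixed 1 (by decide) v (O.co_inj (mul_right_cancel hc))
  refine ⟨k, d, fun h => ?_, by rw [hv, hk]⟩
  have hd : ζ = P.y ^ (d % 3) := by rw [← pow_eq_pow_mod _ O.y3, hv, hk, h]; simp
  have hlt : d % 3 < 3 := Nat.mod_lt _ (by norm_num)
  interval_cases d % 3
  · exact P.z_ne (conj_eq_one_iff.1 (by rw [← hζ, hd, pow_zero]))
  · exact (P.y_not_type O.m_mem).1 (by rw [← hζ, hd, pow_one])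
  · refine (P.y_not_type O.m_mem).2 ?_
    rw [show O.m * P.z⁻¹ * O.m⁻¹ = ζ⁻¹ by rw [hζ]; group, hd]
    exact inv_eq_of_mul_eq_one_right ((pow_succ _ _).symm.trans O.y3)

/-- Conjugates of the point inside the hyperplane are trivial shifts. -/
theorem shift_point {x : G} {i : Fin 3}
    (h : x * (O.m * P.z * O.m⁻¹) * x⁻¹ = O.m * P.z * O.m⁻¹ * P.y ^ (i : ℕ)) : i = 0 := by
  set a1 := O.m⁻¹ * P.y * O.m with ha1
  set g := O.m⁻¹ * x * O.m with hg
  have hgz : g * P.z * g⁻¹ = P.z * a1 ^ (i : ℕ) := by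
    have e : a1 ^ (i : ℕ) = O.m⁻¹ * P.y ^ (i : ℕ) * O.m := by
      have := conj_pow (i := (i : ℕ)) (a := O.m⁻¹) (b := P.y)
      rwa [inv_inv] at this
    calc g * P.z * g⁻¹ = O.m⁻¹ * (x * (O.m * P.z * O.m⁻¹) * x⁻¹) * O.m := by rw [hg]; group
      _ = _ := by rw [h, e]; group
  have hA : P.z * a1 ^ (i : ℕ) ∈ C.A := mul_mem P.z_A (pow_mem O.y_A _)
  obtain ⟨m', hm', e | e⟩ := P.weak_closure (g := g) (hgz ▸ hA.1)
  all_goals
    have hZ : P.z * a1 ^ (i : ℕ) ∈ C.Z := by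
      rw [← hgz, e]
      first
        | exact P.A_type hm' (by rw [← e, hgz]; exact hA)
        | (rw [show m' * P.z⁻¹ * m'⁻¹ = (m' * P.z * m'⁻¹)⁻¹ by group]
           refine inv_mem (P.A_type hm' ?_)
           rw [show m' * P.z * m'⁻¹ = (m' * P.z⁻¹ * m'⁻¹)⁻¹ by group, ← e, hgz]
           exact inv_mem hA)
    have h1 : a1 ^ (i : ℕ) ∈ C.Z := by simpa using mul_mem (inv_mem P.z_mem) hZ
    fin_cases i
    · rfl
    · exact absurd (by simpa using h1) O.a1_notZ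
    · refine absurd ?_ O.a1_notZ
      have h2 := mul_mem h1 h1
      rwa [← pow_add, show (2 : ℕ) + 2 = 3 + 1 from rfl, pow_succ, C.J_exp _ O.y_A.1, one_mul] at h2

/-- The elements centralising `y` and the point. -/
theorem cent_point (hCZ : C.CZ ≤ C.L) {x : G} (hy : x * P.y = P.y * x)
    (hζ : x * (O.m * P.z * O.m⁻¹) = O.m * P.z * O.m⁻¹ * x) :
    ∃ (hM : x ∈ C.M) (i : ℤ), P.psi ⟨x, hM⟩ = O.σ ^ i := by
  set x1 := O.m⁻¹ * x * O.m with hx1
  have hx1z : Commute x1 P.z := by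
    show x1 * P.z = P.z * x1
    calc x1 * P.z = O.m⁻¹ * (x * (O.m * P.z * O.m⁻¹)) * O.m := by rw [hx1]; group
      _ = O.m⁻¹ * ((O.m * P.z * O.m⁻¹) * x) * O.m := by rw [hζ]
      _ = _ := by rw [hx1]; group
  have hx1L : x1 ∈ C.L := hCZ (C.mem_CZ.2 fun ζ hζ => by
    obtain ⟨i, rfl⟩ := P.Z_pow hζ
    exact (hx1z.pow_right _).eq)
  have hS := P.stab_A hx1L O.y_A O.a1_notZ (by
    have : x1 * (O.m⁻¹ * P.y * O.m) * x1⁻¹ * (O.m⁻¹ * P.y * O.m)⁻¹ = 1 := by
      calc x1 * (O.m⁻¹ * P.y * O.m) * x1⁻¹ * (O.m⁻¹ * P.y * O.m)⁻¹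
          = O.m⁻¹ * (x * P.y * x⁻¹ * P.y⁻¹) * O.m := by rw [hx1]; group
        _ = 1 := by rw [hy, mul_inv_cancel_right, mul_inv_cancel]; group
    rw [this]; exact one_mem _)
  have hM : x ∈ C.M := by
    have := mul_mem (mul_mem O.m_mem (C.S_le_M hS)) (inv_mem O.m_mem)
    rwa [hx1, show O.m * (O.m⁻¹ * x * O.m) * O.m⁻¹ = x by group] at this
  have hU : P.psi ⟨x, hM⟩ ∈ O.U := O.mem_U.2 ⟨⟨x, hM⟩, hy, rfl⟩
  obtain ⟨i, hi⟩ := O.U_point hU (by
    rw [μ, ← map_inv, ← map_mul, ← map_mul]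
    exact (P.psi_S _).2 hS)
  exact ⟨hM, i, hi.symm⟩

/-- The centraliser of `y` lies in `M`. -/
theorem cent_y (hCZ : C.CZ ≤ C.L) {x : G} (hy : x * P.y = P.y * x) : x ∈ C.M := by
  classical
  set K := centralizer ({P.y} : Set G) with hK
  have memK : ∀ {g : G}, g ∈ K ↔ g * P.y = P.y * g := fun {g} => mem_centralizer_singleton_iff
  set Y := (zpowers P.y).subgroupOf K with hY
  haveI : Y.Normal := ⟨fun n hn g => by
    refine mem_subgroupOf.2 ?_
    obtain ⟨i, hi⟩ := mem_zpowers_iff.1 (mem_subgroupOf.1 hn)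
    show (g : G) * (n : G) * (g : G)⁻¹ ∈ zpowers P.y
    rw [← hi, ((show Commute (g : G) P.y from memK.1 g.2).zpow_right i).eq, mul_inv_cancel_right]
    exact zpow_mem (mem_zpowers _) _⟩
  set π := QuotientGroup.mk' Y with hπ
  have hJK : C.J ≤ K := fun g hg => memK.2 (C.J_comm g hg _ P.y_J)
  have hYJ : ∀ g ∈ zpowers P.y, g ∈ C.J := zpowers_le.2 P.y_J
  have eqπ : ∀ {a b : K}, π a = π b ↔ (a : G)⁻¹ * b ∈ zpowers P.y := fun {a b} => by
    rw [hπ, QuotientGroup.mk'_apply, QuotientGroup.mk'_apply, QuotientGroup.eq]; rfl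
  set j : V →* K ⧸ Y := π.comp (O.co.codRestrict K fun v => hJK (O.co_J v)) with hj
  have jdef : ∀ v, j v = π ⟨O.co v, hJK (O.co_J v)⟩ := fun v => rfl
  have hinj : Function.Injective j := fun u v h => by
    obtain ⟨i, hi⟩ := mem_zpowers_iff.1 (eqπ.1 h)
    have h3 : P.y ^ i = P.y ^ (i % 3).toNat := by
      rw [← zpow_natCast, Int.toNat_of_nonneg (Int.emod_nonneg _ (by norm_num))]
      conv_lhs => rw [← Int.emod_add_mul_ediv i 3]
      rw [zpow_add, zpow_mul, zpow_ofNat, O.y3, one_zpow, mul_one]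
    exact inv_mul_eq_one.1 (O.co_100_y (d := (i % 3).toNat) (by
      rw [← h3, map_mul, map_inv]; exact hi.symm))
  have hrange : ∀ a : K, π a ∈ j.range ↔ (a : G) ∈ C.J := by
    intro a
    constructor
    · rintro ⟨v, hv⟩
      have h1 : (O.co v)⁻¹ * (a : G) ∈ zpowers P.y := eqπ.1 hv
      have := mul_mem (O.co_J v) (hYJ _ h1)
      rwa [mul_inv_cancel_left] at this
    · intro ha
      obtain ⟨v, d, hvd⟩ := O.J_decomp ha
      refine ⟨v, eqπ.2 ?_⟩
      show (O.co v)⁻¹ * (a : G) ∈ zpowers P.y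
      rw [hvd, inv_mul_cancel_left]
      exact pow_mem (mem_zpowers _) _
  have hnorm : ∀ a : K, π a ∈ normalizer (j.range : Set (K ⧸ Y)) ↔ (a : G) ∈ normalizer (C.J : Set G) := by
    intro a
    constructor
    · intro h
      refine C.norm_of_le fun g hg => (hrange (a * ⟨g, hJK hg⟩ * a⁻¹)).1 ?_
      rw [map_mul, map_mul, map_inv]
      exact (mem_normalizer_iff.1 h _).1 ((hrange _).2 hg)
    · intro h
      refine mem_normalizer_iff_map_conj_eq.2 (eq_of_le_of_card_ge ?_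
        (card_map_of_injective (MulAut.conj (π a)).injective).ge)
      rintro _ ⟨_, ⟨v, rfl⟩, rfl⟩
      show π a * j v * (π a)⁻¹ ∈ j.range
      rw [jdef, ← map_inv, ← map_mul, ← map_mul, hrange]
      exact (mem_normalizer_iff.1 h _).1 (O.co_J v)
  set sK : K := ⟨O.s, memK.2 O.s_y⟩ with hsK
  set tK : K := ⟨C.t, memK.2 P.y_t.symm⟩ with htK
  let B : Bar (K ⧸ Y) :=
    { j := j
      inj := hinj
      s := π sK
      tau := π tK
      s3 := by rw [← map_pow, show sK ^ 3 = 1 from Subtype.ext O.s3, map_one]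
      s_conj := fun v => by
        rw [jdef, jdef, ← map_inv, ← map_mul, ← map_mul]
        exact congrArg π (Subtype.ext (O.s_co v))
      tau2 := by rw [← map_mul, show tK * tK = 1 from Subtype.ext C.tt, map_one]
      tau_conj := fun v => by
        obtain ⟨d, hd⟩ := O.t_co v
        rw [jdef, jdef, ← map_inv, ← map_mul, ← map_mul, eqπ]
        show (C.t * O.co v * C.t⁻¹)⁻¹ * O.co (sgA v) ∈ zpowers P.y
        rw [hd, mul_inv_rev, inv_mul_cancel_right]
        exact inv_mem (pow_mem (mem_zpowers _) _)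
      norm := fun a ha => by
        induction a using QuotientGroup.induction_on with
        | H a =>
          have haJ := (hnorm a).1 ha
          have hay := memK.1 a.2
          have haM := O.norm_y hCZ hay haJ
          obtain ⟨a0, b0, i0, hU⟩ := O.U_decomp (O.mem_U.2 ⟨⟨a, haM⟩, hay, rfl⟩)
          set r : K := tK ^ (a0 : ℕ) * (sK * tK * sK⁻¹) ^ (b0 : ℕ) * sK ^ (i0 : ℕ) with hr
          set T : C.M := ⟨C.t, P.t_M⟩
          set S' : C.M := ⟨O.s, O.s_M⟩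
          set j0 : C.M := ⟨a, haM⟩ * (T ^ (a0 : ℕ) * (S' * T * S'⁻¹) ^ (b0 : ℕ) * S' ^ (i0 : ℕ))⁻¹ with hj0
          have hj0J : (j0 : G) ∈ C.J := (P.psi_ker j0).1 (by
            rw [hj0, map_mul, map_inv, map_mul, map_mul, map_pow, map_pow, map_pow, map_mul, map_mul, map_inv,
              P.psi_t, show P.psi S' = O.σ from rfl, hU, mul_inv_cancel])
          obtain ⟨u, hu⟩ := (hrange ⟨j0, hJK hj0J⟩).2 hj0J
          refine ⟨u, a0, b0, i0, ?_⟩
          rw [hu, show (⟨j0, hJK hj0J⟩ : K) = a * r⁻¹ from Subtype.ext (by simp [hj0, hr, T, S', sK, tK]),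
            map_mul, map_inv, hr]
          simp only [map_mul, map_pow, map_inv, mul_assoc, inv_mul_cancel_left]
          show π a = _
          group
      cent1 := fun a ha => by
        induction a using QuotientGroup.induction_on with
        | H a =>
          refine (hnorm a).2 ?_
          have hay := memK.1 a.2
          rw [jdef] at ha
          obtain ⟨i, hi⟩ := mem_zpowers_iff.1 (eqπ.1
            ((map_mul π ⟨O.co v100, hJK (O.co_J _)⟩ a).trans (ha.symm.trans (map_mul π a _).symm)))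
          obtain ⟨i', hi'⟩ : ∃ i' : Fin 3, (a : G) * P.z * (a : G)⁻¹ = P.z * P.y ^ (i' : ℕ) := by
            refine ⟨⟨(i % 3).toNat, by
              have := Int.emod_lt_of_pos i (show (0 : ℤ) < 3 by norm_num); omega⟩, ?_⟩
            show (a : G) * P.z * (a : G)⁻¹ = P.z * P.y ^ (i % 3).toNat
            have h3 : P.y ^ (i % 3).toNat = P.y ^ i := by
              rw [← zpow_natCast, Int.toNat_of_nonneg (Int.emod_nonneg _ (by norm_num))]
              conv_rhs => rw [← Int.emod_add_mul_ediv i 3]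
              rw [zpow_add, zpow_mul, zpow_ofNat, O.y3, one_zpow, mul_one]
            have hi2 : P.y ^ i = (O.co v100 * (a : G))⁻¹ * ((a : G) * O.co v100) := hi
            rw [h3, hi2, O.co_100]
            have hc : Commute (a : G) (P.y ^ i) := (show Commute (a : G) P.y from hay).zpow_right i
            calc (a : G) * P.z * (a : G)⁻¹
                = P.z * (a : G) * ((P.z * (a : G))⁻¹ * ((a : G) * P.z)) * (a : G)⁻¹ := by group
              _ = P.z * ((a : G) * P.y ^ i) * (a : G)⁻¹ := by rw [hi2, O.co_100]; group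
              _ = _ := by rw [hc.eq, hi2, O.co_100]; group
          have hz2 : P.z * P.y ^ (i' : ℕ) = P.z ^ ((1 + i' : Fin 3) : ℕ) * P.w ^ (i' : ℕ) := by
            rw [y, (show Commute P.z P.w from P.zw).mul_pow, ← mul_assoc, ← pow_succ',
              pow_eq_pow_mod _ P.z3, (by decide : ∀ i : Fin 3, ((i : ℕ) + 1) % 3 = ((1 + i : Fin 3) : ℕ)) i']
          have hzero : i' = 0 := by
            rcases P.type_conj (g := (a : G)) (hi'.trans hz2) with h | h
            · exfalso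
              have hi2 : i' = 2 := succ_zero i' h
              subst hi2
              have h1 : (a : G) * P.w * (a : G)⁻¹ = P.z ^ ((1 : Fin 3) : ℕ) * P.w ^ ((2 : Fin 3) : ℕ) := by
                calc (a : G) * P.w * (a : G)⁻¹ = ((a : G) * P.z * (a : G)⁻¹)⁻¹ * ((a : G) * P.y * (a : G)⁻¹) := by
                      rw [y]; group
                  _ = (P.w ^ 2)⁻¹ * (P.z * P.w) := by
                      rw [hi', hz2, hay, mul_inv_cancel_right, y,
                        show P.z ^ ((1 + 2 : Fin 3) : ℕ) = 1 from pow_zero _, one_mul]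
                      rfl
                  _ = P.w * P.z * P.w := by
                      rw [show (P.w ^ 2)⁻¹ = P.w from inv_eq_of_mul_eq_one_right ((pow_succ _ _).symm.trans P.w3),
                        mul_assoc]
                  _ = P.z * P.w ^ 2 := by rw [← P.zw, pow_two, mul_assoc]
                  _ = _ := by simp
              rcases P.type_conj (g := (a : G) * P.g) (i := 1) (k := 2) (by
                rw [show (a : G) * P.g * P.z * ((a : G) * P.g)⁻¹ = (a : G) * (P.g * P.z * P.g⁻¹) * (a : G)⁻¹ by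
                  group, P.gzg, h1]) with h2 | h2 <;> exact absurd h2 (by decide)
            · exact h
          subst hzero
          have haz : (a : G) * P.z * (a : G)⁻¹ = P.z := by rw [hi']; simp
          have haw : (a : G) * P.w * (a : G)⁻¹ = P.w := by
            calc (a : G) * P.w * (a : G)⁻¹ = ((a : G) * P.z * (a : G)⁻¹)⁻¹ * ((a : G) * P.y * (a : G)⁻¹) := by
                  rw [y]; group
              _ = P.w := by rw [haz, hay, mul_inv_cancel_right, y, inv_mul_cancel_left]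
          obtain ⟨k, hk, e | e⟩ := P.cent_zw hCZ (mul_inv_eq_iff_eq_mul.1 haz) (mul_inv_eq_iff_eq_mul.1 haw)
          · rw [e]; exact C.M_norm (C.JM hk)
          · rw [e]; exact C.M_norm (mul_mem (C.JM hk) P.t_M)
      cent3 := fun a ha => by
        induction a using QuotientGroup.induction_on with
        | H a =>
          have hay := memK.1 a.2
          rw [jdef] at ha
          obtain ⟨k, d, hk0, hζ⟩ := O.diag_point
          set ζ := O.m * P.z * O.m⁻¹
          have hζK : ζ ∈ K := by rw [hζ]; exact mul_mem (hJK (O.co_J _)) (pow_mem (memK.2 rfl) _)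
          have hπζ : π ⟨ζ, hζK⟩ = π ⟨O.co v111, hJK (O.co_J _)⟩ ^ (k : ℕ) := by
            rw [← map_pow, eqπ]
            show ζ⁻¹ * O.co v111 ^ (k : ℕ) ∈ zpowers P.y
            rw [hζ, ← map_pow, mul_inv_rev, inv_mul_cancel_right]
            exact inv_mem (pow_mem (mem_zpowers _) _)
          have hc : Commute (π a) (π ⟨ζ, hζK⟩) := by rw [hπζ]; exact (show Commute _ _ from ha).pow_right _
          obtain ⟨i, hi⟩ := mem_zpowers_iff.1 (eqπ.1
            ((map_mul π ⟨ζ, hζK⟩ a).trans (hc.eq.symm.trans (map_mul π a _).symm)))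
          obtain ⟨i', hi'⟩ : ∃ i' : Fin 3, (a : G) * ζ * (a : G)⁻¹ = ζ * P.y ^ (i' : ℕ) := by
            refine ⟨⟨(i % 3).toNat, by
              have := Int.emod_lt_of_pos i (show (0 : ℤ) < 3 by norm_num); omega⟩, ?_⟩
            show (a : G) * ζ * (a : G)⁻¹ = ζ * P.y ^ (i % 3).toNat
            have h3 : P.y ^ (i % 3).toNat = P.y ^ i := by
              rw [← zpow_natCast, Int.toNat_of_nonneg (Int.emod_nonneg _ (by norm_num))]
              conv_rhs => rw [← Int.emod_add_mul_ediv i 3]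
              rw [zpow_add, zpow_mul, zpow_ofNat, O.y3, one_zpow, mul_one]
            have hi2 : P.y ^ i = (ζ * (a : G))⁻¹ * ((a : G) * ζ) := hi
            have hc : Commute (a : G) (P.y ^ i) := (show Commute (a : G) P.y from hay).zpow_right i
            rw [h3]
            calc (a : G) * ζ * (a : G)⁻¹
                = ζ * (a : G) * ((ζ * (a : G))⁻¹ * ((a : G) * ζ)) * (a : G)⁻¹ := by group
              _ = ζ * ((a : G) * P.y ^ i) * (a : G)⁻¹ := by rw [hi2]; group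
              _ = _ := by rw [hc.eq]; group
          rw [O.shift_point hi', Fin.val_zero, pow_zero, mul_one] at hi'
          obtain ⟨hM, n, hn⟩ := O.cent_point hCZ hay (mul_inv_eq_iff_eq_mul.1 hi')
          set S' : C.M := ⟨O.s, O.s_M⟩
          set n' : Fin 3 := ⟨(n % 3).toNat, by
            have := Int.emod_lt_of_pos n (show (0 : ℤ) < 3 by norm_num); omega⟩
          have hn' : O.σ ^ n = O.σ ^ (n' : ℕ) := by
            show O.σ ^ n = O.σ ^ (n % 3).toNat
            rw [← zpow_natCast, Int.toNat_of_nonneg (Int.emod_nonneg _ (by norm_num))]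
            conv_lhs => rw [← Int.emod_add_mul_ediv n 3]
            rw [zpow_add, zpow_mul, zpow_ofNat, O.σ_three.1, one_zpow, mul_one]
          set j0 : C.M := ⟨a, hM⟩ * (S' ^ (n' : ℕ))⁻¹ with hj0
          have hj0J : (j0 : G) ∈ C.J := (P.psi_ker j0).1 (by
            rw [hj0, map_mul, map_inv, map_pow, hn, hn', show P.psi S' = O.σ from rfl, mul_inv_cancel])
          obtain ⟨u, hu⟩ := (hrange ⟨j0, hJK hj0J⟩).2 hj0J
          refine ⟨u, n', ?_⟩
          rw [hu, show (⟨j0, hJK hj0J⟩ : K) = a * (sK ^ (n' : ℕ))⁻¹ from Subtype.ext (by simp [hj0, S', sK]),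
            map_mul, map_inv, map_pow, inv_mul_cancel_right]
          rfl }
  exact O.norm_y hCZ hy ((hnorm ⟨x, memK.2 hy⟩).1 (B.top _))

end Conf.Pair.Point

end Cfsg.Agent.McLThree
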