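import Cfsg.Agent.Lib.McLThree.Octad
import Cfsg.Agent.Lib.McLThree.Kill
import Cfsg.Agent.Lib.McLThree.CentZW
import Cfsg.Agent.Lib.McLThree.CentYModel

/-!
The normaliser of `J` in the centraliser of `y` when the centraliser of `Z` is larger than `L`.
-/

set_option autoImplicit false
set_option maxRecDepth 20000
set_option maxHeartbeats 1000000
set_option synthInstance.maxSize 4000
set_option synthInstance.maxHeartbeats 400000
set_option linter.style.haveILetI false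
set_option linter.unusedSectionVars false

namespace Cfsg.Agent.McLThree

open Subgroup
open Cfsg.Agent.ThreeTI.Mono (Rot actFn actFn_comp)
open Cfsg.Agent.ThreeTI.Cube (V)

theorem rot4_app : (∀ v : V, rot4 v = v100 ^ v.toAdd.1.val * v0 (app rot2 (v.toAdd.2.1, v.toAdd.2.2))) ∧
    (∀ v : V, v = v100 ^ v.toAdd.1.val * v0 (v.toAdd.2.1, v.toAdd.2.2)) ∧ cmp rot2' neg2 = rot2 ∧
    (∀ m : M2, (m = rot2 ∨ m = rot2') → (cmp m rot2 = one2 ∨ cmp m rot2 = neg2) ∧ m ≠ one2) ∧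
    one2 ≠ rot2 ∧ one2 ≠ rot2' ∧ neg2 ≠ rot2 ∧ neg2 ≠ rot2' := by decide +kernel

theorem outer_model : ∃ q : S8Three.LL, q * S8Three.z0 = S8Three.z0 * q ∧ q * S8Three.w0 = S8Three.w0 * q ∧
    ∀ i k : Fin 3, q ≠ S8Three.z0 ^ (i : ℕ) * S8Three.w0 ^ (k : ℕ) := by
  refine ⟨S8Three.t0, ?_⟩
  decide +kernel

namespace Conf.Pair.Point

variable {G : Type*} [Group G] [Finite G] {C : Conf G} {P : C.Pair} (O : P.Point)
include O

/-- The element centralises `y` and acts on `J/⟨y⟩` by the given map. -/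
def ActV (x : G) (f : V → V) : Prop :=
  x * P.y = P.y * x ∧ ∀ v, ∃ d : ℕ, x * O.co v * x⁻¹ = O.co (f v) * P.y ^ d

theorem actV_mul {x x' : G} {f f' : V → V} (h : O.ActV x f) (h' : O.ActV x' f') :
    O.ActV (x * x') fun v => f (f' v) := by
  refine ⟨((show Commute x P.y from h.1).mul_left h'.1).eq, fun v => ?_⟩
  obtain ⟨d', hd'⟩ := h'.2 v
  obtain ⟨d, hd⟩ := h.2 (f' v)
  refine ⟨d + d', ?_⟩
  rw [show x * x' * O.co v * (x * x')⁻¹ = x * (x' * O.co v * x'⁻¹) * x⁻¹ by group, hd',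
    show x * (O.co (f' v) * P.y ^ d') * x⁻¹ = (x * O.co (f' v) * x⁻¹) * (x * P.y ^ d' * x⁻¹) by group, hd,
    ((show Commute x P.y from h.1).pow_right d').eq, mul_inv_cancel_right, mul_assoc, ← pow_add]

theorem actV_congr {x : G} {f f' : V → V} (h : O.ActV x f) (e : ∀ v, f v = f' v) : O.ActV x f' :=
  ⟨h.1, fun v => e v ▸ h.2 v⟩

theorem actV_J {x : G} (hx : x ∈ C.J) : O.ActV x fun v => v :=
  ⟨C.J_comm _ hx _ P.y_J, fun v => ⟨0, by
    rw [C.J_comm _ hx _ (O.co_J v), mul_inv_cancel_right, pow_zero, mul_one]⟩⟩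

theorem actV_s : O.ActV O.s rot3 := ⟨O.s_y, fun v => ⟨0, by rw [O.s_co, pow_zero, mul_one]⟩⟩

theorem actV_t : O.ActV C.t sgA := ⟨P.y_t.symm, O.t_co⟩

theorem actV_sigma : O.ActV (O.s * C.t * O.s⁻¹) sgB := by
  have e : O.s⁻¹ = O.s * O.s := inv_eq_of_mul_eq_one_right (by
    rw [← mul_assoc, ← pow_two, ← pow_succ, O.s3])
  have h := O.actV_mul (O.actV_mul O.actV_s O.actV_t) (O.actV_mul O.actV_s O.actV_s)
  rw [← e] at h
  exact O.actV_congr h act_basic.1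

theorem actV_pow {x : G} {f : V → V} (h : O.ActV x f) (n : ℕ) : O.ActV (x ^ n) f^[n] := by
  induction n with
  | zero => rw [pow_zero]; exact O.actV_congr (O.actV_J (one_mem _)) fun _ => rfl
  | succ n ih => rw [pow_succ', Function.iterate_succ']; exact O.actV_congr (O.actV_mul h ih) fun _ => rfl

/-- `g₀` differs from `σ` times a power of `t` by an element of `J`. -/
theorem g0_split : ∃ (a : Fin 2) (j : G), j ∈ C.J ∧ P.g0 = C.t ^ (a : ℕ) * (O.s * C.t * O.s⁻¹) * j := by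
  obtain ⟨a, ha⟩ : ∃ a : Fin 2, g6 = t6 ^ (a : ℕ) * (O.σ * t6 * O.σ⁻¹) := by
    rcases O.σ_t with h | h
    · exact ⟨0, by rw [h]; simp⟩
    · refine ⟨1, ?_⟩
      rw [h]
      obtain ⟨-, -, -, -, -, -, htt, -⟩ := six_basic
      simp [← mul_assoc, htt]
  set T : C.M := ⟨C.t, P.t_M⟩
  set S' : C.M := ⟨O.s, O.s_M⟩
  set x : C.M := T ^ (a : ℕ) * (S' * T * S'⁻¹) with hx
  have hj : ((x⁻¹ * ⟨P.g0, P.g0_M⟩ : C.M) : G) ∈ C.J := (P.psi_ker _).1 (by
    rw [map_mul, map_inv, hx, map_mul, map_pow, map_mul, map_mul, map_inv, P.psi_t, P.psi_g0,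
      show P.psi S' = O.σ from rfl, ← ha, inv_mul_cancel])
  refine ⟨a, _, hj, ?_⟩
  have hxG : (x : G) = C.t ^ (a : ℕ) * (O.s * C.t * O.s⁻¹) := by simp [hx, T, S']
  rw [Subgroup.coe_mul, InvMemClass.coe_inv, hxG, mul_inv_cancel_left]

theorem g0_comm_y : P.g0 * P.y = P.y * P.g0 := by
  obtain ⟨a, j, hj, e⟩ := O.g0_split
  rw [e]
  exact (O.actV_mul (O.actV_mul (O.actV_pow O.actV_t _) O.actV_sigma) (O.actV_J hj)).1

/-- An element of the centraliser of `z`, `w` and the involution acting as a rotation of order four. -/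
theorem exists_r4 (hne : ¬ C.CZ ≤ C.L) : ∃ r : G, r * C.t = C.t * r ∧ r * P.z = P.z * r ∧
    r * P.w = P.w * r ∧ r ∈ P.NT ∧ O.wact r = rot2 ∧ O.ActV r rot4 := by
  obtain ⟨Θ, hs, hk, hz0, hw0, -, -⟩ := O.exists_theta_two hne
  obtain ⟨q, hqz, hqw, hq⟩ := outer_model
  obtain ⟨n, hn⟩ := hs q
  have hnt : (n : G) * C.t = C.t * n := (P.mem_NZ.1 n.2).2
  have comm : ∀ d : P.NZ, (d : G) ^ 3 = 1 → (d : G) * C.t = C.t * d → q * Θ d = Θ d * q →
      (n : G) * d = d * n := by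
    intro d hd hdt e
    set c : G := (n : G) * d * (n : G)⁻¹ with hc
    have hc3 : c ^ 3 = 1 := by rw [hc, conj_pow, hd]; group
    rcases (hk (d⁻¹ * (n * d * n⁻¹))).1 (by
      rw [map_mul, map_inv, map_mul, map_mul, map_inv, hn, e, mul_inv_cancel_right, inv_mul_cancel]) with h | h
    · exact mul_inv_eq_iff_eq_mul.1 (inv_mul_eq_one.1 h).symm
    · exfalso
      have h2 : c = (d : G) * C.t := by
        have h' : (d : G)⁻¹ * c = C.t := h
        rw [← h', mul_inv_cancel_left]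
      rw [h2, (show Commute (d : G) C.t from hdt).mul_pow, hd, one_mul, pow_succ, pow_two, C.tt, one_mul] at hc3
      exact C.t_ne hc3
  have hnz : (n : G) * P.z = P.z * n := comm ⟨P.z, P.CL_le_NZ P.z_CL⟩ P.z3 P.z_t (by rw [hz0, hqz])
  have hnw : (n : G) * P.w = P.w * n := comm ⟨P.w, P.CL_le_NZ P.w_CL⟩ P.w3 P.w_t (by rw [hw0, hqw])
  have hNT := P.kernel_NT hnt hnz hnw
  have hrot : O.wact (n : G) = rot2 ∨ O.wact (n : G) = rot2' := by
    rcases O.kernel_two hnt hnz hnw with ⟨i, k, a, e⟩ | h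
    · exfalso
      have hT : Θ ⟨C.t, P.CL_le_NZ P.t_CL⟩ = 1 := (hk _).2 (Or.inr rfl)
      have : n = (⟨P.z, P.CL_le_NZ P.z_CL⟩ : P.NZ) ^ (i : ℕ) * ⟨P.w, P.CL_le_NZ P.w_CL⟩ ^ (k : ℕ) *
          ⟨C.t, P.CL_le_NZ P.t_CL⟩ ^ (a : ℕ) := Subtype.ext (by simpa using e)
      rw [this, map_mul, map_mul, map_pow, map_pow, map_pow, hz0, hw0, hT, one_pow, mul_one] at hn
      exact hq i k hn.symm
    · exact h
  have key : ∀ r : G, r * C.t = C.t * r → r * P.z = P.z * r → r * P.w = P.w * r → r ∈ P.NT →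
      O.wact r = rot2 → O.ActV r rot4 := by
    intro r hrt hrz hrw hrNT hm
    have hry : Commute r P.y := (show Commute r P.z from hrz).mul_right hrw
    refine ⟨hry.eq, fun v => ?_⟩
    set p : V2 := (v.toAdd.2.1, v.toAdd.2.2)
    set a := v.toAdd.1.val
    set e := p.1.val + p.2.val
    set e' := (app rot2 p).1.val + (app rot2 p).2.val
    have h1 : r * O.co (v0 p) * r⁻¹ * P.y ^ e = O.co (v0 (app rot2 p)) * P.y ^ e' := by
      rw [← O.wv_eq, ← hm, ← O.wact_spec hrNT, O.wv_eq,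
        show r * (O.co (v0 p) * P.y ^ e) * r⁻¹ = (r * O.co (v0 p) * r⁻¹) * (r * P.y ^ e * r⁻¹) by group,
        (hry.pow_right e).eq, mul_inv_cancel_right]
    clear_value e e'
    refine ⟨e' + 2 * e, ?_⟩
    rw [rot4_app.1 v, map_mul, map_pow, O.co_100]
    conv_lhs => rw [rot4_app.2.1 v, map_mul, map_pow, O.co_100]
    calc r * (P.z ^ a * O.co (v0 p)) * r⁻¹
        = (r * P.z ^ a * r⁻¹) * (r * O.co (v0 p) * r⁻¹ * P.y ^ e) * (P.y ^ e)⁻¹ := by group
      _ = P.z ^ a * (O.co (v0 (app rot2 p)) * P.y ^ e') * (P.y ^ e)⁻¹ := by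
          rw [h1, ((show Commute r P.z from hrz).pow_right a).eq, mul_inv_cancel_right]
      _ = P.z ^ a * O.co (v0 (app rot2 p)) * P.y ^ (e' + 2 * e) := by
          have hye : (P.y ^ e)⁻¹ = P.y ^ (2 * e) := inv_eq_of_mul_eq_one_right (by
            rw [← pow_add, show e + 2 * e = 3 * e by ring, pow_mul, O.y3, one_pow])
          rw [hye, pow_add]; simp only [mul_assoc]
  rcases hrot with h | h
  · exact ⟨n, hnt, hnz, hnw, hNT, h, key n hnt hnz hnw hNT h⟩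
  · have c1 : ((n : G) * C.t) * C.t = C.t * ((n : G) * C.t) :=
      ((show Commute (n : G) C.t from hnt).mul_left (Commute.refl _)).eq
    have c2 : ((n : G) * C.t) * P.z = P.z * ((n : G) * C.t) :=
      ((show Commute (n : G) P.z from hnz).mul_left (P.z_t.symm : Commute C.t P.z)).eq
    have c3 : ((n : G) * C.t) * P.w = P.w * ((n : G) * C.t) :=
      ((show Commute (n : G) P.w from hnw).mul_left (P.w_t.symm : Commute C.t P.w)).eq
    have c4 : (n : G) * C.t ∈ P.NT := mul_mem hNT P.t_NT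
    have c5 : O.wact ((n : G) * C.t) = rot2 := by rw [O.wact_mul hNT P.t_NT, h, O.wact_t, rot4_app.2.2.1]
    exact ⟨_, c1, c2, c3, c4, c5, key _ c1 c2 c3 c4 c5⟩

/-- The group of the elements centralising `y` and inducing rotations. -/
def AY : Subgroup G where
  carrier := {x | ∃ q : Rot, O.ActV x (actFn q)}
  one_mem' := ⟨1, O.actV_congr (O.actV_J (one_mem _)) fun v => (rot_one.1 v).symm⟩
  mul_mem' := by
    rintro x x' ⟨q, hq⟩ ⟨q', hq'⟩
    exact ⟨q * q', O.actV_congr (O.actV_mul hq hq') fun v => (actFn_comp q q' v).symm⟩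
  inv_mem' := by
    rintro x ⟨q, hq, h⟩
    refine ⟨q⁻¹, (show Commute x P.y from hq).inv_left.eq, fun v => ?_⟩
    obtain ⟨d, hd⟩ := h (actFn q⁻¹ v)
    rw [← actFn_comp, mul_inv_cancel, rot_one.1] at hd
    refine ⟨2 * d, ?_⟩
    have hc : ∀ n : ℕ, x⁻¹ * P.y ^ n * x = P.y ^ n := fun n => by
      rw [((show Commute x P.y from hq).inv_left.pow_right n).eq, inv_mul_cancel_right]
    calc x⁻¹ * O.co v * x⁻¹⁻¹ = x⁻¹ * (O.co v * P.y ^ d) * x * P.y ^ (2 * d) := by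
          rw [show x⁻¹ * (O.co v * P.y ^ d) * x = (x⁻¹ * O.co v * x) * (x⁻¹ * P.y ^ d * x) by group, hc,
            mul_assoc (x⁻¹ * O.co v * x), ← pow_add, show d + 2 * d = 3 * d by ring, pow_mul, O.y3, one_pow,
            mul_one, inv_inv]
      _ = _ := by rw [← hd]; group

theorem AY_gen : O.s ∈ O.AY ∧ C.t ∈ O.AY ∧ C.J ≤ O.AY ∧ P.g0 ∈ O.AY := by
  obtain ⟨⟨qA, hA⟩, -, ⟨q3, h3⟩, -⟩ := rot_gens
  have hs : O.s ∈ O.AY := ⟨q3, O.actV_congr O.actV_s fun v => (h3 v).symm⟩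
  have ht : C.t ∈ O.AY := ⟨qA, O.actV_congr O.actV_t fun v => (hA v).symm⟩
  have hJ : C.J ≤ O.AY := fun x hx => ⟨1, O.actV_congr (O.actV_J hx) fun v => (rot_one.1 v).symm⟩
  obtain ⟨a, j, hj, e⟩ := O.g0_split
  exact ⟨hs, ht, hJ, e ▸ mul_mem (mul_mem (pow_mem ht _) (mul_mem (mul_mem hs ht) (inv_mem hs))) (hJ hj)⟩

/-- Conjugates `z y^i` of `z` under the centraliser of `y` are trivial shifts. -/
theorem z_shift {x : G} (hy : x * P.y = P.y * x) {d : ℕ} (h : x * P.z * x⁻¹ = P.z * P.y ^ d) :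
    x * P.z = P.z * x ∧ x * P.w = P.w * x := by
  obtain ⟨i, hi'⟩ : ∃ i : Fin 3, x * P.z * x⁻¹ = P.z * P.y ^ (i : ℕ) :=
    ⟨⟨d % 3, Nat.mod_lt _ (by norm_num)⟩, by rw [h, pow_eq_pow_mod d O.y3]⟩
  have hz2 : P.z * P.y ^ (i : ℕ) = P.z ^ ((1 + i : Fin 3) : ℕ) * P.w ^ (i : ℕ) := by
    rw [y, (show Commute P.z P.w from P.zw).mul_pow, ← mul_assoc, ← pow_succ',
      pow_eq_pow_mod _ P.z3, (by decide : ∀ i : Fin 3, ((i : ℕ) + 1) % 3 = ((1 + i : Fin 3) : ℕ)) i]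
  have hzero : i = 0 := by
    rcases P.type_conj (g := x) (hi'.trans hz2) with h | h
    · exfalso
      have hi2 : i = 2 := succ_zero i h
      subst hi2
      have h1 : x * P.w * x⁻¹ = P.z ^ ((1 : Fin 3) : ℕ) * P.w ^ ((2 : Fin 3) : ℕ) := by
        calc x * P.w * x⁻¹ = (x * P.z * x⁻¹)⁻¹ * (x * P.y * x⁻¹) := by rw [y]; group
          _ = (P.w ^ 2)⁻¹ * (P.z * P.w) := by
              rw [hi', hz2, hy, mul_inv_cancel_right, y,
                show P.z ^ ((1 + 2 : Fin 3) : ℕ) = 1 from pow_zero _, one_mul]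
              rfl
          _ = P.w * P.z * P.w := by
              rw [show (P.w ^ 2)⁻¹ = P.w from inv_eq_of_mul_eq_one_right ((pow_succ _ _).symm.trans P.w3),
                mul_assoc]
          _ = P.z * P.w ^ 2 := by rw [← P.zw, pow_two, mul_assoc]
          _ = _ := by simp
      rcases P.type_conj (g := x * P.g) (i := 1) (k := 2) (by
        rw [show x * P.g * P.z * (x * P.g)⁻¹ = x * (P.g * P.z * P.g⁻¹) * x⁻¹ by group, P.gzg, h1]) with h2 | h2 <;>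
        exact absurd h2 (by decide)
    · exact h
  subst hzero
  have hz : x * P.z * x⁻¹ = P.z := by rw [hi']; simp
  refine ⟨mul_inv_eq_iff_eq_mul.1 hz, mul_inv_eq_iff_eq_mul.1 ?_⟩
  calc x * P.w * x⁻¹ = (x * P.z * x⁻¹)⁻¹ * (x * P.y * x⁻¹) := by rw [y]; group
    _ = P.w := by rw [hz, hy, mul_inv_cancel_right, y, inv_mul_cancel_left]

/-- Elements acting trivially on `J/⟨y⟩` lie in `J`. -/
theorem actV_one {x : G} (h : O.ActV x fun v => v) : x ∈ C.J := by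
  obtain ⟨d, hd⟩ := h.2 v100
  rw [O.co_100] at hd
  obtain ⟨hz, hw⟩ := O.z_shift h.1 hd
  obtain ⟨i, hi, k, rfl, hkt, hkz, hkw⟩ := P.cent_zw_decomp hz hw
  refine mul_mem hi ?_
  have hk : O.ActV k fun v => v := by
    have := O.actV_mul (O.actV_J (inv_mem hi)) h
    rwa [inv_mul_cancel_left] at this
  rcases O.kernel_two hkt hkz hkw with ⟨p, r, a, rfl⟩ | hrot
  · have hD : P.z ^ (p : ℕ) * P.w ^ (r : ℕ) ∈ C.J := mul_mem (pow_mem P.z_J _) (pow_mem P.w_J _)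
    have ht := O.actV_mul (O.actV_J (inv_mem hD)) hk
    rw [inv_mul_cancel_left] at ht
    fin_cases a
    · simpa using hD
    · exfalso
      refine four_distinct.2.2.2.2.1 fun v => ?_
      obtain ⟨c, hc⟩ := ht.2 v
      obtain ⟨c', hc'⟩ := O.t_co v
      simp only [Fin.mk_one, Fin.val_one, pow_one] at hc
      exact O.co_inj_mod (hc'.symm.trans hc)
  · exfalso
    have hNT := P.kernel_NT hkt hkz hkw
    obtain ⟨c, hc⟩ := hk.2 (v0 (1, 0))
    have e := O.wact_spec hNT (1, 0)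
    rw [O.wv_eq, O.wv_eq, show ∀ n : ℕ, k * (O.co (v0 (1, 0)) * P.y ^ n) * k⁻¹ =
      (k * O.co (v0 (1, 0)) * k⁻¹) * (k * P.y ^ n * k⁻¹) from fun n => by group, hc,
      ((show Commute k P.y from hk.1).pow_right _).eq, mul_inv_cancel_right, mul_assoc, ← pow_add] at e
    have e1 := v0_inj _ _ (O.co_inj_mod e)
    rcases hrot with e' | e' <;> rw [e'] at e1 <;> revert e1 <;> decide +kernel

/-- The elements also centralising the involution. -/
theorem mem_AY_t (hne : ¬ C.CZ ≤ C.L) {u : G} (hut : u * C.t = C.t * u) (huy : u * P.y = P.y * u)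
    (huJ : u ∈ normalizer (C.J : Set G)) : u ∈ O.AY := by
  obtain ⟨hsA, htA, hJA, hgA⟩ := O.AY_gen
  set ζ := u * P.z * u⁻¹ with hζ
  have hζJ : ζ ∈ C.J := (mem_normalizer_iff.1 huJ _).1 P.z_J
  have hζt : ζ * C.t = C.t * ζ :=
    (((show Commute u C.t from hut).mul_left (show Commute P.z C.t from P.z_t)).mul_left
      (show Commute u C.t from hut).inv_left).eq
  obtain ⟨a, b, hab⟩ := P.D_cases hζJ hζt
  have hw : u * P.w * u⁻¹ = P.z ^ ((1 - a : Fin 3) : ℕ) * P.w ^ ((1 - b : Fin 3) : ℕ) := by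
    have h1 : u * P.w * u⁻¹ = ζ⁻¹ * P.y := by
      calc u * P.w * u⁻¹ = (u * P.z * u⁻¹)⁻¹ * (u * P.y * u⁻¹) := by rw [y]; group
        _ = _ := by rw [huy, mul_inv_cancel_right]
    have e : ∀ u : G, u ^ 3 = 1 → ∀ i : Fin 3, u ^ ((1 - i : Fin 3) : ℕ) = (u ^ (i : ℕ))⁻¹ * u := by
      intro u hu i
      rw [eq_inv_mul_iff_mul_eq, ← pow_add, pow_eq_pow_mod _ hu,
        (by decide : ∀ i : Fin 3, ((i : ℕ) + ((1 - i : Fin 3) : ℕ)) % 3 = 1) i, pow_one]
    rw [h1, hab, e _ P.z3, e _ P.w3, y]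
    have c1 : Commute (P.w ^ (b : ℕ))⁻¹ (P.z ^ (a : ℕ))⁻¹ :=
      ((show Commute P.w P.z from P.zw.symm).pow_pow _ _).inv_inv
    have c2 : Commute (P.w ^ (b : ℕ))⁻¹ P.z := ((show Commute P.w P.z from P.zw.symm).pow_left _).inv_left
    rw [mul_inv_rev]
    calc (P.w ^ (b : ℕ))⁻¹ * (P.z ^ (a : ℕ))⁻¹ * (P.z * P.w)
        = (P.w ^ (b : ℕ))⁻¹ * ((P.z ^ (a : ℕ))⁻¹ * P.z) * P.w := by group
      _ = (P.z ^ (a : ℕ))⁻¹ * P.z * (P.w ^ (b : ℕ))⁻¹ * P.w := by rw [(c1.mul_right c2).eq]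
      _ = _ := by group
  have t1 := P.type_conj hab
  have t2 := P.type_conj (g := u * P.g) (i := 1 - a) (k := 1 - b) (by
    rw [show u * P.g * P.z * (u * P.g)⁻¹ = u * (P.g * P.z * P.g⁻¹) * u⁻¹ by group, P.gzg, hw])
  have hcases : (a = 1 ∧ b = 0) ∨ (a = 0 ∧ b = 1) := by
    exact two_types a b t1 t2
  obtain ⟨r, hrt, hrz, hrw, hrNT, hr2, hr⟩ := O.exists_r4 hne
  obtain ⟨-, -, -, q4, h4⟩ := rot_gens
  have hrA : r ∈ O.AY := ⟨q4, O.actV_congr hr fun v => (h4 v).symm⟩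
  have hDA : ∀ i k : Fin 3, ∀ a : Fin 2, P.z ^ (i : ℕ) * P.w ^ (k : ℕ) * C.t ^ (a : ℕ) ∈ O.AY := fun i k a =>
    mul_mem (mul_mem (pow_mem (hJA P.z_J) _) (pow_mem (hJA P.w_J) _)) (pow_mem htA _)
  have key : ∀ n : G, n * C.t = C.t * n → n * P.y = P.y * n → n * P.z * n⁻¹ = P.z → n ∈ O.AY := by
    intro n hnt hny hnz'
    have hnz := mul_inv_eq_iff_eq_mul.1 hnz'
    have hnw : n * P.w = P.w * n := mul_inv_eq_iff_eq_mul.1 (by
      calc n * P.w * n⁻¹ = (n * P.z * n⁻¹)⁻¹ * (n * P.y * n⁻¹) := by rw [y]; group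
        _ = P.w := by rw [hnz', hny, mul_inv_cancel_right, y, inv_mul_cancel_left])
    rcases O.kernel_two hnt hnz hnw with ⟨i, k, a, rfl⟩ | hm
    · exact hDA i k a
    · have c1 : n * r * C.t = C.t * (n * r) := ((show Commute n C.t from hnt).mul_left hrt).eq
      have c2 : n * r * P.z = P.z * (n * r) := ((show Commute n P.z from hnz).mul_left hrz).eq
      have c3 : n * r * P.w = P.w * (n * r) := ((show Commute n P.w from hnw).mul_left hrw).eq
      rcases O.kernel_two c1 c2 c3 with ⟨i, k, a, e⟩ | hm'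
      · have := mul_mem (hDA i k a) (inv_mem hrA)
        rwa [← e, mul_inv_cancel_right] at this
      · exfalso
        rw [O.wact_mul (P.kernel_NT hnt hnz hnw) hrNT, hr2] at hm'
        rcases (rot4_app.2.2.2.1 _ hm).1 with e | e <;> rw [e] at hm'
        · exact hm'.elim rot4_app.2.2.2.2.1 rot4_app.2.2.2.2.2.1
        · exact hm'.elim rot4_app.2.2.2.2.2.2.1 rot4_app.2.2.2.2.2.2.2
  rcases hcases with ⟨rfl, rfl⟩ | ⟨rfl, rfl⟩
  · exact key u hut huy (by rw [← hζ, hab]; simp)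
  · have := mul_mem (inv_mem hgA) (key (P.g0 * u) ((show Commute P.g0 C.t from P.g0_t).mul_left hut).eq
      ((show Commute P.g0 P.y from O.g0_comm_y).mul_left huy).eq (by
        rw [show P.g0 * u * P.z * (P.g0 * u)⁻¹ = P.g0 * (u * P.z * u⁻¹) * P.g0⁻¹ by group, ← hζ, hab]
        simp [P.g0_w]))
    rwa [inv_mul_cancel_left] at this

/-- The elements of the normaliser of `J` centralising `y` induce rotations. -/
theorem mem_AY (hne : ¬ C.CZ ≤ C.L) {x : G} (hy : x * P.y = P.y * x) (hJ : x ∈ normalizer (C.J : Set G)) :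
    x ∈ O.AY := by
  obtain ⟨hsA, htA, hJA, hgA⟩ := O.AY_gen
  obtain ⟨-, -, -, -, -, -, htt, ht1, -⟩ := six_basic
  set T : C.M := ⟨C.t, P.t_M⟩ with hT
  set t' : C.M := ⟨x * C.t * x⁻¹, C.M_normal hJ P.t_M⟩ with ht'
  have hp : P.psi t' ∈ O.U := O.mem_U.2 ⟨t', by
    show x * C.t * x⁻¹ * P.y = P.y * (x * C.t * x⁻¹)
    exact (((show Commute x P.y from hy).mul_left (show Commute C.t P.y from P.y_t.symm)).mul_left
      (show Commute x P.y from hy).inv_left).eq, rfl⟩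
  have hp2 : P.psi t' * P.psi t' = 1 := by
    rw [← map_mul, show t' * t' = 1 from Subtype.ext (by
      show x * C.t * x⁻¹ * (x * C.t * x⁻¹) = 1
      calc x * C.t * x⁻¹ * (x * C.t * x⁻¹) = x * (C.t * C.t) * x⁻¹ := by group
        _ = 1 := by rw [C.tt]; group), map_one]
  have hp1 : P.psi t' ≠ 1 := fun h => C.t_ne (by
    have h3 := C.J_exp _ ((P.psi_ker t').1 h)
    have : x * C.t * x⁻¹ = 1 := by
      have e : x * C.t * x⁻¹ = (x * C.t * x⁻¹) ^ 3 := by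
        rw [conj_pow, pow_succ, pow_two, C.tt, one_mul]
      rw [e, h3]
    exact conj_eq_one_iff.1 this)
  obtain ⟨k, hk⟩ : ∃ k : ℕ, O.σ ^ k * t6 * (O.σ ^ k)⁻¹ = P.psi t' := by
    rcases (O.U_two hp hp2).resolve_left hp1 with h | h | h
    · exact ⟨0, by rw [h]; simp⟩
    · rcases O.σ_cyclic with ⟨ha, -⟩ | ⟨ha, hb⟩
      · exact ⟨1, by rw [pow_one, ha, h]⟩
      · refine ⟨2, ?_⟩
        rw [h, pow_two, show O.σ * O.σ * t6 * (O.σ * O.σ)⁻¹ = O.σ * (O.σ * t6 * O.σ⁻¹) * O.σ⁻¹ by group, ha,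
          show O.σ * (t6 * g6) * O.σ⁻¹ = (O.σ * t6 * O.σ⁻¹) * (O.σ * g6 * O.σ⁻¹) by group, ha, hb]
        decide +kernel
    · rcases O.σ_cyclic with ⟨ha, hb⟩ | ⟨ha, -⟩
      · refine ⟨2, ?_⟩
        rw [h, pow_two, show O.σ * O.σ * t6 * (O.σ * O.σ)⁻¹ = O.σ * (O.σ * t6 * O.σ⁻¹) * O.σ⁻¹ by group, ha, hb]
      · exact ⟨1, by rw [pow_one, ha, h]⟩
  set S' : C.M := ⟨O.s, O.s_M⟩ with hS
  set x' := (O.s ^ k)⁻¹ * x with hx'
  have hx'y : x' * P.y = P.y * x' :=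
    (((show Commute O.s P.y from O.s_y).pow_left k).inv_left.mul_left (show Commute x P.y from hy)).eq
  have hx'J : x' ∈ normalizer (C.J : Set G) := mul_mem (inv_mem (pow_mem O.s_norm _)) hJ
  set j : C.M := (S' ^ k)⁻¹ * t' * S' ^ k * T⁻¹ with hj
  have hjJ : (j : G) ∈ C.J := (P.psi_ker j).1 (by
    rw [hj, map_mul, map_mul, map_mul, map_inv, map_inv, map_pow, P.psi_t, ← hk, show P.psi S' = O.σ from rfl]
    group)
  have hx't : x' * C.t * x'⁻¹ = (j : G) * C.t := by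
    rw [hj]
    show x' * C.t * x'⁻¹ = (O.s ^ k)⁻¹ * (x * C.t * x⁻¹) * O.s ^ k * C.t⁻¹ * C.t
    rw [hx']; group
  have hjt : ((j : G) * C.t) * ((j : G) * C.t) = 1 := by
    rw [← hx't, show x' * C.t * x'⁻¹ * (x' * C.t * x'⁻¹) = x' * (C.t * C.t) * x'⁻¹ by group, C.tt, mul_one,
      mul_inv_cancel]
  have hroot := root_conj P hjt C.tt (by rw [mul_assoc, C.tt, mul_one]; exact hjJ)
  rw [mul_assoc (j : G) C.t C.t, C.tt, mul_one] at hroot
  set x'' := (j : G) * x' with hx''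
  have hx''t : x'' * C.t = C.t * x'' := mul_inv_eq_iff_eq_mul.1 (by
    rw [hx'', show (j : G) * x' * C.t * ((j : G) * x')⁻¹ = (j : G) * (x' * C.t * x'⁻¹) * (j : G)⁻¹ by group, hx't,
      hroot])
  have hx''y : x'' * P.y = P.y * x'' :=
    ((show Commute (j : G) P.y from C.J_comm _ hjJ _ P.y_J).mul_left (show Commute x' P.y from hx'y)).eq
  have hx''J : x'' ∈ normalizer (C.J : Set G) := mul_mem (C.M_norm (C.JM hjJ)) hx'J
  suffices hgoal : x'' ∈ O.AY by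
    have h1 := mul_mem (inv_mem (hJA hjJ)) hgoal
    rw [hx'', inv_mul_cancel_left, hx'] at h1
    have := mul_mem (pow_mem hsA k) h1
    rwa [mul_inv_cancel_left] at this
  exact O.mem_AY_t hne hx''t hx''y hx''J

end Conf.Pair.Point

end Cfsg.Agent.McLThree
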