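import Cfsg.Agent.Lib.McLThree.Nz

/-!
The centraliser of the involution modulo the involution.
-/

set_option autoImplicit false
set_option maxRecDepth 20000
set_option maxHeartbeats 1000000
set_option synthInstance.maxSize 4000
set_option synthInstance.maxHeartbeats 400000
set_option linter.style.haveILetI false
set_option linter.unusedSectionVars false

namespace Cfsg.Agent.McLThree

open Subgroup

namespace Conf

variable {G : Type*} [Group G] [Finite G] (C : Conf G)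
include C

/-- The centraliser of the involution. -/
def Ct : Subgroup G := centralizer ({C.t} : Set G)

theorem mem_Ct {x : G} : x ∈ C.Ct ↔ x * C.t = C.t * x := mem_centralizer_singleton_iff

theorem t_Ct : C.t ∈ C.Ct := C.mem_Ct.2 rfl

/-- The group generated by the involution. -/
noncomputable def Tt : Subgroup C.Ct := (zpowers C.t).subgroupOf C.Ct

omit C in
instance Tt_normal (C : Conf G) : C.Tt.Normal := ⟨fun n hn g => by
  refine mem_subgroupOf.2 ?_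
  obtain ⟨i, hi⟩ := mem_zpowers_iff.1 (mem_subgroupOf.1 hn)
  show (g : G) * (n : G) * (g : G)⁻¹ ∈ zpowers C.t
  rw [← hi, ((show Commute (g : G) C.t from C.mem_Ct.1 g.2).zpow_right i).eq, mul_inv_cancel_right]
  exact zpow_mem (mem_zpowers _) _⟩

/-- The centraliser of the involution modulo the involution. -/
abbrev Xt : Type _ := C.Ct ⧸ C.Tt

/-- The projection. -/
noncomputable def qt : C.Ct →* C.Xt := QuotientGroup.mk' C.Tt

theorem qt_surj : Function.Surjective C.qt := QuotientGroup.mk'_surjective _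

theorem t_pow_cases {x : G} : x ∈ zpowers C.t ↔ x = 1 ∨ x = C.t := by
  constructor
  · intro hx
    obtain ⟨i, rfl⟩ := mem_zpowers_iff.1 hx
    rcases Int.even_or_odd' i with ⟨k, rfl | rfl⟩
    · left; rw [zpow_mul, zpow_two, C.tt, one_zpow]
    · right; rw [zpow_add, zpow_mul, zpow_two, C.tt, one_zpow, one_mul, zpow_one]
  · rintro (rfl | rfl)
    · exact one_mem _
    · exact mem_zpowers _

theorem qt_one {a : C.Ct} : C.qt a = 1 ↔ (a : G) = 1 ∨ (a : G) = C.t := by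
  rw [qt, QuotientGroup.mk'_apply, QuotientGroup.eq_one_iff, Tt, mem_subgroupOf, C.t_pow_cases]

theorem qt_eq {a b : C.Ct} : C.qt a = C.qt b ↔ (b : G) = a ∨ (b : G) = a * C.t := by
  rw [← inv_mul_eq_one, ← map_inv, ← map_mul, C.qt_one]
  show (a : G)⁻¹ * b = 1 ∨ (a : G)⁻¹ * b = C.t ↔ _
  rw [inv_mul_eq_one, inv_mul_eq_iff_eq_mul]
  exact ⟨fun h => h.imp Eq.symm id, fun h => h.imp Eq.symm id⟩

theorem card_Tt : Nat.card C.Tt = 2 := by
  rw [Tt, Nat.card_congr (subgroupOfEquivOfLe (zpowers_le.2 C.t_Ct)).toEquiv, Nat.card_zpowers]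
  exact orderOf_eq_prime (by rw [pow_two, C.tt]) C.t_ne

theorem card_Ct : Nat.card C.Ct = 2 * Nat.card C.Xt := by
  rw [card_eq_card_quotient_mul_card_subgroup C.Tt, C.card_Tt, mul_comm]

theorem card_comap (H : Subgroup C.Xt) : Nat.card (H.comap C.qt) = 2 * Nat.card H := by
  have h1 := (H.comap C.qt).card_mul_index
  rw [index_comap_of_surjective H C.qt_surj, C.card_Ct, ← H.card_mul_index] at h1
  refine Nat.eq_of_mul_eq_mul_right (Nat.pos_of_ne_zero (index_ne_zero_of_finite (H := H))) ?_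
  linarith

theorem t_central (a : C.Ct) : Commute (a : G) C.t := C.mem_Ct.1 a.2

/-- Conjugacy of elements of order three can be read modulo the involution. -/
theorem qt_conj_three {a d d' : C.Ct} (hd : (d : G) ^ 3 = 1) (hd' : (d' : G) ^ 3 = 1)
    (h : C.qt a * C.qt d * (C.qt a)⁻¹ = C.qt d') : (a : G) * d * (a : G)⁻¹ = d' := by
  rw [← map_inv, ← map_mul, ← map_mul, eq_comm, C.qt_eq] at h
  rcases h with h | h
  · exact h
  · exfalso
    have h' : (a : G) * d * (a : G)⁻¹ = (d' : G) * C.t := h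
    have h3 : ((a : G) * d * (a : G)⁻¹) ^ 3 = 1 := by rw [conj_pow, hd, mul_one, mul_inv_cancel]
    rw [h', (C.t_central d').mul_pow, hd', one_mul, pow_succ, pow_two, C.tt, one_mul] at h3
    exact C.t_ne h3

theorem qt_comm_three {a d : C.Ct} (hd : (d : G) ^ 3 = 1) (h : C.qt a * C.qt d = C.qt d * C.qt a) :
    (a : G) * d = d * a :=
  mul_inv_eq_iff_eq_mul.1 (C.qt_conj_three hd hd (by rw [h, mul_inv_cancel_right]))

theorem qt_inj_three {d d' : C.Ct} (hd : (d : G) ^ 3 = 1) (hd' : (d' : G) ^ 3 = 1) (h : C.qt d = C.qt d') :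
    (d : G) = d' := by
  simpa using C.qt_conj_three (a := 1) hd hd' (by simpa using h)

end Conf

namespace Conf.Pair

variable {G : Type*} [Group G] [Finite G] {C : Conf G} (P : C.Pair)
include P

theorem z_Ct : P.z ∈ C.Ct := C.mem_Ct.2 P.z_t

theorem w_Ct : P.w ∈ C.Ct := C.mem_Ct.2 P.w_t

theorem NZ_Ct : P.NZ ≤ C.Ct := fun _ hx => C.mem_Ct.2 (P.mem_NZ.1 hx).2

/-- The preimage of the normaliser of `⟨z⟩`. -/
theorem mem_norm_z {a : C.Ct} :
    C.qt a ∈ normalizer (zpowers (C.qt ⟨P.z, P.z_Ct⟩) : Set C.Xt) ↔ (a : G) ∈ P.NZ := by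
  rw [mem_normalizer_iff_map_conj_eq, MonoidHom.map_zpowers, P.mem_NZ]
  constructor
  · intro h
    refine ⟨C.norm_Z_of P.z_mem P.z_ne ?_, C.mem_Ct.1 a.2⟩
    obtain ⟨i, hi⟩ := mem_zpowers_iff.1 (h.le (mem_zpowers _))
    have hz3 : ((⟨P.z, P.z_Ct⟩ : C.Ct) : G) ^ 3 = 1 := P.z3
    have hi3 : (((⟨P.z, P.z_Ct⟩ : C.Ct) ^ i : C.Ct) : G) ^ 3 = 1 := by
      show (P.z ^ i) ^ 3 = 1
      rw [← zpow_natCast (P.z ^ i), ← zpow_mul, mul_comm, zpow_mul, zpow_natCast, P.z3, one_zpow]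
    have h2 := C.qt_conj_three (a := a) hz3 hi3 (by
      rw [map_zpow]; exact (hi.trans (by rfl)).symm)
    rw [show (a : G) * P.z * (a : G)⁻¹ = P.z ^ i from h2]
    exact zpow_mem P.z_mem _
  · rintro ⟨h, -⟩
    show zpowers (C.qt a * C.qt ⟨P.z, P.z_Ct⟩ * (C.qt a)⁻¹) = _
    rw [← map_inv, ← map_mul, ← map_mul]
    rcases C.Z_cases P.z_mem P.z_ne (C.conj_Z h P.z_mem) with e | e | e
    · exact absurd (conj_eq_one_iff.1 e) P.z_ne
    · rw [show a * ⟨P.z, P.z_Ct⟩ * a⁻¹ = (⟨P.z, P.z_Ct⟩ : C.Ct) from Subtype.ext e]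
    · rw [show a * ⟨P.z, P.z_Ct⟩ * a⁻¹ = (⟨P.z, P.z_Ct⟩ : C.Ct)⁻¹ from Subtype.ext e, map_inv, zpowers_inv]

/-- The involution exchanging `z` and `w`. -/
def g0 : G := P.g * P.g * P.g

theorem g_g_D : P.g * P.g ∈ P.D :=
  ⟨P.g_g, ((show Commute P.g C.t from P.g_t).mul_left P.g_t).eq⟩

theorem g0_t : P.g0 * C.t = C.t * P.g0 :=
  (((show Commute P.g C.t from P.g_t).mul_left P.g_t).mul_left P.g_t).eq

theorem g0_Ct : P.g0 ∈ C.Ct := C.mem_Ct.2 P.g0_t

theorem g0_sq : P.g0 * P.g0 = 1 := by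
  have h := C.J_exp _ P.g_g
  rw [g0, show P.g * P.g * P.g * (P.g * P.g * P.g) = (P.g * P.g) ^ 3 by simp only [pow_succ, pow_zero]; group, h]

theorem g0_inv : P.g0⁻¹ = P.g0 := inv_eq_of_mul_eq_one_right P.g0_sq

theorem g0_z : P.g0 * P.z * P.g0⁻¹ = P.w := by
  calc P.g0 * P.z * P.g0⁻¹ = P.g * ((P.g * P.g) * P.z * (P.g * P.g)⁻¹) * P.g⁻¹ := by rw [g0]; group
    _ = P.w := by rw [C.J_comm _ P.g_g _ P.z_J, mul_inv_cancel_right, P.gzg]

theorem g0_w : P.g0 * P.w * P.g0⁻¹ = P.z := by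
  calc P.g0 * P.w * P.g0⁻¹ = P.g * ((P.g * P.g) * P.w * (P.g * P.g)⁻¹) * P.g⁻¹ := by rw [g0]; group
    _ = P.z := by rw [C.J_comm _ P.g_g _ P.w_J, mul_inv_cancel_right, P.gwg]

theorem g0_M : P.g0 ∈ C.M := mul_mem (mul_mem P.g_mem P.g_mem) P.g_mem

theorem psi_g0 : P.psi ⟨P.g0, P.g0_M⟩ = g6 := by
  rw [show (⟨P.g0, P.g0_M⟩ : C.M) = ⟨P.g * P.g, C.JM P.g_g⟩ * ⟨P.g, P.g_mem⟩ from rfl, map_mul,
    (P.psi_ker ⟨P.g * P.g, C.JM P.g_g⟩).2 P.g_g, one_mul, P.psi_g]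

theorem g0_e : ∃ d ∈ P.D, P.g0 * P.e * P.g0⁻¹ = d * P.e' * d⁻¹ :=
  ⟨P.g * P.g, P.g_g_D, by rw [g0, e']; group⟩

theorem y_Ct : P.y ∈ C.Ct := C.mem_Ct.2 P.y_t

end Conf.Pair

end Cfsg.Agent.McLThree
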