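import Cfsg.Agent.Lib.McLThree.Two
import Cfsg.Agent.Lib.McLThree.Quo
import Cfsg.Agent.Lib.S8Three.Setup
import Cfsg.Agent.Lib.S8Three.Basic

/-!
When the centraliser of `Z` is larger than `L`, the centraliser of the involution modulo the
involution is a configuration for `Sym(8)` of the twisted type.
-/

set_option autoImplicit false
set_option maxRecDepth 20000
set_option maxHeartbeats 1000000
set_option synthInstance.maxSize 4000
set_option synthInstance.maxHeartbeats 400000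
set_option linter.style.haveILetI false
set_option linter.unusedSectionVars false

namespace Cfsg.Agent.McLThree

open Subgroup Equiv
open Cfsg.Agent.S8Three (LL z0 w0 y0 t0 tau0 i0 j0 jt0 Dm)

scoped instance (priority := high) decBAll' {α : Type} {p : α → Prop} [DecidablePred p] (l : List α) :
    Decidable (∀ x ∈ l, p x) := List.decidableBAll p l

theorem invol_e : ∀ q : LL, q * q = 1 → q * z0 = z0 * q → q * w0 * q⁻¹ = w0⁻¹ → Perm.sign q.2 = 1 →
    ∃ k : Fin 3, q = w0 ^ (k : ℕ) * i0 * (w0 ^ (k : ℕ))⁻¹ := by decide +kernel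

theorem z0_i0 : (∀ k : Fin 3, Perm.sign (z0 ^ (k : ℕ) * j0 * (z0 ^ (k : ℕ))⁻¹).2 = 1) ∧
    jt0 * t0 = j0 ∧ tau0 * t0 = i0 ∧ y0 = z0 * w0 := by decide +kernel

theorem norm_y_table : ∀ q : LL, (q * y0 * q⁻¹ = y0 ∨ q * y0 * q⁻¹ = y0 * y0) →
    ∃ (i k : Fin 3) (l m n : Fin 2),
      q = z0 ^ (i : ℕ) * w0 ^ (k : ℕ) * t0 ^ (l : ℕ) * tau0 ^ (m : ℕ) * j0 ^ (n : ℕ) ∧
      q * q ∈ Dm ∧
      (w0 ^ (i : ℕ) * z0 ^ (k : ℕ) * t0 ^ (l : ℕ) * j0 ^ (m : ℕ) * tau0 ^ (n : ℕ)) * q ∈ Dm ∧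
      ∀ d ∈ [z0, w0], q * d * q⁻¹ ∈ Dm := by
  decide +kernel

theorem inverter : (tau0 * j0) * y0 * (tau0 * j0)⁻¹ = y0 * y0 ∧ (tau0 * j0) * (tau0 * j0) = 1 := by
  decide +kernel

theorem cent_y_eighteen : Fintype.card {q : LL // q * y0 = y0 * q} = 18 := by decide +kernel

namespace Conf.Pair.Point

variable {G : Type*} [Group G] [Finite G] {C : Conf G} {P : C.Pair} (O : P.Point)
include O

/-- The chart of the centraliser of the involution modulo the involution. -/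
theorem exists_chart (hne : ¬ C.CZ ≤ C.L)
    (hCY : ∀ x : G, x * C.t = C.t * x → x * P.y = P.y * x → x ∈ normalizer (C.J : Set G))
    (h27 : ¬ 27 ∣ Nat.card C.Ct) :
    ∃ (K : S8Three.Cfg C.Xt) (Θ : P.NZ →* LL), Function.Surjective Θ ∧
      (∀ n, K.F (Θ n) = C.qt ⟨n, P.NZ_Ct n.2⟩) ∧
      Θ ⟨P.z, P.CL_le_NZ P.z_CL⟩ = z0 ∧ Θ ⟨P.w, P.CL_le_NZ P.w_CL⟩ = w0 ∧
      (∃ k : Fin 3, Θ ⟨P.e, P.CL_le_NZ P.e_CL⟩ = w0 ^ (k : ℕ) * i0 * (w0 ^ (k : ℕ))⁻¹) ∧
      K.s = C.qt ⟨P.g0, P.g0_Ct⟩ ∧ K.ε = false := by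
  classical
  obtain ⟨Θ1, hΘs1, hΘk1, hΘz1, hΘw1, hΘe'1, hΘe1⟩ := O.exists_theta_two hne
  set incl : P.NZ →* C.Ct := Subgroup.inclusion P.NZ_Ct with hincl
  -- the chart belonging to a map
  have mkF : ∀ Θ : P.NZ →* LL, Function.Surjective Θ → (∀ x, Θ x = 1 ↔ (x : G) = 1 ∨ (x : G) = C.t) →
      Θ ⟨P.z, P.CL_le_NZ P.z_CL⟩ = z0 →
      ∃ F : LL →* C.Xt, Function.Injective F ∧ (∀ n, F (Θ n) = C.qt (incl n)) ∧
        F.range = normalizer (zpowers (F z0) : Set C.Xt) := by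
    intro Θ hs hk hz
    have hle : Θ.ker ≤ (C.qt.comp incl).ker := fun x hx =>
      MonoidHom.mem_ker.2 (C.qt_one.2 ((hk x).1 (MonoidHom.mem_ker.1 hx)))
    set F := Θ.liftOfSurjective hs ⟨C.qt.comp incl, hle⟩ with hF
    have hFv : ∀ n, F (Θ n) = C.qt (incl n) := fun n => Θ.liftOfRightInverse_comp_apply _ _ _ n
    refine ⟨F, (injective_iff_map_eq_one F).2 fun a ha => ?_, hFv, ?_⟩
    · obtain ⟨n, rfl⟩ := hs a
      rw [hFv, C.qt_one] at ha
      exact (hk n).2 ha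
    · have hzv : F z0 = C.qt ⟨P.z, P.z_Ct⟩ := by rw [← hz, hFv]; rfl
      rw [hzv]
      ext v
      constructor
      · rintro ⟨a, rfl⟩
        obtain ⟨n, rfl⟩ := hs a
        rw [hFv]
        exact P.mem_norm_z.2 n.2
      · intro hv
        obtain ⟨a, rfl⟩ := C.qt_surj v
        exact ⟨Θ ⟨a, P.mem_norm_z.1 hv⟩, hFv _⟩
  obtain ⟨F1, hF1i, hF1v, hF1r⟩ := mkF Θ1 hΘs1 hΘk1 hΘz1
  set s := C.qt ⟨P.g0, P.g0_Ct⟩ with hs
  set zb := C.qt ⟨P.z, P.z_Ct⟩ with hzb
  set wb := C.qt ⟨P.w, P.w_Ct⟩ with hwb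
  have hss : s * s = 1 := by
    rw [hs, ← map_mul, C.qt_one]; exact Or.inl P.g0_sq
  have hsi : s⁻¹ = s := inv_eq_of_mul_eq_one_right hss
  have hsz : s * zb * s = wb := by
    conv_lhs => arg 2; rw [← hsi]
    rw [hs, hzb, ← map_inv, ← map_mul, ← map_mul]
    exact congrArg C.qt (Subtype.ext P.g0_z)
  have hsw : s * wb * s = zb := by
    rw [← hsz, show s * (s * zb * s) * s = (s * s) * zb * (s * s) by group, hss, one_mul, mul_one]
  have hsconj : ∀ a b : C.Xt, s * (a * b) * s = (s * a * s) * (s * b * s) := fun a b => by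
    calc s * (a * b) * s = s * a * 1 * b * s := by group
      _ = s * a * (s * s) * b * s := by rw [hss]
      _ = _ := by group
  have hzv : ∀ {Θ : P.NZ →* LL} {F : LL →* C.Xt}, (∀ n, F (Θ n) = C.qt (incl n)) →
      Θ ⟨P.z, P.CL_le_NZ P.z_CL⟩ = z0 → F z0 = zb := fun {Θ F} hv hz => by rw [← hz, hv]; rfl
  have hwv : ∀ {Θ : P.NZ →* LL} {F : LL →* C.Xt}, (∀ n, F (Θ n) = C.qt (incl n)) →
      Θ ⟨P.w, P.CL_le_NZ P.w_CL⟩ = w0 → F w0 = wb := fun {Θ F} hv hw => by rw [← hw, hv]; rfl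
  have hz1 := hzv hF1v hΘz1
  have hw1 := hwv hF1v hΘw1
  have memrange : ∀ x : C.Xt, (x * zb * x⁻¹ = zb ∨ x * zb * x⁻¹ = zb⁻¹) → x ∈ F1.range := by
    intro x h
    rw [hF1r, hz1, mem_normalizer_iff_map_conj_eq, MonoidHom.map_zpowers]
    rcases h with h | h
    · exact congrArg zpowers h
    · exact (congrArg zpowers h).trans zpowers_inv
  have hcomm : ∀ {a b : LL}, a * b = b * a → F1 a * F1 b = F1 b * F1 a := fun {a b} h => by
    rw [← map_mul, ← map_mul, h]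
  have hcommS : ∀ a b : C.Xt, a * b = b * a → (s * a * s) * (s * b * s) = (s * b * s) * (s * a * s) :=
    fun a b h => by rw [← hsconj, ← hsconj, h]
  -- `s` centralises the image of `t0`
  have hst : s * F1 t0 * s = F1 t0 := by
    have h1 : (s * F1 t0 * s) * zb = zb * (s * F1 t0 * s) := by
      rw [← hsw]; exact hcommS _ _ (by rw [← hw1]; exact hcomm (by decide +kernel))
    have h2 : (s * F1 t0 * s) * wb = wb * (s * F1 t0 * s) := by
      rw [← hsz]; exact hcommS _ _ (by rw [← hz1]; exact hcomm (by decide +kernel))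
    obtain ⟨q, hq⟩ := memrange _ (Or.inl (mul_inv_eq_iff_eq_mul.2 h1))
    rw [← hq]
    congr 1
    refine S8Three.cent_D_invol q (hF1i (by rw [map_mul, map_mul, hq, hz1]; exact h1))
      (hF1i (by rw [map_mul, map_mul, hq, hw1]; exact h2)) ?_ ?_
    · apply hF1i
      rw [map_mul, map_one, hq, ← hsconj, ← map_mul, S8Three.rel_facts.2.1, map_one, mul_one, hss]
    · intro e
      rw [e, map_one] at hq
      have h := congrArg (fun x => s * x * s) hq
      simp only [mul_one, hss] at h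
      rw [show s * (s * F1 t0 * s) * s = (s * s) * F1 t0 * (s * s) by group, hss, one_mul, mul_one] at h
      exact S8Three.rel_facts.2.2.2.2.2.2.2.2.2.2.2.2.2.2.2.1 (hF1i (h.symm.trans (map_one F1).symm))
  -- the image of the reflection
  have h1 : (s * F1 tau0 * s) * wb = wb * (s * F1 tau0 * s) := by
    rw [← hsz]; exact hcommS _ _ (by rw [← hz1]; exact hcomm (by decide +kernel))
  have h2 : (s * F1 tau0 * s) * zb * (s * F1 tau0 * s) = zb * zb := by
    rw [← hsw, ← hsconj, ← hsconj, ← hsconj, ← hw1, ← map_mul, ← map_mul, S8Three.rel_facts.2.2.2.2.2.2.1,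
      map_mul]
  have hi : (s * F1 tau0 * s) * (s * F1 tau0 * s) = 1 := by
    rw [← hsconj, ← map_mul, S8Three.rel_facts.1, map_one, mul_one, hss]
  obtain ⟨q, hq⟩ := memrange (s * F1 tau0 * s) (Or.inr (by
    rw [inv_eq_of_mul_eq_one_right hi, h2, ← hz1, ← map_mul, ← map_inv]
    exact congrArg F1 (by decide +kernel)))
  obtain ⟨c, hc, hqc⟩ := S8Three.swap_tau q (hF1i (by rw [map_mul, map_one, hq]; exact hi))
    (hF1i (by
      rw [map_mul, map_mul, hq, ← hst, ← hsconj, ← hsconj]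
      exact congrArg (fun x => s * x * s) (hcomm S8Three.rel_facts.2.2.2.1)))
    (hF1i (by rw [map_mul, map_mul, hq, hw1]; exact h1))
    (hF1i (by rw [map_mul, map_mul, map_mul, hq, hz1]; exact h2))
  -- the normalised map
  set v : LL := (c, 1) with hv
  have hvfix : ∀ x ∈ [z0, w0, t0, tau0, y0], v⁻¹ * x * v = x := S8Three.small_fix c hc
  have hvfix' : ∀ x ∈ [z0, w0, t0, tau0, y0], v * x * v⁻¹ = x := fun x hx => by
    conv_lhs => rw [← hvfix x hx]
    group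
  set Θ := (MulAut.conj v).toMonoidHom.comp Θ1 with hΘ
  have hΘs : Function.Surjective Θ := (MulAut.conj v).surjective.comp hΘs1
  have hΘk : ∀ x, Θ x = 1 ↔ (x : G) = 1 ∨ (x : G) = C.t := fun x => by
    rw [hΘ, MonoidHom.comp_apply, MulEquiv.coe_toMonoidHom, MulEquiv.map_eq_one_iff]; exact hΘk1 x
  have hΘz : Θ ⟨P.z, P.CL_le_NZ P.z_CL⟩ = z0 := by
    show v * Θ1 _ * v⁻¹ = z0
    rw [hΘz1, hvfix' z0 (by simp)]
  have hΘw : Θ ⟨P.w, P.CL_le_NZ P.w_CL⟩ = w0 := by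
    show v * Θ1 _ * v⁻¹ = w0
    rw [hΘw1, hvfix' w0 (by simp)]
  have hsign : ∀ n, Perm.sign (Θ n).2 = Perm.sign (Θ1 n).2 := fun n => by
    show Perm.sign (1 * (Θ1 n).2 * (1 : Perm (Fin 5))⁻¹) = _
    rw [one_mul, inv_one, mul_one]
  obtain ⟨F, hFi, hFv, hFr⟩ := mkF Θ hΘs hΘk hΘz
  have hFF : ∀ a, F (v * a * v⁻¹) = F1 a := fun a => by
    obtain ⟨n, rfl⟩ := hΘs1 a
    rw [hF1v, ← hFv]; rfl
  have hz := hzv hFv hΘz
  have hw := hwv hFv hΘw
  have hst' : s * F t0 * s = F t0 := by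
    have e := hFF t0
    rw [hvfix' t0 (by simp)] at e
    rw [e, hst]
  -- the parity of the image of `e`
  obtain ⟨k, hk⟩ := invol_e (Θ ⟨P.e, P.CL_le_NZ P.e_CL⟩) (by
      rw [← map_mul, hΘk]; exact Or.inr P.e_sq)
    (by rw [← hΘz, ← map_mul, ← map_mul]; exact congrArg Θ (Subtype.ext P.e_z))
    (by rw [← hΘw, ← map_inv, ← map_mul, ← map_mul, ← map_inv]; exact congrArg Θ (Subtype.ext P.e_w))
    (by rw [hsign]; exact hΘe1)
  have htau : s * F tau0 * s = F j0 := by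
    have e := hFF tau0
    rw [hvfix' tau0 (by simp)] at e
    have hcase : s * F tau0 * s = F (v * q * v⁻¹) := by rw [e, ← hq, hFF]
    rcases hqc with h | h
    · rw [hcase, hv, h]
    exfalso
    have hi0 : s * F i0 * s = F j0 := by
      rw [← z0_i0.2.2.1, map_mul, hsconj, hcase, hst', hv, h, ← map_mul, z0_i0.2.1]
    obtain ⟨d, hd, hge⟩ := P.g0_e
    have hdN : d ∈ P.NZ := P.CL_le_NZ (P.D_le_CL hd)
    set E2 : P.NZ := ⟨d, hdN⟩ * ⟨P.e', P.e'_NZ⟩ * ⟨d, hdN⟩⁻¹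
    have hE2 : F (Θ E2) = s * C.qt ⟨P.e, C.mem_Ct.2 P.e_t⟩ * s := by
      rw [hFv]
      conv_rhs => arg 2; rw [← hsi]
      rw [hs, ← map_inv, ← map_mul, ← map_mul]
      exact congrArg C.qt (Subtype.ext hge.symm)
    have he : C.qt ⟨P.e, C.mem_Ct.2 P.e_t⟩ = F (w0 ^ (k : ℕ) * i0 * (w0 ^ (k : ℕ))⁻¹) := by
      rw [← hk, hFv]; rfl
    have hpw : ∀ n : ℕ, s * (F w0) ^ n * s = (F z0) ^ n := fun n => by
      rw [hw, hz, ← hsw]
      conv_lhs => arg 2; rw [← hsi]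
      conv_rhs => arg 1; arg 2; rw [← hsi]
      rw [conj_pow]
    have hpi : s * ((F w0) ^ (k : ℕ))⁻¹ * s = ((F z0) ^ (k : ℕ))⁻¹ := by
      rw [← hpw, mul_inv_rev, mul_inv_rev, hsi, mul_assoc]
    have hR : s * F (w0 ^ (k : ℕ) * i0 * (w0 ^ (k : ℕ))⁻¹) * s =
        F (z0 ^ (k : ℕ) * j0 * (z0 ^ (k : ℕ))⁻¹) := by
      simp only [map_mul, map_inv, map_pow, hsconj, hi0, hpw, hpi]
    rw [he, hR] at hE2
    have h3 := congrArg (fun x : LL => Perm.sign x.2) (hFi hE2)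
    rw [z0_i0.1 k] at h3
    simp only [map_mul, map_inv, Prod.snd_mul, Prod.snd_inv, E2] at h3
    rw [hsign ⟨P.e', P.e'_NZ⟩, hΘe'1, mul_comm _ (-1 : ℤˣ), mul_inv_cancel_right] at h3
    exact absurd h3 (by decide)
  have hFc : ∀ {a b : LL}, F a * F b = F b * F a ↔ a * b = b * a := fun {a b} => by
    rw [← map_mul, ← map_mul]; exact hFi.eq_iff
  -- lifts of the elements centralising `y`
  have hy : F y0 = C.qt ⟨P.y, P.y_Ct⟩ := by
    rw [z0_i0.2.2.2, map_mul, hz, hw, hzb, hwb, ← map_mul]; rfl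
  have hy3 : ((⟨P.y, P.y_Ct⟩ : C.Ct) : G) ^ 3 = 1 := O.y3
  have hzw : ∀ a : C.Xt, a * F y0 = F y0 * a → a * zb * a⁻¹ = zb ∨ a * zb * a⁻¹ = wb := by
    intro a ha
    obtain ⟨x, rfl⟩ := C.qt_surj a
    have hxy : (x : G) * P.y = P.y * x := C.qt_comm_three hy3 (by rw [← hy]; exact ha)
    have hxt := C.mem_Ct.1 x.2
    have hxJ := hCY x hxt hxy
    obtain ⟨i, k, hik⟩ := P.D_cases ((mem_normalizer_iff.1 hxJ _).1 P.z_J)
      (((show Commute (x : G) C.t from hxt).mul_left P.z_t).mul_left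
        (show Commute (x : G) C.t from hxt).inv_left).eq
    have hw' : (x : G) * P.w * (x : G)⁻¹ = (P.z ^ (i : ℕ) * P.w ^ (k : ℕ))⁻¹ * (P.z * P.w) := by
      rw [← hik]
      calc (x : G) * P.w * (x : G)⁻¹ = ((x : G) * P.z * (x : G)⁻¹)⁻¹ * ((x : G) * P.y * (x : G)⁻¹) := by
            rw [y]; group
        _ = _ := by rw [hxy, mul_inv_cancel_right, y]
    have hw'' : (x : G) * P.w * (x : G)⁻¹ = P.z ^ ((1 - i : Fin 3) : ℕ) * P.w ^ ((1 - k : Fin 3) : ℕ) := by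
      rw [hw', mul_inv_rev]
      have hc : Commute P.z P.w := P.zw
      have e : ∀ (u : G), u ^ 3 = 1 → ∀ i : Fin 3, u ^ ((1 - i : Fin 3) : ℕ) = (u ^ (i : ℕ))⁻¹ * u := by
        intro u hu i
        rw [← P.pow_neg_fin hu, ← pow_succ, pow_eq_pow_mod ((-i : Fin 3) + 1 : ℕ) hu]
        exact congrArg _ ((by decide : ∀ i : Fin 3, ((1 - i : Fin 3) : ℕ) = (((-i : Fin 3) : ℕ) + 1) % 3) i)
      rw [e _ P.z3, e _ P.w3]
      calc (P.w ^ (k : ℕ))⁻¹ * (P.z ^ (i : ℕ))⁻¹ * (P.z * P.w)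
          = (P.w ^ (k : ℕ))⁻¹ * ((P.z ^ (i : ℕ))⁻¹ * P.z) * P.w := by group
        _ = ((P.z ^ (i : ℕ))⁻¹ * P.z) * (P.w ^ (k : ℕ))⁻¹ * P.w := by
            rw [((hc.symm.pow_pow _ _).inv_inv.mul_right ((hc.symm.pow_left _).inv_left)).eq]
        _ = _ := by group
    have hnz : ¬ (i = 0 ∧ k = 0) := by
      rintro ⟨rfl, rfl⟩
      exact P.z_ne (conj_eq_one_iff.1 (hik.trans (by simp)))
    rcases (by decide : ∀ i k : Fin 3, (i = 0 ∨ k = 0) → (1 - i = 0 ∨ 1 - k = 0) →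
        (i = 1 ∧ k = 0) ∨ (i = 0 ∧ k = 1)) i k (P.type_conj hik)
        (P.type_conj (g := (x : G) * P.g) (by
          rw [show (x : G) * P.g * P.z * ((x : G) * P.g)⁻¹ = (x : G) * (P.g * P.z * P.g⁻¹) * (x : G)⁻¹ by group,
            P.gzg, hw''])) with ⟨rfl, rfl⟩ | ⟨rfl, rfl⟩
    · left
      rw [hzb, ← map_inv, ← map_mul, ← map_mul]
      exact congrArg C.qt (Subtype.ext (hik.trans (by simp)))
    · right
      rw [hzb, hwb, ← map_inv, ← map_mul, ← map_mul]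
      exact congrArg C.qt (Subtype.ext (hik.trans (by simp)))
  have hmem : ∀ x : C.Xt, x * zb * x⁻¹ = zb → x ∈ F.range := fun x h => by
    rw [hFr, hz, mem_normalizer_iff_map_conj_eq, MonoidHom.map_zpowers]
    exact congrArg zpowers h
  have hsy : s * F y0 * s = F y0 := by
    rw [z0_i0.2.2.2, map_mul, hsconj, hz, hw, hsz, hsw, ← hz, ← hw]
    exact hFc.2 (by decide +kernel)
  have centy : ∀ a : C.Xt, a * F y0 = F y0 * a → ∃ q, q * y0 = y0 * q ∧ (a = F q ∨ a = s * F q) := by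
    intro a ha
    rcases hzw a ha with h | h
    · obtain ⟨q, rfl⟩ := hmem a h
      exact ⟨q, hFc.1 ha, Or.inl rfl⟩
    · have hsa : (s * a) * F y0 = F y0 * (s * a) := by
        have e : s * F y0 = F y0 * s := by
          calc s * F y0 = (s * F y0 * s) * s := by rw [mul_assoc (s * F y0), hss, mul_one]
            _ = _ := by rw [hsy]
        exact ((show Commute s (F y0) from e).mul_left ha).eq
      obtain ⟨q, hq⟩ := hmem (s * a) (by
        rw [show s * a * zb * (s * a)⁻¹ = s * (a * zb * a⁻¹) * s⁻¹ by group, h, hsi, hsw])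
      exact ⟨q, hFc.1 (by rw [hq]; exact hsa), Or.inr (by rw [hq, ← mul_assoc, hss, one_mul])⟩
  have normy : ∀ a : C.Xt, a * F y0 * a⁻¹ ∈ zpowers (F y0) →
      ∃ q, (q * y0 * q⁻¹ = y0 ∨ q * y0 * q⁻¹ = y0 * y0) ∧ (a = F q ∨ a = s * F q) := by
    intro a ha
    have hy3' : F y0 ^ 3 = 1 := by rw [← map_pow, show y0 ^ 3 = 1 by decide +kernel, map_one]
    rcases S8Three.mem_zpowers_three hy3' ha with e | e | e
    · exfalso
      have := conj_eq_one_iff.1 e
      exact absurd (hFi (this.trans (map_one F).symm)) (by decide +kernel)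
    · obtain ⟨q, hq, h⟩ := centy a (mul_inv_eq_iff_eq_mul.1 e)
      exact ⟨q, Or.inl (mul_inv_eq_iff_eq_mul.2 hq), h⟩
    · set r := tau0 * j0 with hr
      have hri : r⁻¹ = r := inv_eq_of_mul_eq_one_right inverter.2
      obtain ⟨q, hq, h⟩ := centy (a * F r) (mul_inv_eq_iff_eq_mul.1 (by
        calc a * F r * F y0 * (a * F r)⁻¹ = a * F (r * y0 * r⁻¹) * a⁻¹ := by rw [map_mul F (r * y0), map_mul F r y0, map_inv]; group
          _ = a * (F y0 * F y0) * a⁻¹ := by rw [inverter.1, map_mul]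
          _ = (a * F y0 * a⁻¹) * (a * F y0 * a⁻¹) := by group
          _ = F y0 := by
              rw [e, ← map_mul, ← map_mul]
              exact congrArg F (by decide +kernel)))
      refine ⟨q * r, Or.inr ?_, ?_⟩
      · rw [show q * r * y0 * (q * r)⁻¹ = q * (r * y0 * r⁻¹) * q⁻¹ by group, inverter.1,
          ((show Commute q y0 from hq).mul_right hq).eq, mul_inv_cancel_right]
      · have hrr : F r * F r = 1 := by rw [← map_mul, inverter.2, map_one]
        rcases h with h | h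
        · exact Or.inl (by rw [map_mul, ← h, mul_assoc, hrr, mul_one])
        · exact Or.inr (by rw [map_mul, ← mul_assoc, ← h, mul_assoc, hrr, mul_one])
  have hstau' : s * F j0 * s = F tau0 := by
    rw [← htau, show s * (s * F tau0 * s) * s = (s * s) * F tau0 * (s * s) by group, hss, one_mul, mul_one]
  have hsF : ∀ (a b : LL), s * F a * s = F b → ∀ n : ℕ, s * F (a ^ n) * s = F (b ^ n) := by
    intro a b h n
    rw [map_pow, map_pow, ← h]
    conv_lhs => arg 2; rw [← hsi]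
    conv_rhs => arg 1; arg 2; rw [← hsi]
    rw [conj_pow]
  refine ⟨{ F := F, F_inj := hFi, F_range := hFr, s := s, ss := hss,
            sz := by rw [hz, hw]; exact hsz, st := hst', ε := false, stau := htau,
            ycard := ?_, ysq := ?_, ynorm := ?_, sylow := ?_ }, Θ, hΘs, hFv, hΘz, hΘw, ⟨k, hk⟩, rfl, rfl⟩
  · -- the centraliser of `y`
    rw [show 36 = Nat.card (Fin 2 × {q : LL // q * y0 = y0 * q}) by
      rw [Nat.card_prod, Nat.card_fin, Nat.card_eq_fintype_card, cent_y_eighteen]]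
    have hsyc : s * F y0 = F y0 * s := by
      calc s * F y0 = (s * F y0 * s) * s := by rw [mul_assoc (s * F y0), hss, mul_one]
        _ = _ := by rw [hsy]
    refine (Nat.card_eq_of_bijective (fun p : Fin 2 × {q : LL // q * y0 = y0 * q} =>
      (⟨s ^ (p.1 : ℕ) * F p.2, mem_centralizer_singleton_iff.2
        (((show Commute s (F y0) from hsyc).pow_left _).mul_left (hFc.2 p.2.2)).eq⟩ :
        centralizer ({F y0} : Set C.Xt))) ⟨?_, ?_⟩).symm
    · rintro ⟨a, q, hq⟩ ⟨b, r, hr⟩ h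
      have h' : s ^ (a : ℕ) * F q = s ^ (b : ℕ) * F r := congrArg Subtype.val h
      have hnot : ∀ u : LL, s ≠ F u := by
        intro u hu
        have h1 : zb * zb⁻¹ = 1 := mul_inv_cancel zb
        have h2 : s * zb * s⁻¹ ∈ zpowers zb := by
          have h3 : F u ∈ normalizer (zpowers (F z0) : Set C.Xt) := hFr.le ⟨u, rfl⟩
          rw [← hu, hz] at h3
          exact (mem_normalizer_iff.1 h3 zb).1 (mem_zpowers _)
        rw [hsi, hsz, ← hz, ← hw] at h2
        obtain ⟨i, hi⟩ := mem_zpowers_iff.1 h2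
        rw [← map_zpow] at hi
        have h4 := congrArg Prod.fst (hFi hi)
        have h5 := congrArg Prod.snd (hFi hi)
        simp [S8Three.z0, S8Three.w0] at h5
        exact absurd h5 (by decide +kernel)
      have : a = b := by
        rcases (by decide : ∀ a : Fin 2, a = 0 ∨ a = 1) a with rfl | rfl <;>
          rcases (by decide : ∀ a : Fin 2, a = 0 ∨ a = 1) b with rfl | rfl
        · rfl
        · exfalso
          simp only [Fin.val_zero, pow_zero, one_mul, Fin.val_one, pow_one] at h'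
          exact hnot (q * r⁻¹) (by rw [map_mul, map_inv, h', mul_inv_cancel_right])
        · exfalso
          simp only [Fin.val_zero, pow_zero, one_mul, Fin.val_one, pow_one] at h'
          exact hnot (r * q⁻¹) (by rw [map_mul, map_inv, ← h', mul_inv_cancel_right])
        · rfl
      subst this
      obtain rfl := hFi (mul_left_cancel h')
      rfl
    · rintro ⟨a, ha⟩
      obtain ⟨q, hq, h | h⟩ := centy a (mem_centralizer_singleton_iff.1 ha)
      · exact ⟨(0, ⟨q, hq⟩), Subtype.ext (by simp [h])⟩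
      · exact ⟨(1, ⟨q, hq⟩), Subtype.ext (by simp [h])⟩
  · -- squares
    intro a ha
    obtain ⟨q, hq, h⟩ := normy a ha
    obtain ⟨i, k', l, m, n, e, hsq, hsq', -⟩ := norm_y_table q hq
    rcases h with h | h
    · rw [h, ← map_mul]; exact mem_map_of_mem _ hsq
    · have hconj : s * F q * s = F (w0 ^ (i : ℕ) * z0 ^ (k' : ℕ) * t0 ^ (l : ℕ) * j0 ^ (m : ℕ) * tau0 ^ (n : ℕ)) := by
        rw [e]
        simp only [map_mul, hsconj]
        rw [hsF z0 w0 (by rw [hz, hw]; exact hsz) _, hsF w0 z0 (by rw [hz, hw]; exact hsw) _, hsF t0 t0 hst' _,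
          hsF tau0 j0 htau _, hsF j0 tau0 hstau' _]
      rw [h, show s * F q * (s * F q) = (s * F q * s) * F q by group, hconj, ← map_mul]
      exact mem_map_of_mem _ hsq'
  · -- normalising `D`
    intro a ha d hd
    obtain ⟨q, hq, h⟩ := centy a ha
    obtain ⟨-, -, -, -, -, -, -, -, hDn⟩ := norm_y_table q (Or.inl (mul_inv_eq_iff_eq_mul.2 hq))
    obtain ⟨d, hd', rfl⟩ := hd
    obtain ⟨i, k', rfl⟩ := S8Three.Dm_gen d hd'
    have hq' : q * (z0 ^ (i : ℕ) * w0 ^ (k' : ℕ)) * q⁻¹ ∈ Dm := by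
      rw [show q * (z0 ^ (i : ℕ) * w0 ^ (k' : ℕ)) * q⁻¹ = (q * z0 ^ (i : ℕ) * q⁻¹) * (q * w0 ^ (k' : ℕ) * q⁻¹) by
        group, ← conj_pow, ← conj_pow]
      exact mul_mem (pow_mem (hDn z0 (by simp)) _) (pow_mem (hDn w0 (by simp)) _)
    rcases h with rfl | rfl
    · rw [← map_inv, ← map_mul, ← map_mul]; exact mem_map_of_mem _ hq'
    · obtain ⟨i', k'', e⟩ := S8Three.Dm_gen _ hq'
      refine ⟨w0 ^ (i' : ℕ) * z0 ^ (k'' : ℕ), mul_mem (pow_mem S8Three.Dm_facts.2.1 _)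
        (pow_mem S8Three.Dm_facts.1 _), ?_⟩
      rw [mul_inv_rev, hsi, show s * F q * F (z0 ^ (i : ℕ) * w0 ^ (k' : ℕ)) * ((F q)⁻¹ * s) =
        s * (F q * F (z0 ^ (i : ℕ) * w0 ^ (k' : ℕ)) * (F q)⁻¹) * s by group, ← map_inv, ← map_mul, ← map_mul, e]
      simp only [map_mul, hsconj]
      rw [hsF z0 w0 (by rw [hz, hw]; exact hsz) _, hsF w0 z0 (by rw [hz, hw]; exact hsw) _]
  · intro h
    refine h27 ?_
    rw [C.card_Ct]
    exact Dvd.dvd.mul_left h 2

end Conf.Pair.Point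

end Cfsg.Agent.McLThree
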