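import Cfsg.Agent.Lib.McLThree.Six

/-!
Further concrete facts about the ten Sylow 3-subgroups of `A₆`.
-/

set_option autoImplicit false
set_option maxRecDepth 20000
set_option maxHeartbeats 1000000
set_option synthInstance.maxSize 4000
set_option synthInstance.maxHeartbeats 400000

namespace Cfsg.Agent.McLThree

theorem six_trans : ∀ p : A6, ¬ InN6 p → ∃ i j : Fin 3,
    InN6 (g6⁻¹ * (a6 ^ (i : ℕ) * b6 ^ (j : ℕ) * p)) := by decide +kernel

theorem six_sep : ∀ p : A6, InP6 p → InN6 (g6⁻¹ * p * g6) → p = 1 := by decide +kernel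

theorem six_point : ∀ s : A6, InP6 s → s ≠ 1 → ∀ k : A6,
    (k * s * k⁻¹) * s = s * (k * s * k⁻¹) → InN6 k := by decide +kernel

theorem six_N_card : (Finset.univ.filter fun p : A6 => InN6 p).card = 36 := by decide +kernel

theorem six_four : (Finset.univ.filter fun p : A6 => p * t6 = t6 * p ∧ p * g6 = g6 * p).card = 4 := by
  decide +kernel

theorem six_four_list : ∀ p : A6, p * t6 = t6 * p → p * g6 = g6 * p → p ∈ [1, t6, g6, t6 * g6] := by
  decide +kernel

end Cfsg.Agent.McLThree
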