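import Cfsg.Agent.Lib.McLThree.Pair
import Cfsg.Agent.Lib.McLThree.SixPoints

/-!
The centraliser of the involution in `J` and the fusion of the centre into `J`.
-/

set_option autoImplicit false
set_option maxRecDepth 20000
set_option maxHeartbeats 1000000
set_option synthInstance.maxSize 4000
set_option synthInstance.maxHeartbeats 400000
set_option linter.style.haveILetI false
set_option linter.unusedSectionVars false

namespace Cfsg.Agent.McLThree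

open Subgroup

namespace Conf

variable {G : Type*} [Group G] [Finite G] (C : Conf G)
include C

/-- A Sylow theorem inside a subgroup containing `S`. -/
theorem sylow_in {H R : Subgroup G} (hSH : C.S ≤ H) (hRH : R ≤ H) (hR : IsPGroup 3 R) :
    ∃ h ∈ H, ∀ x ∈ R, h * x * h⁻¹ ∈ C.S := by
  haveI : Fact (Nat.Prime 3) := ⟨Nat.prime_three⟩
  have hSH' : Nat.card (C.S.subgroupOf H) = 729 := by
    rw [Nat.card_congr (subgroupOfEquivOfLe hSH).toEquiv, C.card_S]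
  have hfac : (Nat.card H).factorization 3 = 6 := by
    have h1 := (Nat.prime_three.pow_dvd_iff_le_factorization Nat.card_pos.ne').1
      (show 3 ^ 6 ∣ Nat.card H by
        rw [show (3 : ℕ) ^ 6 = 729 from rfl, ← hSH']; exact card_subgroup_dvd_card _)
    by_contra hne
    exact C.not_dvd ((show 3 ^ 7 ∣ Nat.card H from
      (Nat.prime_three.pow_dvd_iff_le_factorization Nat.card_pos.ne').2 (by omega)).trans
        (card_subgroup_dvd_card H))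
  let T : Sylow 3 H := Sylow.ofCard (C.S.subgroupOf H) (by rw [hSH', hfac]; rfl)
  obtain ⟨T', hT'⟩ := (hR.of_equiv (subgroupOfEquivOfLe hRH).symm).exists_le_sylow
  obtain ⟨h, hh⟩ := MulAction.exists_smul_eq H T' T
  refine ⟨h, h.2, fun x hx => ?_⟩
  have : h * ⟨x, hRH hx⟩ * h⁻¹ ∈ (T : Subgroup H) := by
    rw [← hh, Sylow.coe_subgroup_smul]; exact ⟨_, hT' (mem_subgroupOf.2 hx), rfl⟩
  exact mem_subgroupOf.1 this

end Conf

namespace Conf.Pair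

variable {G : Type*} [Group G] [Finite G] {C : Conf G} (P : C.Pair)
include P

theorem z_J : P.z ∈ C.J := C.Z_le_J P.z_mem

theorem z_A : P.z ∈ C.A := C.Z_le_A P.z_mem

theorem g_norm : P.g ∈ normalizer (C.J : Set G) := C.M_norm P.g_mem

theorem w_J : P.w ∈ C.J := P.w_eq ▸ (mem_normalizer_iff.1 P.g_norm P.z).1 P.z_J

theorem zw : P.z * P.w = P.w * P.z := C.J_comm _ P.z_J _ P.w_J

theorem z3 : P.z ^ 3 = 1 := C.J_exp _ P.z_J

theorem w3 : P.w ^ 3 = 1 := C.J_exp _ P.w_J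

theorem z_t : P.z * C.t = C.t * P.z := (C.t_comm_Z P.z_mem).symm

theorem w_t : P.w * C.t = C.t * P.w := by
  have h : Commute P.g C.t := P.g_t
  rw [P.w_eq]
  exact ((h.mul_left (show Commute P.z C.t from P.z_t)).mul_left h.inv_left).eq

theorem g_notN : P.g ∉ normalizer (C.Z : Set G) := fun h => by
  have := (P.toFrame.norm_Z_iff ⟨P.g, P.g_mem⟩).1 h
  rw [P.psi_g] at this
  obtain ⟨-, -, -, -, -, -, -, -, -, -, hgN, -⟩ := six_basic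
  exact hgN this

theorem w_notZ : P.w ∉ C.Z := fun h => P.g_notN (C.norm_Z_of P.z_mem P.z_ne (P.w_eq ▸ h))

theorem w_notQ : P.w ∉ C.Q := fun h => P.w_notZ (C.cent_t_Q h P.w_t)

theorem w_ne : P.w ≠ 1 := fun h => P.w_notQ (h ▸ one_mem _)

theorem pi_w : C.pi ⟨P.w, C.SL (C.JS P.w_J)⟩ ^ 3 = 1 ∧ C.pi ⟨P.w, C.SL (C.JS P.w_J)⟩ ≠ 1 :=
  C.pi_three P.w_J P.w_notQ

theorem g_g : P.g * P.g ∈ C.J := by
  have := (P.psi_ker (⟨P.g, P.g_mem⟩ * ⟨P.g, P.g_mem⟩)).1 (by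
    rw [map_mul, P.psi_g]
    obtain ⟨-, -, -, -, -, -, -, -, hgg, -⟩ := six_basic
    exact hgg)
  exact this

theorem gwg : P.g * P.w * P.g⁻¹ = P.z := by
  rw [P.w_eq, show P.g * (P.g * P.z * P.g⁻¹) * P.g⁻¹ = (P.g * P.g) * P.z * (P.g * P.g)⁻¹ by group,
    C.J_comm _ P.g_g _ P.z_J, mul_inv_cancel_right]

theorem gzg : P.g * P.z * P.g⁻¹ = P.w := P.w_eq.symm

theorem ginv_z : P.g⁻¹ * P.z * P.g = P.w := by rw [← P.gwg]; group

theorem ginv_w : P.g⁻¹ * P.w * P.g = P.z := by rw [P.w_eq]; group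

theorem e_z : P.e * P.z = P.z * P.e := C.L_cent P.e_mem P.z_mem

theorem e_t : P.e * C.t = C.t * P.e := by rw [← P.e_sq, mul_assoc]

theorem J_pow {x : G} (hx : x ∈ C.J) : ∃ k : Fin 3, x * (P.w ^ (k : ℕ))⁻¹ ∈ C.A := by
  obtain ⟨hw3, hw1⟩ := P.pi_w
  set W : C.L := ⟨P.w, C.SL (C.JS P.w_J)⟩ with hW
  set X : C.L := ⟨x, C.SL (C.JS hx)⟩ with hX
  obtain ⟨i, h⟩ := three25_cent _ hw3 hw1 (C.pi X) (by
    rw [← map_mul, ← map_mul]
    exact congrArg C.pi (Subtype.ext (C.J_comm x hx _ P.w_J)))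
  refine ⟨i, mem_inf.2 ⟨mul_mem hx (inv_mem (pow_mem P.w_J _)), ?_⟩⟩
  refine (C.pi_ker (X * (W ^ (i : ℕ))⁻¹)).1 ?_
  rw [map_mul, map_inv, map_pow]
  rcases h with h | h
  · rw [h, mul_inv_cancel]
  exfalso
  have h3 : C.pi X ^ 3 = 1 := by
    rw [← map_pow, show X ^ 3 = 1 from Subtype.ext (C.J_exp x hx), map_one]
  rw [h, Commute.mul_pow (neg25.2.2 _).symm, ← pow_mul, mul_comm (i : ℕ), pow_mul, hw3, one_pow, mul_one,
    pow_succ, pow_two, neg25.1, one_mul] at h3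
  exact neg25.2.1 h3

theorem w_pow_Q {k : Fin 3} (h : P.w ^ (k : ℕ) ∈ C.Q) : k = 0 := by
  fin_cases k
  · rfl
  · exact absurd (by simpa using h) P.w_notQ
  · refine absurd ?_ P.w_notQ
    have := mul_mem h h
    rwa [← pow_add, show (2 : ℕ) + 2 = 3 + 1 from rfl, pow_succ, P.w3, one_mul] at this

theorem z_pow_one {k : Fin 3} (h : P.z ^ (k : ℕ) = 1) : k = 0 := by
  fin_cases k
  · rfl
  · exact absurd (by simpa using h) P.z_ne
  · refine absurd ?_ P.z_ne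
    have := mul_eq_one_iff_eq_inv.1 (show P.z ^ 2 * P.z = 1 by rw [← pow_succ, P.z3])
    simpa [h] using this.symm

theorem Z_pow {ζ : G} (hζ : ζ ∈ C.Z) : ∃ i : Fin 3, ζ = P.z ^ (i : ℕ) := by
  rcases C.Z_cases P.z_mem P.z_ne hζ with rfl | rfl | rfl
  · exact ⟨0, by simp⟩
  · exact ⟨1, (pow_one _).symm⟩
  · exact ⟨2, inv_eq_of_mul_eq_one_right ((pow_succ' _ _).symm.trans P.z3)⟩

theorem D_cases {x : G} (hx : x ∈ C.J) (ht : x * C.t = C.t * x) :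
    ∃ i k : Fin 3, x = P.z ^ (i : ℕ) * P.w ^ (k : ℕ) := by
  obtain ⟨k, hk⟩ := P.J_pow hx
  have hc : x * (P.w ^ (k : ℕ))⁻¹ * C.t = C.t * (x * (P.w ^ (k : ℕ))⁻¹) :=
    ((show Commute x C.t from ht).mul_left ((show Commute P.w C.t from P.w_t).pow_left _).inv_left).eq
  obtain ⟨i, hi⟩ := P.Z_pow (C.cent_t_Q (mem_inf.1 hk).2 hc)
  exact ⟨i, k, by rw [← hi, inv_mul_cancel_right]⟩

theorem D_eq {i k i' k' : Fin 3} (h : P.z ^ (i : ℕ) * P.w ^ (k : ℕ) = P.z ^ (i' : ℕ) * P.w ^ (k' : ℕ)) :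
    i = i' ∧ k = k' := by
  have e : ∀ (x : G), x ^ 3 = 1 → ∀ a b : Fin 3, x ^ ((a - b : Fin 3) : ℕ) * x ^ (b : ℕ) = x ^ (a : ℕ) := by
    intro x hx a b
    rw [← pow_add, pow_eq_pow_mod _ hx]
    congr 1
    revert a b
    decide
  have h1 : P.w ^ ((k - k' : Fin 3) : ℕ) = (P.z ^ ((i - i' : Fin 3) : ℕ))⁻¹ := by
    refine eq_inv_of_mul_eq_one_right ?_
    have hz : Commute P.z P.w := P.zw
    apply mul_right_cancel (b := P.z ^ (i' : ℕ) * P.w ^ (k' : ℕ))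
    rw [one_mul]
    conv_rhs => rw [← h, ← e P.z P.z3 i i', ← e P.w P.w3 k k']
    calc P.z ^ ((i - i' : Fin 3) : ℕ) * P.w ^ ((k - k' : Fin 3) : ℕ) * (P.z ^ (i' : ℕ) * P.w ^ (k' : ℕ))
        = P.z ^ ((i - i' : Fin 3) : ℕ) * (P.w ^ ((k - k' : Fin 3) : ℕ) * P.z ^ (i' : ℕ)) * P.w ^ (k' : ℕ) := by
          group
      _ = _ := by rw [(hz.symm.pow_pow _ _).eq]; group
  have hk : k = k' := sub_eq_zero.1 (P.w_pow_Q (h1 ▸ inv_mem (pow_mem (C.Z_le_Q P.z_mem) _)))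
  subst hk
  exact ⟨sub_eq_zero.1 (P.z_pow_one (by simpa using h1)), rfl⟩

/-- A conjugate of `z` in the centraliser of the involution lies in one of the two fixed groups. -/
theorem type_D {m : G} (hm : m ∈ C.M) {i k : Fin 3}
    (h : m * P.z * m⁻¹ = P.z ^ (i : ℕ) * P.w ^ (k : ℕ)) : i = 0 ∨ k = 0 := by
  have hc : m * P.z * m⁻¹ * C.t = C.t * (m * P.z * m⁻¹) := by
    rw [h]
    exact (((show Commute P.z C.t from P.z_t).pow_left _).mul_left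
      ((show Commute P.w C.t from P.w_t).pow_left _)).eq
  rcases P.toFrame.pts_t P.g_mem P.psi_g P.z_mem P.z_ne hm hc with h1 | h1
  · obtain ⟨i', hi'⟩ := P.Z_pow h1
    exact Or.inr (P.D_eq (i := i) (k := k) (i' := i') (k' := 0) (by rw [← h, hi']; simp)).2
  · obtain ⟨i', hi'⟩ := P.Z_pow h1
    rw [h] at hi'
    have h2 : P.z ^ (i : ℕ) * P.w ^ (k : ℕ) = P.w ^ (i' : ℕ) := by
      calc P.z ^ (i : ℕ) * P.w ^ (k : ℕ)
          = P.g * (P.g⁻¹ * (P.z ^ (i : ℕ) * P.w ^ (k : ℕ)) * P.g) * P.g⁻¹ := by group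
        _ = P.g * P.z ^ (i' : ℕ) * P.g⁻¹ := by rw [hi']
        _ = _ := by rw [← conj_pow, P.gzg]
    exact Or.inl (P.D_eq (i := i) (k := k) (i' := 0) (k' := i') (by rw [h2]; simp)).1

/-- The conjugates of `z` in `J` are `M`-conjugates. -/
theorem weak_closure {g : G} (h : g * P.z * g⁻¹ ∈ C.J) :
    ∃ m ∈ C.M, g * P.z * g⁻¹ = m * P.z * m⁻¹ ∨ g * P.z * g⁻¹ = m * P.z⁻¹ * m⁻¹ := by
  haveI : Fact (Nat.Prime 3) := ⟨Nat.prime_three⟩
  set R := C.J.map (MulAut.conj g⁻¹).toMonoidHom with hR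
  have hRc : R ≤ C.CZ := by
    rintro _ ⟨x, hx, rfl⟩
    refine C.mem_CZ.2 fun ζ hζ => ?_
    have hc : Commute (g⁻¹ * x * g) P.z := by
      show g⁻¹ * x * g * P.z = P.z * (g⁻¹ * x * g)
      calc g⁻¹ * x * g * P.z = g⁻¹ * (x * (g * P.z * g⁻¹)) * g := by group
        _ = g⁻¹ * ((g * P.z * g⁻¹) * x) * g := by rw [C.J_comm x hx _ h]
        _ = _ := by group
    obtain ⟨i, rfl⟩ := P.Z_pow hζ
    show g⁻¹ * x * g⁻¹⁻¹ * P.z ^ (i : ℕ) = P.z ^ (i : ℕ) * (g⁻¹ * x * g⁻¹⁻¹)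
    rw [inv_inv]
    exact (hc.pow_right _).eq
  have hR81 : Nat.card R = 81 := by rw [card_map_of_injective (MulAut.conj g⁻¹).injective, C.card_J]
  obtain ⟨c, hc, hcR⟩ := C.sylow_in C.S_le_CZ hRc (IsPGroup.of_card (n := 4) (by rw [hR81]; rfl))
  set g1 := g * c⁻¹ with hg1
  have hg1J : g1⁻¹ ∈ normalizer (C.J : Set G) := by
    have hle : C.J.map (MulAut.conj g1⁻¹).toMonoidHom ≤ C.S := by
      rintro _ ⟨x, hx, rfl⟩
      have hxR : g⁻¹ * x * g⁻¹⁻¹ ∈ R := ⟨x, hx, rfl⟩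
      have := hcR _ hxR
      show g1⁻¹ * x * g1⁻¹⁻¹ ∈ C.S
      rw [hg1, show (g * c⁻¹)⁻¹ * x * (g * c⁻¹)⁻¹⁻¹ = c * (g⁻¹ * x * g⁻¹⁻¹) * c⁻¹ by group]
      exact this
    exact mem_normalizer_iff_map_conj_eq.2 (C.J_unique_S hle
      (by
        rintro _ ⟨x, hx, rfl⟩ _ ⟨y, hy, rfl⟩
        rw [← map_mul, ← map_mul, C.J_comm x hx y hy])
      (by rw [card_map_of_injective (MulAut.conj g1⁻¹).injective, C.card_J]))
  have hg1J' : g1 ∈ normalizer (C.J : Set G) := by simpa using inv_mem hg1J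
  have hg1z : g1 * P.z * g1⁻¹ = g * P.z * g⁻¹ := by
    rw [hg1, show g * c⁻¹ * P.z * (g * c⁻¹)⁻¹ = g * (c⁻¹ * (P.z * c)) * g⁻¹ by group,
      ← C.mem_CZ.1 hc P.z P.z_mem, inv_mul_cancel_left]
  have hSM : C.S.map (MulAut.conj g1).toMonoidHom ≤ C.M := by
    rintro _ ⟨x, hx, rfl⟩; exact C.M_normal hg1J' (C.S_le_M hx)
  obtain ⟨m, hm, hmS⟩ := C.sylow_in C.S_le_M hSM (C.S_p.map _)
  have hN : m * g1 ∈ normalizer (C.S : Set G) := by
    refine C.norm_of_le fun x hx => ?_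
    have := hmS (g1 * x * g1⁻¹) ⟨x, hx, rfl⟩
    rwa [show m * g1 * x * (m * g1)⁻¹ = m * (g1 * x * g1⁻¹) * m⁻¹ by group]
  refine ⟨m⁻¹, inv_mem hm, ?_⟩
  have e : g * P.z * g⁻¹ = m⁻¹ * (m * g1 * P.z * (m * g1)⁻¹) * m⁻¹⁻¹ := by rw [← hg1z]; group
  rcases C.Z_cases P.z_mem P.z_ne (C.conj_Z (C.norm_S_norm_Z hN) P.z_mem) with h1 | h1 | h1
  · exact absurd (conj_eq_one_iff.1 h1) P.z_ne
  · exact Or.inl (by rw [e, h1])
  · exact Or.inr (by rw [e, h1])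

/-- The conjugates of `z` in `A` lie in `Z`. -/
theorem A_type {m : G} (hm : m ∈ C.M) (h : m * P.z * m⁻¹ ∈ C.A) : m * P.z * m⁻¹ ∈ C.Z := by
  refine C.conj_Z ((P.toFrame.norm_Z_iff ⟨m, hm⟩).2 ?_) P.z_mem
  by_contra hN
  obtain ⟨i, j, hij⟩ := six_trans _ hN
  obtain ⟨ha, hb, -⟩ := six_basic
  obtain ⟨a, haψ⟩ := P.psi_surj a6
  obtain ⟨b, hbψ⟩ := P.psi_surj b6
  set r : C.M := a ^ (i : ℕ) * b ^ (j : ℕ) with hr
  have hrS : (r : G) ∈ C.S :=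
    mul_mem (pow_mem ((P.psi_S a).1 (haψ ▸ ha)) _) (pow_mem ((P.psi_S b).1 (hbψ ▸ hb)) _)
  have hN' := (P.toFrame.norm_Z_iff (⟨P.g, P.g_mem⟩⁻¹ * (r * ⟨m, hm⟩))).2 (by
    rw [map_mul, map_inv, P.psi_g, map_mul, hr, map_mul, map_pow, map_pow, haψ, hbψ]
    exact hij)
  have h1 := C.conj_Z hN' P.z_mem
  have hAr : (r : G) * (m * P.z * m⁻¹) * (r : G)⁻¹ ∈ C.Q :=
    C.normQ _ (C.L_norm (C.SL hrS)) _ h.2
  obtain ⟨k, hk⟩ := P.Z_pow h1
  have hwk : (r : G) * (m * P.z * m⁻¹) * (r : G)⁻¹ = P.w ^ (k : ℕ) := by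
    rw [← P.gzg, conj_pow, ← hk]
    simp only [Subgroup.coe_mul, Subgroup.coe_inv]
    group
  rw [hwk] at hAr
  rw [P.w_pow_Q hAr, Fin.val_zero, pow_zero] at hwk
  exact P.z_ne (conj_eq_one_iff.1 (conj_eq_one_iff.1 hwk))

end Conf.Pair

end Cfsg.Agent.McLThree
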