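import Cfsg.Agent.Lib.McLThree.Wact
import Cfsg.Agent.Lib.McLThree.Quo
import Mathlib.GroupTheory.IndexNormal

/-!
The Sylow 3-subgroups of the centraliser of the involution have order nine.
-/

set_option autoImplicit false
set_option maxRecDepth 20000
set_option maxHeartbeats 1000000
set_option synthInstance.maxSize 4000
set_option synthInstance.maxHeartbeats 400000
set_option linter.style.haveILetI false
set_option linter.unusedSectionVars false

namespace Cfsg.Agent.McLThree

open Subgroup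

namespace Conf.Pair.Point

variable {G : Type*} [Group G] [Finite G] {C : Conf G} {P : C.Pair} (O : P.Point)
include O

theorem wact_pow_one {x : G} (hx : x ∈ P.NT) (h : O.wact x = one2) (n : ℕ) : O.wact (x ^ n) = one2 := by
  induction n with
  | zero => rw [pow_zero, O.wact_one]
  | succ n ih => rw [pow_succ, O.wact_mul (pow_mem hx n) hx, ih, h]; decide +kernel

/-- An element of `3`-power order normalising `D` and centralising the involution lies in `D`. -/
theorem mem_D_of_norm {r : G} (ht : r * C.t = C.t * r) (h27 : r ^ 27 = 1)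
    (hD : ∀ d ∈ P.D, r * d * r⁻¹ ∈ P.D) : r ∈ P.D := by
  have hlines : ∀ u : G, u * C.t = C.t * u → (∀ d ∈ P.D, u * d * u⁻¹ ∈ P.D) →
      (∃ i : Fin 3, u * P.z * u⁻¹ = P.z ^ (i : ℕ)) ∨ ∃ k : Fin 3, u * P.z * u⁻¹ = P.w ^ (k : ℕ) := by
    intro u _ hu
    obtain ⟨i, k, e⟩ := P.D_cases' (hu _ P.z_D)
    rcases P.type_conj e with rfl | rfl
    · exact Or.inr ⟨k, by simpa using e⟩
    · exact Or.inl ⟨i, by simpa using e⟩
  have hgD : ∀ d ∈ P.D, P.g * d * P.g⁻¹ ∈ P.D := by
    intro d hd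
    refine ⟨(mem_normalizer_iff.1 P.g_norm d).1 hd.1, ?_⟩
    exact (((show Commute P.g C.t from P.g_t).mul_left (show Commute d C.t from hd.2)).mul_left
      (show Commute P.g C.t from P.g_t).inv_left).eq
  have hwlines : (∃ i : Fin 3, r * P.w * r⁻¹ = P.z ^ (i : ℕ)) ∨ ∃ k : Fin 3, r * P.w * r⁻¹ = P.w ^ (k : ℕ) := by
    have h := hlines (r * P.g) ((show Commute r C.t from ht).mul_left P.g_t).eq fun d hd => by
      rw [show r * P.g * d * (r * P.g)⁻¹ = r * (P.g * d * P.g⁻¹) * r⁻¹ by group]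
      exact hD _ (hgD d hd)
    rwa [show r * P.g * P.z * (r * P.g)⁻¹ = r * (P.g * P.z * P.g⁻¹) * r⁻¹ by group, P.gzg] at h
  -- `r` normalises `Z`
  have hN : r ∈ normalizer (C.Z : Set G) := by
    rcases hlines r ht hD with ⟨i, hi⟩ | ⟨k, hk⟩
    · exact C.norm_Z_of P.z_mem P.z_ne (hi ▸ pow_mem P.z_mem _)
    · have h2 : r ^ 2 ∈ normalizer (C.Z : Set G) := by
        refine C.norm_Z_of P.z_mem P.z_ne ?_
        rw [show r ^ 2 * P.z * (r ^ 2)⁻¹ = r * (r * P.z * r⁻¹) * r⁻¹ by rw [pow_two]; group, hk, ← conj_pow]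
        rcases hwlines with ⟨i, hi⟩ | ⟨k', hk'⟩
        · rw [hi]; exact pow_mem (pow_mem P.z_mem _) _
        · exfalso
          have e : r * P.z ^ (k' : ℕ) * r⁻¹ = r * P.w ^ (k : ℕ) * r⁻¹ := by
            rw [← conj_pow, ← conj_pow, hk, hk', ← pow_mul, ← pow_mul, mul_comm (k : ℕ)]
          have e' : P.z ^ ((k' : Fin 3) : ℕ) * P.w ^ ((0 : Fin 3) : ℕ) =
              P.z ^ ((0 : Fin 3) : ℕ) * P.w ^ (k : ℕ) := by
            simpa using mul_left_cancel (mul_right_cancel e)
          rw [(P.D_eq e').2.symm, Fin.val_zero, pow_zero] at hk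
          exact P.z_ne (conj_eq_one_iff.1 hk)
      have h := pow_mem h2 14
      rwa [← pow_mul, show 2 * 14 = 27 + 1 from rfl, pow_succ, h27, one_mul] at h
  have hz : r * P.z = P.z * r := by
    rcases C.Z_cases P.z_mem P.z_ne (C.conj_Z hN P.z_mem) with h | h | h
    · exact absurd (conj_eq_one_iff.1 h) P.z_ne
    · exact mul_inv_eq_iff_eq_mul.1 h
    · exfalso
      have h2 := not_inv_of_odd (n := 27) (by decide) h27 h
      have h3 := P.z3
      rw [pow_succ, pow_two, h2, one_mul] at h3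
      exact P.z_ne h3
  have hw : r * P.w = P.w * r := by
    rcases hwlines with ⟨i, hi⟩ | ⟨k, hk⟩
    · exfalso
      have e : r * P.w * r⁻¹ = r * P.z ^ (i : ℕ) * r⁻¹ := by
        rw [hi, ← conj_pow, hz, mul_inv_cancel_right]
      exact P.w_notZ (mul_left_cancel (mul_right_cancel e) ▸ pow_mem P.z_mem _)
    · fin_cases k
      · exact absurd (conj_eq_one_iff.1 (hk.trans (pow_zero _))) P.w_ne
      · exact mul_inv_eq_iff_eq_mul.1 (hk.trans (pow_one _))
      · exfalso
        have h2 := not_inv_of_odd (n := 27) (by decide) h27 (hk.trans (inv_eq_of_mul_eq_one_right (by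
          show P.w * P.w ^ 2 = 1
          rw [← pow_succ', P.w3])).symm)
        have h3 := P.w3
        rw [pow_succ, pow_two, h2, one_mul] at h3
        exact P.w_ne h3
  rcases O.kernel_two ht hz hw with ⟨i, k, a, e⟩ | hrot
  · have hd : P.z ^ (i : ℕ) * P.w ^ (k : ℕ) ∈ P.D := mul_mem (pow_mem P.z_D _) (pow_mem P.w_D _)
    have hd3 := C.J_exp _ hd.1
    have h := h27
    rw [e, (show Commute (P.z ^ (i : ℕ) * P.w ^ (k : ℕ)) (C.t ^ (a : ℕ)) from
      (show Commute (P.z ^ (i : ℕ) * P.w ^ (k : ℕ)) C.t from hd.2).pow_right _).mul_pow,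
      show 27 = 3 * 9 from rfl, pow_mul, hd3, one_pow, one_mul, ← pow_mul] at h
    rw [e]
    fin_cases a
    · simpa using hd
    · exfalso
      refine C.t_ne ?_
      rwa [show ((⟨1, by norm_num⟩ : Fin 2) : ℕ) * (3 * 9) = 2 * 13 + 1 from rfl, pow_succ, pow_mul, pow_two,
        C.tt, one_pow, one_mul] at h
  · exfalso
    have hNT := P.kernel_NT ht hz hw
    have h4 : O.wact (r ^ 4) = one2 := by
      rw [show r ^ 4 = (r * r) * (r * r) by simp only [pow_succ, pow_zero]; group,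
        O.wact_mul (mul_mem hNT hNT) (mul_mem hNT hNT), O.wact_mul hNT hNT]
      rcases hrot with h | h <;> rw [h] <;> decide +kernel
    have h1 := O.wact_pow_one (pow_mem hNT 4) h4 7
    rw [← pow_mul, show 4 * 7 = 27 + 1 from rfl, pow_succ, h27, one_mul] at h1
    rcases hrot with h | h
    · exact rot_facts.2.2.2.2.2.2.2.1 (h1.symm.trans h)
    · exact rot_facts.2.2.2.2.2.2.2.2.1 (h1.symm.trans h)

theorem not27 : ¬ 27 ∣ Nat.card C.Ct := by
  intro h
  haveI : Fact (Nat.Prime 3) := ⟨Nat.prime_three⟩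
  have hDC : P.D ≤ C.Ct := fun d hd => C.mem_Ct.2 hd.2
  set H := P.D.subgroupOf C.Ct with hH
  have hH9 : Nat.card H = 3 ^ 2 := by
    rw [Nat.card_congr (subgroupOfEquivOfLe hDC).toEquiv, P.card_D]; rfl
  obtain ⟨K, hK, hHK⟩ := Sylow.exists_subgroup_card_pow_succ (p := 3) (n := 2) (show 3 ^ (2 + 1) ∣ _ from h) hH9
  have hidx : (H.subgroupOf K).index = 3 := by
    have := (H.subgroupOf K).card_mul_index
    rw [Nat.card_congr (subgroupOfEquivOfLe hHK).toEquiv, hH9, hK] at this
    norm_num at this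
    omega
  have hn : (H.subgroupOf K).Normal := normal_of_index_eq_minFac_card (by
    rw [hidx, hK]; norm_num)
  have hle : ¬ K ≤ H := fun hh => by
    have := card_le_of_le hh
    rw [hK, hH9] at this
    norm_num at this
  obtain ⟨r, hrK, hrH⟩ := SetLike.not_le_iff_exists.1 hle
  refine hrH (mem_subgroupOf.2 (O.mem_D_of_norm (C.mem_Ct.1 r.2) ?_ fun d hd => ?_))
  · have := pow_card_eq_one' (G := K) (x := ⟨r, hrK⟩)
    rw [hK] at this
    exact congrArg (fun x : K => ((x : C.Ct) : G)) this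
  · have := hn.conj_mem ⟨⟨d, hDC hd⟩, hHK (mem_subgroupOf.2 hd)⟩ (mem_subgroupOf.2 (mem_subgroupOf.2 hd)) ⟨r, hrK⟩
    exact mem_subgroupOf.1 (mem_subgroupOf.1 this)

end Conf.Pair.Point

end Cfsg.Agent.McLThree
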