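import Cfsg.Agent.Lib.McLThree.Chart
import Cfsg.Agent.Lib.McLThree.Not27
import Cfsg.Agent.Lib.S8Three.Dichotomy
import Cfsg.Agent.Lib.S8Three.SixFinish
import Cfsg.Agent.Lib.S8Three.SmallPre

/-!
When the centraliser of `Z` is larger than `L`, the centraliser of the involution modulo the
involution is `Sym(8)`.
-/

set_option autoImplicit false
set_option maxRecDepth 20000
set_option maxHeartbeats 1000000
set_option synthInstance.maxSize 4000
set_option synthInstance.maxHeartbeats 400000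
set_option linter.style.haveILetI false
set_option linter.unusedSectionVars false

namespace Cfsg.Agent.McLThree

open Subgroup Equiv
open Cfsg.Agent.S8Three (LL z0 w0 y0 t0 tau0 i0 j0 jt0 Dm c3 emb8)

/-- The corners of the square. -/
def corner : ZMod 4 → LL := ![z0, w0, z0⁻¹, w0⁻¹]

/-- The exchange of `z` and `w` on the corners. -/
def cornerSwap : Perm (ZMod 4) := swap 0 1 * swap 2 3

/-- The inversion of `z` on the corners. -/
def cornerFlip : Perm (ZMod 4) := swap 0 2

/-- The symmetries of the square. -/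
def square : DihedralGroup 4 →* Perm (ZMod 4) where
  toFun
    | .r i => Equiv.addRight i
    | .sr i => (Equiv.addRight i).trans (Equiv.neg (ZMod 4))
  map_one' := by decide +kernel
  map_mul' := by decide +kernel

theorem corner_facts : Function.Injective corner ∧ (∀ q : LL, q * t0 = t0 * q → ∀ i, ∃ j, q * corner i * q⁻¹ = corner j) ∧
    (∀ i, (corner i = z0 ∧ corner (cornerSwap i) = w0) ∨ (corner i = w0 ∧ corner (cornerSwap i) = z0) ∨
      (corner i = z0⁻¹ ∧ corner (cornerSwap i) = w0⁻¹) ∨ (corner i = w0⁻¹ ∧ corner (cornerSwap i) = z0⁻¹)) ∧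
    (∀ i, j0 * corner i * j0⁻¹ = corner (cornerFlip i)) ∧ (∀ i, corner (i + 2) = (corner i)⁻¹) ∧ j0 * t0 = t0 * j0 := by
  unfold Function.Injective
  decide +kernel

theorem square_facts : (∀ σ : Perm (ZMod 4), (∀ i, σ (i + 2) = σ i + 2) → ∃ d, square d = σ) ∧
    (∀ d, ∃ a b c : Fin 2, square d = cornerSwap ^ (a : ℕ) * cornerFlip ^ (b : ℕ) *
      (cornerSwap * cornerFlip * cornerSwap) ^ (c : ℕ)) ∧ (∀ d, square d = 1 → d = 1) := by
  decide +kernel

/-- The cyclic group of order three in the first factor. -/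
def lam3 : Multiplicative (ZMod 3) →* Perm (Fin 3) where
  toFun a := c3 ^ (Multiplicative.toAdd a).val
  map_one' := by decide +kernel
  map_mul' := by decide +kernel

theorem lam3_facts : (∀ p : Perm (Fin 3), p ∈ S8Three.P3 → ∃ a, lam3 a = p) ∧ (∀ a b, lam3 a = lam3 b → a = b) ∧
    ∀ (a : Multiplicative (ZMod 3)), lam3 a * c3 = c3 * lam3 a := by
  decide +kernel

theorem inverter_t : (tau0 * j0) * t0 = t0 * (tau0 * j0) := by decide +kernel

namespace Conf.Pair.Point

variable {G : Type*} [Group G] [Finite G] {C : Conf G} {P : C.Pair} (O : P.Point)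
include O

/-- The centraliser of the involution modulo the involution is `Sym(8)`. -/
theorem exists_eight (hne : ¬ C.CZ ≤ C.L)
    (hCY : ∀ x : G, x * C.t = C.t * x → x * P.y = P.y * x → x ∈ normalizer (C.J : Set G)) :
    ∃ (K : S8Three.Cfg C.Xt) (Θ : P.NZ →* LL) (Φ : Perm (Fin 8) ≃* C.Xt), Function.Surjective Θ ∧
      (∀ n, K.F (Θ n) = C.qt ⟨n, P.NZ_Ct n.2⟩) ∧
      Θ ⟨P.z, P.CL_le_NZ P.z_CL⟩ = z0 ∧ Θ ⟨P.w, P.CL_le_NZ P.w_CL⟩ = w0 ∧
      (∃ k : Fin 3, Θ ⟨P.e, P.CL_le_NZ P.e_CL⟩ = w0 ^ (k : ℕ) * i0 * (w0 ^ (k : ℕ))⁻¹) ∧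
      K.s = C.qt ⟨P.g0, P.g0_Ct⟩ ∧ ∀ q, Φ (emb8 q) = K.F q := by
  classical
  obtain ⟨K, Θ, hΘs, hFv, hΘz, hΘw, hk, hKs, hε⟩ := O.exists_chart hne hCY O.not27
  set F := K.F with hF
  set D : Subgroup C.Xt := Dm.map F with hD
  obtain ⟨cinj, cq, cs, cj, cneg, cjt⟩ := corner_facts
  set pts : ZMod 4 → C.Xt := fun i => F (corner i) with hpts
  have pinj : Function.Injective pts := K.F_inj.comp cinj
  have hsi : K.s⁻¹ = K.s := S8Three.inv_of_sq K.ss
  have hps : ∀ i, K.s * pts i * K.s⁻¹ = pts (cornerSwap i) := by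
    intro i
    have hinv : ∀ a b : LL, K.s * F a * K.s = F b → K.s * F a⁻¹ * K.s⁻¹ = F b⁻¹ := fun a b h => by
      rw [map_inv, map_inv, ← h, mul_inv_rev, mul_inv_rev, hsi, mul_assoc]
    show K.s * F (corner i) * K.s⁻¹ = F (corner (cornerSwap i))
    rcases cs i with ⟨h1, h2⟩ | ⟨h1, h2⟩ | ⟨h1, h2⟩ | ⟨h1, h2⟩ <;> rw [h1, h2]
    · rw [hsi]; exact K.sz
    · rw [hsi]; exact K.sw
    · exact hinv _ _ K.sz
    · exact hinv _ _ K.sw
  have hact : ∀ x : normalizer (D : Set C.Xt), ∃ σ : Perm (ZMod 4),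
      ∀ i, (x : C.Xt) * pts i * (x : C.Xt)⁻¹ = pts (σ i) := by
    intro x
    obtain ⟨q, hq, hx⟩ := K.normD (g := (x : C.Xt)) (fun d hd => (mem_normalizer_iff.1 x.2 d).1 hd)
    choose f hf using cq q hq
    have hFq : ∀ i, F q * pts i * (F q)⁻¹ = pts (f i) := fun i => by
      show F q * F (corner i) * (F q)⁻¹ = F (corner (f i))
      rw [← hf i, map_mul, map_mul, map_inv]
    obtain ⟨h, hh⟩ : ∃ h : ZMod 4 → ZMod 4, ∀ i, (x : C.Xt) * pts i * (x : C.Xt)⁻¹ = pts (h i) := by
      rcases hx with e | e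
      · exact ⟨f, fun i => by rw [e]; exact hFq i⟩
      · refine ⟨fun i => cornerSwap (f i), fun i => ?_⟩
        rw [e, ← hps, ← hFq]; simp only [hF]; group
    have hinj : Function.Injective h := fun a b e => pinj (by
      have := (hh a).trans ((congrArg pts e).trans (hh b).symm)
      exact mul_left_cancel (mul_right_cancel this))
    exact ⟨Equiv.ofBijective h (Finite.injective_iff_bijective.1 hinj), hh⟩
  choose sg hsg using hact
  have huniq : ∀ (x : normalizer (D : Set C.Xt)) (σ : Perm (ZMod 4)), (∀ i, (x : C.Xt) * pts i * (x : C.Xt)⁻¹ = pts (σ i)) → sg x = σ := fun x σ h =>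
    Equiv.ext fun i => pinj ((hsg x i).symm.trans (h i))
  have hsquare : ∀ x, ∃ d, square d = sg x := fun x => square_facts.1 _ fun i => pinj (by
    have e : ∀ j, pts (j + 2) = (pts j)⁻¹ := fun j => by
      show F (corner (j + 2)) = (F (corner j))⁻¹
      rw [cneg, map_inv]
    rw [← hsg, e, e, ← hsg]; group)
  choose ps hps' using hsquare
  have hsqinj : Function.Injective square := (injective_iff_map_eq_one square).2 square_facts.2.2
  let ψ : normalizer (D : Set C.Xt) →* DihedralGroup 4 :=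
    { toFun := ps
      map_one' := hsqinj (by rw [hps', map_one]; exact huniq 1 1 fun i => by simp)
      map_mul' := fun x y => hsqinj (by
        rw [map_mul, hps', hps', hps']
        exact huniq _ _ fun i => by
          rw [Perm.mul_apply, ← hsg x (sg y i), ← hsg y i, Subgroup.coe_mul]; group) }
  have hψv : ∀ x, square (ψ x) = sg x := fun x => hps' x
  have hψ : Function.Surjective ψ := by
    intro d
    obtain ⟨a, b, c, e⟩ := square_facts.2.1 d
    have hs1 : K.s ∈ normalizer (D : Set C.Xt) := by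
      have := (K.norm_mem' (g := K.s * F 1) ⟨1, by simp, Or.inr rfl⟩).1
      rwa [map_one, mul_one] at this
    have hj1 : F j0 ∈ normalizer (D : Set C.Xt) := (K.norm_mem' ⟨j0, cjt, Or.inl rfl⟩).1
    have es : sg ⟨K.s, hs1⟩ = cornerSwap := huniq _ _ fun i => hps i
    have ej : sg ⟨F j0, hj1⟩ = cornerFlip := huniq _ _ fun i => by
      show F j0 * F (corner i) * (F j0)⁻¹ = F (corner (cornerFlip i))
      rw [← cj i, map_mul, map_mul, map_inv]
    refine ⟨⟨K.s, hs1⟩ ^ (a : ℕ) * ⟨F j0, hj1⟩ ^ (b : ℕ) *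
      (⟨K.s, hs1⟩ * ⟨F j0, hj1⟩ * ⟨K.s, hs1⟩) ^ (c : ℕ), hsqinj ?_⟩
    rw [e]
    simp only [map_mul, map_pow, hψv, es, ej]
  have hker : ∀ x, ψ x = 1 ↔ (x : C.Xt) * F z0 = F z0 * x ∧ (x : C.Xt) * F w0 = F w0 * x := by
    intro x
    constructor
    · intro h
      have h1 : sg x = 1 := by rw [← hψv, h, map_one]
      have h2 := hsg x
      rw [h1] at h2
      exact ⟨mul_inv_eq_iff_eq_mul.1 (h2 0), mul_inv_eq_iff_eq_mul.1 (h2 1)⟩
    · rintro ⟨h1, h2⟩
      refine hsqinj ?_
      rw [hψv, map_one]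
      refine huniq _ _ fun i => ?_
      show (x : C.Xt) * F (corner i) * (x : C.Xt)⁻¹ = F (corner i)
      rw [mul_inv_eq_iff_eq_mul]
      rcases cs i with ⟨e, -⟩ | ⟨e, -⟩ | ⟨e, -⟩ | ⟨e, -⟩ <;> rw [e]
      · exact h1
      · exact h2
      · rw [map_inv]; exact (Commute.inv_right h1).eq
      · rw [map_inv]; exact (Commute.inv_right h2).eq
  rcases K.dichotomy ψ hψ hker with hS | ⟨φ, hφ, hφk⟩
  · exact absurd (K.eps_true hS) (by rw [hε]; decide)
  set S : S8Three.Six K := ⟨φ, hφ, hφk⟩ with hSdef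
  have hyD : F y0 ∈ D := mem_map_of_mem _ S8Three.Dm_facts.2.2.1
  have hzD : F z0 ∈ D := mem_map_of_mem _ S8Three.Dm_facts.1
  have hDD : ∀ a ∈ D, ∀ b ∈ D, a * b = b * a := by
    rintro _ ⟨p, hp, rfl⟩ _ ⟨q, hq, rfl⟩
    exact K.F_comm.2 (S8Three.Dm_comm hp hq)
  have hcomm : IsMulCommutative D := ⟨⟨fun a b => Subtype.ext (hDD _ a.2 _ b.2)⟩⟩
  have hgen : closure {F y0, F z0} = D := by
    refine le_antisymm ?_ ?_
    · rw [closure_le]
      rintro a (rfl | rfl)
      · exact hyD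
      · exact hzD
    · rintro _ ⟨d, hd, rfl⟩
      obtain ⟨i, j, rfl⟩ := S8Three.Dm_gen d hd
      have hw : F w0 ∈ closure {F y0, F z0} := by
        rw [show w0 = z0⁻¹ * y0 by decide +kernel, map_mul, map_inv]
        exact mul_mem (inv_mem (subset_closure (by simp))) (subset_closure (by simp))
      rw [map_mul, map_pow, map_pow]
      exact mul_mem (pow_mem (subset_closure (by simp)) _) (pow_mem hw _)
  have hCeq : (centralizer (D : Set C.Xt)).subgroupOf (normalizer (D : Set C.Xt)) = ψ.ker := by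
    ext x
    rw [mem_subgroupOf, MonoidHom.mem_ker, hker, mem_centralizer_iff]
    constructor
    · exact fun h => ⟨(h _ hzD).symm, (h _ (mem_map_of_mem _ S8Three.Dm_facts.2.1)).symm⟩
    · rintro ⟨h1, h2⟩ _ ⟨d, hd, rfl⟩
      obtain ⟨i, j, rfl⟩ := S8Three.Dm_gen d hd
      rw [map_mul, map_pow, map_pow]
      exact ((Commute.pow_right h1 _).mul_right (Commute.pow_right h2 _)).eq.symm
  haveI hcn : ((centralizer (D : Set C.Xt)).subgroupOf (normalizer (D : Set C.Xt))).Normal := by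
    rw [hCeq]; infer_instance
  have eNC := (QuotientGroup.quotientMulEquivOfEq hCeq).trans (QuotientGroup.quotientKerEquivOfSurjective ψ hψ)
  -- the normaliser of `⟨y⟩`
  set r : LL := tau0 * j0 with hr
  set Ny := normalizer (zpowers (F y0) : Set C.Xt) with hNy
  have hy3 : F y0 ^ 3 = 1 := K.cube hyD
  have hrN : F r ∈ Ny := by
    rw [hNy, mem_normalizer_iff_map_conj_eq, MonoidHom.map_zpowers]
    refine (congrArg zpowers (show (MulAut.conj (F r)).toMonoidHom (F y0) = (F y0)⁻¹ from ?_)).trans zpowers_inv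
    show F r * F y0 * (F r)⁻¹ = (F y0)⁻¹
    rw [← map_inv, ← map_mul, ← map_mul, ← map_inv, hr]
    exact congrArg F (by decide +kernel)
  have hcases : ∀ g ∈ Ny, g * F y0 = F y0 * g ∨ (g * F r) * F y0 = F y0 * (g * F r) := by
    intro g hg
    rcases S8Three.mem_zpowers_three hy3 ((mem_normalizer_iff.1 hg _).1 (mem_zpowers _)) with e | e | e
    · exact absurd (K.F_inj ((conj_eq_one_iff.1 e).trans (map_one F).symm)) S8Three.z_move.2.2.1
    · exact Or.inl (mul_inv_eq_iff_eq_mul.1 e)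
    · refine Or.inr (mul_inv_eq_iff_eq_mul.1 ?_)
      calc g * F r * F y0 * (g * F r)⁻¹ = g * (F r * F y0 * (F r)⁻¹) * g⁻¹ := by group
        _ = g * (F y0 * F y0) * g⁻¹ := by rw [← map_inv, ← map_mul, ← map_mul, hr, inverter.1, map_mul]
        _ = (g * F y0 * g⁻¹) * (g * F y0 * g⁻¹) := by group
        _ = F y0 := by
            rw [e, ← map_mul, ← map_mul]
            exact congrArg F (by decide +kernel)
  have hNynorm : ∀ g ∈ Ny, ∀ d ∈ D, g * d * g⁻¹ ∈ D := by
    intro g hg d hd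
    rcases hcases g hg with h | h
    · exact K.ynorm g h d hd
    · have hr2 : F r⁻¹ * d * (F r⁻¹)⁻¹ ∈ D := K.norm_mem
        (Commute.inv_left (show Commute r t0 from inverter_t)).eq d hd
      have := K.ynorm _ h _ hr2
      rw [map_inv, inv_inv] at this
      rwa [show g * F r * ((F r)⁻¹ * d * F r) * (g * F r)⁻¹ = g * d * g⁻¹ by group] at this
  have hyn : (D.subgroupOf (centralizer ({F y0} : Set C.Xt))).Normal := ⟨fun d hd g =>
    mem_subgroupOf.2 (K.ynorm g (mem_centralizer_singleton_iff.1 g.2) d (mem_subgroupOf.1 hd))⟩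
  have hyNn : (D.subgroupOf Ny).Normal := ⟨fun d hd g =>
    mem_subgroupOf.2 (hNynorm g g.2 d (mem_subgroupOf.1 hd))⟩
  have hyNsq : ∀ g ∈ Ny, g ^ 2 ∈ D := fun g hg => by
    rw [pow_two]; exact K.ysq g ((mem_normalizer_iff.1 hg _).1 (mem_zpowers _))
  have hCN : centralizer ({F y0} : Set C.Xt) ≤ Ny := fun g hg => by
    rw [hNy, mem_normalizer_iff_map_conj_eq, MonoidHom.map_zpowers]
    exact congrArg zpowers (mul_inv_eq_iff_eq_mul.2 (mem_centralizer_singleton_iff.1 hg))
  have hyNcard : Nat.card Ny = 72 := by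
    have hidx : ((centralizer ({F y0} : Set C.Xt)).subgroupOf Ny).index = 2 := by
      rw [Subgroup.index_eq_two_iff]
      refine ⟨⟨F r, hrN⟩, fun b => ?_⟩
      simp only [mem_subgroupOf, Subgroup.coe_mul, mem_centralizer_singleton_iff]
      rcases hcases b b.2 with h | h
      · refine Or.inr ⟨h, fun h' => ?_⟩
        have h2 : F r * F y0 = F y0 * F r := by
          have := Commute.mul_left (Commute.inv_left (a := (b : C.Xt)) h) h'
          rwa [inv_mul_cancel_left] at this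
        rw [← map_mul, ← map_mul, hr] at h2
        exact absurd (K.F_inj h2) (by decide +kernel)
      · refine Or.inl ⟨h, fun h' => ?_⟩
        have h2 : F r * F y0 = F y0 * F r := by
          have := Commute.mul_left (Commute.inv_left (a := (b : C.Xt)) h') h
          rwa [inv_mul_cancel_left] at this
        rw [← map_mul, ← map_mul, hr] at h2
        exact absurd (K.F_inj h2) (by decide +kernel)
    have h := ((centralizer ({F y0} : Set C.Xt)).subgroupOf Ny).card_mul_index
    rw [Nat.card_congr (subgroupOfEquivOfLe hCN).toEquiv, hidx, K.ycard] at h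
    omega
  -- the centraliser of `z`
  let μ : Multiplicative (ZMod 3) × Perm (Fin 5) →* centralizer ({F z0} : Set C.Xt) :=
    (F.comp (lam3.prodMap (MonoidHom.id _))).codRestrict _ fun p => mem_centralizer_singleton_iff.2 (by
      refine K.F_comm.2 (Prod.ext ?_ ?_)
      · exact lam3_facts.2.2 p.1
      · show p.2 * 1 = 1 * p.2
        rw [mul_one, one_mul])
  have hμ : Function.Bijective μ := by
    refine ⟨fun a b h => ?_, fun x => ?_⟩
    · have e : (lam3 a.1, a.2) = (lam3 b.1, b.2) := K.F_inj (congrArg Subtype.val h)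
      exact Prod.ext (lam3_facts.2.1 _ _ (congrArg Prod.fst e)) (congrArg Prod.snd e :)
    · obtain ⟨q, hq, hqz⟩ := K.mem_cent_z (mem_centralizer_singleton_iff.1 x.2)
      obtain ⟨a, ha⟩ := lam3_facts.1 q.1 ((S8Three.comm_z0 q).1 hqz)
      exact ⟨(a, q.2), Subtype.ext (by rw [← hq]; exact congrArg F (Prod.ext ha rfl))⟩
  obtain ⟨iso⟩ := S.sym8 D (F y0) (F z0) rfl rfl rfl hgen hcomm (fun a ha => K.cube ha) eNC hyn K.ycard Ny rfl
    hyNn hyNcard hyNsq (MulEquiv.ofBijective μ hμ).symm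
  obtain ⟨-, Φ, hΦ, hΦF, -⟩ := S.exists_sign
  exact ⟨K, Θ, MulEquiv.ofBijective Φ ((Nat.bijective_iff_injective_and_card Φ).2
    ⟨hΦ, (Nat.card_congr iso.toEquiv).symm⟩), hΘs, hFv, hΘz, hΘw, hk, hKs, hΦF⟩

end Conf.Pair.Point

end Cfsg.Agent.McLThree
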