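import Cfsg.Agent.Lib.McLThree.Model
import Cfsg.Agent.Lib.Perm.AutAlternating
import Cfsg.Agent.S0494
import Mathlib.LinearAlgebra.Projectivization.PSL.PSL2

/-!
The map of `SL(2,5)` onto `A₅` and a few facts about the symmetric group of degree five.
-/

set_option autoImplicit false
set_option maxRecDepth 20000
set_option maxHeartbeats 1000000
set_option linter.style.haveILetI false

namespace Cfsg.Agent.McLThree

open Matrix Equiv

/-- `A₅` -/
abbrev A5 := alternatingGroup (Fin 5)

/-- The two generators used to test centrality. -/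
def g5 : Perm (Fin 5) := swap 0 1 * swap 1 2 * swap 2 3 * swap 3 4

/-- A three-cycle. -/
def h5 : Perm (Fin 5) := swap 0 1 * swap 1 2

theorem five_even : Perm.sign g5 = 1 ∧ Perm.sign h5 = 1 := by decide +kernel

theorem five_centre : ∀ s : Perm (Fin 5), s * g5 = g5 * s → s * h5 = h5 * s → s = 1 := by decide +kernel

theorem five_three_cent : ∀ a : Perm (Fin 5), Perm.sign a = 1 → a * a * a = 1 → a ≠ 1 →
    ∀ b : Perm (Fin 5), Perm.sign b = 1 → b * a = a * b → b * b = 1 → b = 1 := by decide +kernel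

theorem perm5_ext (s s' : Perm (Fin 5)) (h : ∀ a : A5, s * (a : Perm (Fin 5)) * s⁻¹ = s' * a * s'⁻¹) : s = s' := by
  have key : ∀ a : Perm (Fin 5), Perm.sign a = 1 → (s'⁻¹ * s) * a = a * (s'⁻¹ * s) := by
    intro a ha
    have e : s * a * s⁻¹ = s' * a * s'⁻¹ := h ⟨a, Perm.mem_alternatingGroup.2 ha⟩
    calc s'⁻¹ * s * a = s'⁻¹ * (s * a * s⁻¹) * s := by group
      _ = _ := by rw [e]; group
  exact (inv_mul_eq_one.1 (five_centre _ (key _ five_even.1) (key _ five_even.2))).symm

/-- Every automorphism of `A₅` is induced by a permutation. -/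
theorem exists_perm5 (φ : A5 →* A5) (hφ : Function.Bijective φ) :
    ∃ s : Perm (Fin 5), ∀ a : A5, s * (a : Perm (Fin 5)) * s⁻¹ = φ a := by
  obtain ⟨s, hs⟩ := (AutAlt.bijective_conjNormal (n := 5) (by norm_num) (by norm_num)).2
    (MulEquiv.ofBijective φ hφ)
  refine ⟨s, fun a => ?_⟩
  rw [← MulAut.conjNormal_apply, hs]
  rfl

theorem centre25 : ∀ x : S25, (∀ a : S25, x * a = a * x) → x = 1 ∨ x = -1 := by decide +kernel

theorem exists_rho : ∃ ρ : S25 →* A5, Function.Surjective ρ ∧ ∀ x : S25, ρ x = 1 ↔ x = 1 ∨ x = -1 := by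
  haveI : Fact (Nat.Prime 5) := ⟨by norm_num⟩
  have hmem : ∀ x : S25, x ∈ Subgroup.center S25 ↔ x = 1 ∨ x = -1 := by
    intro x
    rw [Subgroup.mem_center_iff]
    refine ⟨fun h => centre25 x fun a => (h a).symm, ?_⟩
    rintro (rfl | rfl) a
    · simp
    · exact neg25.2.2 a
  have hcard : Nat.card (Subgroup.center S25) = 2 := by
    classical
    rw [Nat.card_eq_fintype_card, Fintype.card_subtype,
      show (Finset.univ.filter fun x : S25 => x ∈ Subgroup.center S25) = {1, -1} by
        ext x; simp [hmem], Finset.card_pair neg25.2.1.symm]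
  have h60 : Nat.card (S25 ⧸ Subgroup.center S25) = 60 := by
    have h := Subgroup.card_eq_card_quotient_mul_card_subgroup (Subgroup.center S25)
    rw [hcard, Nat.card_eq_fintype_card (α := S25), card25] at h
    omega
  haveI : IsSimpleGroup (S25 ⧸ Subgroup.center S25) :=
    ProjectiveSpecialLinearGroup.rank_two_simple (F := ZMod 5)
      (by rw [Nat.card_zmod]; norm_num)
  obtain ⟨e⟩ := S0494.result h60
  refine ⟨e.toMonoidHom.comp (QuotientGroup.mk' _), e.surjective.comp (QuotientGroup.mk'_surjective _), fun x => ?_⟩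
  rw [← hmem, ← QuotientGroup.eq_one_iff]
  exact e.map_eq_one_iff

end Cfsg.Agent.McLThree
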