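import Cfsg.Agent.Lib.McLThree.Model

/-!
Concrete facts about the Sylow 3-subgroups of `A₆` and the centraliser of an involution.
-/

set_option autoImplicit false
set_option maxRecDepth 20000
set_option maxHeartbeats 1000000
set_option synthInstance.maxSize 4000
set_option synthInstance.maxHeartbeats 400000

namespace Cfsg.Agent.McLThree

open Equiv

/-- The first three-cycle. -/
def a6 : A6 := ⟨swap 0 1 * swap 1 2, Equiv.Perm.mem_alternatingGroup.2 (by decide)⟩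
/-- The second three-cycle. -/
def b6 : A6 := ⟨swap 3 4 * swap 4 5, Equiv.Perm.mem_alternatingGroup.2 (by decide)⟩
/-- The involution normalising the first Sylow subgroup. -/
def t6 : A6 := ⟨swap 1 2 * swap 4 5, Equiv.Perm.mem_alternatingGroup.2 (by decide)⟩
/-- A square root of `t6`. -/
def f6 : A6 := ⟨swap 1 4 * swap 4 2 * swap 2 5 * swap 0 3, Equiv.Perm.mem_alternatingGroup.2 (by decide)⟩
/-- An involution moving the first Sylow subgroup. -/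
def g6 : A6 := ⟨swap 1 4 * swap 2 5, Equiv.Perm.mem_alternatingGroup.2 (by decide)⟩

/-- Membership in the first Sylow subgroup. -/
abbrev InP6 (p : A6) : Prop := p * a6 = a6 * p ∧ p * b6 = b6 * p

/-- Membership in the normaliser of the first Sylow subgroup. -/
abbrev InN6 (p : A6) : Prop := InP6 (p * a6 * p⁻¹) ∧ InP6 (p * b6 * p⁻¹)

theorem six_basic : InP6 a6 ∧ InP6 b6 ∧ a6 * b6 = b6 * a6 ∧ InN6 t6 ∧ InN6 f6 ∧ f6 * f6 = t6 ∧
    t6 * t6 = 1 ∧ t6 ≠ 1 ∧ g6 * g6 = 1 ∧ g6 * t6 = t6 * g6 ∧ ¬ InN6 g6 ∧ ¬ InP6 t6 ∧ f6 * t6 = t6 * f6 ∧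
    g6 * f6 * g6⁻¹ = f6⁻¹ := by decide +kernel

theorem six_P_card : (Finset.univ.filter fun p : A6 => InP6 p).card = 9 := by decide +kernel

theorem six_P_list : ∀ p : A6, InP6 p → ∃ i j : Fin 3, p = a6 ^ (i : ℕ) * b6 ^ (j : ℕ) := by
  decide +kernel

theorem six_N : ∀ p : A6, InN6 p → ∀ q : A6, InP6 q → InP6 (p * q * p⁻¹) := by decide +kernel

theorem six_N_of : ∀ p : A6, InP6 (p * a6 * p⁻¹) → InP6 (p * b6 * p⁻¹) → InN6 p := fun _ h h' => ⟨h, h'⟩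

theorem six_inv : ∀ q : A6, InP6 q → t6 * q * t6⁻¹ = q⁻¹ := by decide +kernel

theorem six_conj_t : ∀ q : A6, InP6 q → ∃ p : A6, InP6 p ∧ p * (t6 * q) * p⁻¹ = t6 := by decide +kernel

theorem six_inv_elts : ∀ p : A6, InN6 p → p * p = 1 → p ≠ 1 →
    ∃ q : A6, InP6 q ∧ q * t6 * q⁻¹ = p := by decide +kernel

theorem six_points : ∀ p : A6, InN6 (p⁻¹ * t6 * p) → InN6 p ∨ InN6 (g6⁻¹ * p) := by decide +kernel

theorem six_fix_t : ∀ q : A6, InP6 q → q * t6 = t6 * q → q = 1 := by decide +kernel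

theorem six_both : ∀ p : A6, InN6 p → InN6 (g6⁻¹ * p * g6) →
    p = 1 ∨ p = t6 ∨ p = f6 ∨ p = f6⁻¹ := by decide +kernel

/-- The involutions of the centraliser of `t6`. -/
def invol8 : List A6 := [t6, g6, g6 * t6, g6 * f6, g6 * f6⁻¹]

theorem six_invol8 : ∀ k ∈ invol8, k * k = 1 ∧ k ≠ 1 := by decide +kernel

theorem six_norm_cent : ∀ s : A6, s ^ 3 = 1 → s ≠ 1 →
    ∃ k ∈ invol8, (k * s * k⁻¹) * s = s * (k * s * k⁻¹) := by decide +kernel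

theorem six_cyclic : ∀ s : A6, s ^ 3 = 1 → s ≠ 1 → ¬ (t6 * s * t6⁻¹) * s = s * (t6 * s * t6⁻¹) →
    (t6 * s) ^ 12 = 1 → (g6 * s) ^ 12 = 1 → (t6 * g6 * s) ^ 12 = 1 →
    (s * t6 * (s⁻¹ * t6)) ^ 12 = 1 → (s * g6 * (s⁻¹ * g6)) ^ 12 = 1 →
    (s * g6 * (s⁻¹ * t6)) ^ 12 = 1 → (s * t6 * (s⁻¹ * g6)) ^ 12 = 1 →
    (InN6 (s * t6 * s⁻¹) → s * t6 * s⁻¹ = t6) →
    (InN6 (s * t6 * s⁻¹ * g6) → s * t6 * s⁻¹ * g6 = 1 ∨ s * t6 * s⁻¹ * g6 = t6) →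
    (InN6 (s⁻¹ * g6) → s⁻¹ * g6 = t6) →
    (s * t6 * s⁻¹ = g6 ∧ s * g6 * s⁻¹ = t6 * g6) ∨ (s * t6 * s⁻¹ = t6 * g6 ∧ s * g6 * s⁻¹ = t6) := by
  decide +kernel

end Cfsg.Agent.McLThree
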