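import Cfsg.Agent.Lib.McLThree.Basic
import Cfsg.Agent.Lib.McLThree.Six
import Mathlib.GroupTheory.SpecificGroups.Alternating.Simple

/-!
The map of `M` onto `A₆` in standard position: the image of `S` is the standard Sylow subgroup
and the central involution of the centraliser of `Z` goes to the standard involution.
-/

set_option autoImplicit false
set_option maxRecDepth 20000
set_option maxHeartbeats 1000000
set_option synthInstance.maxSize 2000
set_option linter.style.haveILetI false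
set_option linter.unusedSectionVars false

namespace Cfsg.Agent.McLThree

open Subgroup

/-- The first Sylow subgroup of `A₆`. -/
def P6 : Subgroup A6 := centralizer ({a6, b6} : Set A6)

theorem mem_P6 {p : A6} : p ∈ P6 ↔ InP6 p := by
  rw [P6, mem_centralizer_iff]
  constructor
  · intro h
    exact ⟨(h a6 (by simp)).symm, (h b6 (by simp)).symm⟩
  · rintro ⟨h1, h2⟩ x (rfl | rfl)
    · exact h1.symm
    · exact h2.symm

theorem card_P6 : Nat.card P6 = 9 := by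
  classical
  rw [← six_P_card, Nat.card_eq_fintype_card, Fintype.card_subtype]
  exact congrArg Finset.card (Finset.filter_congr fun p _ => mem_P6)

namespace Conf

variable {G : Type*} [Group G] [Finite G] (C : Conf G)
include C

theorem norm_Z_of {g z : G} (hz : z ∈ C.Z) (hz1 : z ≠ 1) (h : g * z * g⁻¹ ∈ C.Z) :
    g ∈ normalizer (C.Z : Set G) := by
  refine mem_normalizer_iff_map_conj_eq.2
    (eq_of_le_of_card_ge ?_ (card_map_of_injective (MulAut.conj g).injective).ge)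
  rintro _ ⟨x, hx, rfl⟩
  show g * x * g⁻¹ ∈ C.Z
  rcases C.Z_cases hz hz1 hx with rfl | rfl | rfl
  · simp
  · exact h
  · rw [show g * z⁻¹ * g⁻¹ = (g * z * g⁻¹)⁻¹ by group]; exact inv_mem h

theorem norm_of_le {g : G} {K : Subgroup G} (h : ∀ x ∈ K, g * x * g⁻¹ ∈ K) : g ∈ normalizer (K : Set G) :=
  mem_normalizer_iff_map_conj_eq.2
    (eq_of_le_of_card_ge (by rintro _ ⟨x, hx, rfl⟩; exact h x hx)
      (card_map_of_injective (MulAut.conj g).injective).ge)

theorem S_center {x : G} (hx : x ∈ C.S) (h : ∀ s ∈ C.S, x * s = s * x) : x ∈ C.Z := by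
  have hq : ∀ q ∈ C.Q, x * q = q * x := fun q hq => h q (C.Q_le_S hq)
  exact (C.Z_center x).2 ⟨C.cent_Q x hq, hq⟩

theorem J_cent_Z {j z : G} (hj : j ∈ C.J) (hz : z ∈ C.Z) : j * z = z * j :=
  C.J_comm j hj z (C.Z_le_J hz)

theorem S_le_CZ : C.S ≤ C.CZ := C.SL.trans C.L_le_CZ

theorem norm_S_norm_Z {g : G} (hg : g ∈ normalizer (C.S : Set G)) : g ∈ normalizer (C.Z : Set G) := by
  refine C.norm_of_le fun z hz => C.S_center ?_ fun s hs => ?_
  · exact (mem_normalizer_iff.1 hg z).1 (C.Q_le_S (C.Z_le_Q hz))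
  · have hs' : g⁻¹ * s * g ∈ C.S := (mem_normalizer_iff.1 hg _).2 (by group; simpa using hs)
    calc g * z * g⁻¹ * s = g * (z * (g⁻¹ * s * g)) * g⁻¹ := by group
      _ = g * ((g⁻¹ * s * g) * z) * g⁻¹ := by rw [C.mem_CZ.1 (C.S_le_CZ hs') z hz]
      _ = _ := by group

theorem norm_Z_J_norm_S {g : G} (hZ : g ∈ normalizer (C.Z : Set G)) (hJ : g ∈ normalizer (C.J : Set G)) :
    g ∈ normalizer (C.S : Set G) := by
  refine C.norm_of_le fun s hs => ?_
  obtain ⟨q, hq, j, hj, rfl⟩ := C.S_decomp hs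
  rw [show g * (q * j) * g⁻¹ = (g * q * g⁻¹) * (g * j * g⁻¹) by group]
  exact mul_mem (C.Q_le_S (C.normQ g hZ q hq)) (C.JS ((mem_normalizer_iff.1 hJ j).1 hj))

/-- `M` is generated by the 3-elements of the normaliser of `J`. -/
theorem M_le_closure : C.M ≤ closure {x : G | x ∈ normalizer (C.J : Set G) ∧ orderOf x ∣ 729} := by
  intro m hm
  set K := closure {x : G | x ∈ normalizer (C.J : Set G) ∧ orderOf x ∣ 729}
  have three : ∀ x : C.M, C.phi x ^ 3 = 1 → (x : G) ∈ K := by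
    intro x hx
    refine subset_closure ⟨C.M_norm x.2, orderOf_dvd_of_pow_eq_one ?_⟩
    have h : ((x ^ 3 : C.M) : G) ^ 3 = 1 := C.J_exp _ ((C.phi_ker _).1 (by rw [map_pow, hx]))
    rw [coe_pow] at h
    rw [show 729 = 3 * 3 * 81 from rfl, pow_mul, pow_mul, h, one_pow]
  have gen : ∀ p : A6, ∃ q : A6, q ^ 3 = 1 ∧ (q⁻¹ * p) ^ 3 = 1 := by decide +kernel
  obtain ⟨q, hq, hq'⟩ := gen (C.phi ⟨m, hm⟩)
  obtain ⟨x, rfl⟩ := C.phi_surj q
  have h := mul_mem (three x hq) (three (x⁻¹ * ⟨m, hm⟩) (by rw [map_mul, map_inv]; exact hq'))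
  simpa using h

theorem M_normal {g : G} (hg : g ∈ normalizer (C.J : Set G)) {m : G} (hm : m ∈ C.M) :
    g * m * g⁻¹ ∈ C.M := by
  have h : closure {x : G | x ∈ normalizer (C.J : Set G) ∧ orderOf x ∣ 729} ≤
      C.M.comap (MulAut.conj g).toMonoidHom := by
    refine (closure_le _).2 ?_
    rintro x ⟨hx, hx'⟩
    show g * x * g⁻¹ ∈ C.M
    refine C.three_M _ (mul_mem (mul_mem hg hx) (inv_mem hg)) ?_
    rw [show g * x * g⁻¹ = MulAut.conj g x from rfl, MulEquiv.orderOf_eq]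
    exact hx'
  exact h (C.M_le_closure hm)

theorem comm_mul {q a b : G} (hq : q ∈ C.Q) (ha : a ∈ C.Q) (hb : b ∈ C.Q) :
    q * (a * b) * q⁻¹ * (a * b)⁻¹ = (q * a * q⁻¹ * a⁻¹) * (q * b * q⁻¹ * b⁻¹) := by
  have h := C.comm_mem hq hb
  calc q * (a * b) * q⁻¹ * (a * b)⁻¹ = (q * a * q⁻¹ * a⁻¹) * (a * (q * b * q⁻¹ * b⁻¹) * a⁻¹) := by group
    _ = _ := by rw [← C.zq h ha, mul_inv_cancel_right]

theorem comm_inv {q a : G} (hq : q ∈ C.Q) (ha : a ∈ C.Q) :
    q⁻¹ * a * q * a⁻¹ = (q * a * q⁻¹ * a⁻¹)⁻¹ := by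
  have h := C.comm_mem (inv_mem hq) ha
  rw [inv_inv] at h
  refine eq_inv_of_mul_eq_one_right ?_
  calc q * a * q⁻¹ * a⁻¹ * (q⁻¹ * a * q * a⁻¹) = q * a * q⁻¹ * a⁻¹ * (q⁻¹ * a * q * a⁻¹) * q * q⁻¹ := by group
    _ = q * a * q⁻¹ * a⁻¹ * (q * (q⁻¹ * a * q * a⁻¹)) * q⁻¹ := by
        rw [mul_assoc (q * a * q⁻¹ * a⁻¹), C.zq h hq]
    _ = 1 := by group

/-- A standard map of `M` onto `A₆`. -/
structure Frame where
  /-- the map -/
  psi : C.M →* A6
  psi_surj : Function.Surjective psi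
  psi_ker : ∀ x : C.M, psi x = 1 ↔ (x : G) ∈ C.J
  psi_S : ∀ x : C.M, InP6 (psi x) ↔ (x : G) ∈ C.S
  t_M : C.t ∈ C.M
  psi_t : psi ⟨C.t, t_M⟩ = t6

theorem exists_conj_phi : ∃ psi : C.M →* A6, Function.Surjective psi ∧
    (∀ x : C.M, psi x = 1 ↔ (x : G) ∈ C.J) ∧ ∀ x : C.M, InP6 (psi x) ↔ (x : G) ∈ C.S := by
  haveI : Fact (Nat.Prime 3) := ⟨Nat.prime_three⟩
  set S' := C.S.subgroupOf C.M with hS'
  set P := S'.map C.phi with hP
  have hPcard : Nat.card P = 9 := by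
    set r : S' →* A6 := C.phi.comp S'.subtype
    have hr : r.range = P := by rw [MonoidHom.range_comp, Subgroup.range_subtype]
    have hk : Nat.card r.ker = 81 := by
      rw [← C.card_J]
      refine Nat.card_congr
        { toFun := fun x => ⟨((x : S') : C.M), (C.phi_ker _).1 x.2⟩
          invFun := fun j => ⟨⟨⟨j, C.JM j.2⟩, mem_subgroupOf.2 (C.JS j.2)⟩, (C.phi_ker _).2 j.2⟩
          left_inv := fun _ => rfl
          right_inv := fun _ => rfl }
    have hS : Nat.card S' = 729 := by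
      rw [← C.card_S]; exact Nat.card_congr (subgroupOfEquivOfLe C.S_le_M).toEquiv
    have h := card_eq_card_quotient_mul_card_subgroup r.ker
    rw [Nat.card_congr (QuotientGroup.quotientKerEquivRange r).toEquiv, hr, hk, hS] at h
    omega
  have hfac : (Nat.card A6).factorization 3 = 2 := by
    have h360 : Nat.card A6 = 360 := by rw [Nat.card_eq_fintype_card, cardA6]
    have h1 := (Nat.prime_three.pow_dvd_iff_le_factorization (n := 360) (k := 2) (by norm_num)).1 (by norm_num)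
    have h2 : ¬ 3 ≤ (360 : ℕ).factorization 3 := fun h =>
      absurd ((Nat.prime_three.pow_dvd_iff_le_factorization (n := 360) (k := 3) (by norm_num)).2 h) (by norm_num)
    rw [h360]
    omega
  obtain ⟨u, hu⟩ := MulAction.exists_smul_eq A6 (Sylow.ofCard P (by rw [hPcard, hfac]; rfl) : Sylow 3 A6)
    (Sylow.ofCard P6 (by rw [card_P6, hfac]; rfl))
  have hu' : P.map (MulAut.conj u).toMonoidHom = P6 := by
    have := congrArg (fun R : Sylow 3 A6 => (R : Subgroup A6)) hu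
    simp only [Sylow.coe_subgroup_smul] at this
    exact this
  refine ⟨(MulAut.conj u).toMonoidHom.comp C.phi, (MulAut.conj u).surjective.comp C.phi_surj,
    fun x => ?_, fun x => ?_⟩
  · rw [MonoidHom.comp_apply, ← C.phi_ker x]
    exact (MulAut.conj u).map_eq_one_iff
  · rw [← mem_P6, ← hu']
    constructor
    · rintro ⟨p, ⟨y, hy, rfl⟩, e⟩
      have e' : C.phi y = C.phi x := (MulAut.conj u).injective e
      have hk : ((y⁻¹ * x : C.M) : G) ∈ C.J := (C.phi_ker _).1 (by rw [map_mul, map_inv, e', inv_mul_cancel])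
      have := mul_mem (mem_subgroupOf.1 hy) (C.JS hk)
      simpa using this
    · intro hx
      exact mem_map_of_mem _ (mem_map_of_mem _ (mem_subgroupOf.2 hx))

theorem exists_frame : Nonempty C.Frame := by
  obtain ⟨psi, hsurj, hker, hS⟩ := C.exists_conj_phi
  have hnormS : ∀ m : C.M, InN6 (psi m) → (m : G) ∈ normalizer (C.S : Set G) := by
    intro m hm
    refine C.norm_of_le fun s hs => ?_
    have := (hS (m * ⟨s, C.S_le_M hs⟩ * m⁻¹)).1 (by
      rw [map_mul, map_mul, map_inv]; exact six_N _ hm _ ((hS _).2 hs))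
    simpa using this
  obtain ⟨f, hf⟩ := hsurj f6
  obtain ⟨w0, hw0⟩ := hsurj t6
  obtain ⟨-, -, -, hNt, hNf, hff, htt, -⟩ := six_basic
  set wm := w0 ^ 3 with hwm
  have hwψ : psi wm = t6 := by rw [hwm, map_pow, hw0, pow_succ, pow_two, htt, one_mul]
  have hww : wm * wm = 1 := by
    have h2 : ((w0 ^ 2 : C.M) : G) ^ 3 = 1 :=
      C.J_exp _ ((hker _).1 (by rw [map_pow, hw0, pow_two, htt]))
    refine Subtype.ext ?_
    rw [hwm, ← pow_add, show 3 + 3 = 2 * 3 from rfl, pow_mul, coe_pow, h2]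
    rfl
  set w : G := (wm : G) with hw
  have hw2 : w * w = 1 := congrArg Subtype.val hww
  have hwinv : w⁻¹ = w := inv_eq_of_mul_eq_one_right hw2
  have hwN : w ∈ normalizer (C.Z : Set G) := C.norm_S_norm_Z (hnormS _ (by rw [hwψ]; exact hNt))
  have hfN : (f : G) ∈ normalizer (C.Z : Set G) := C.norm_S_norm_Z (hnormS _ (by rw [hf]; exact hNf))
  obtain ⟨z0, hz0, hz01⟩ := C.exists_z
  have hwC : w ∈ C.CZ := by
    refine C.mem_CZ.2 fun z hz => ?_
    by_cases hz1 : z = 1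
    · rw [hz1, mul_one, one_mul]
    have hj : (((f * f)⁻¹ * wm : C.M) : G) ∈ C.J :=
      (hker _).1 (by rw [map_mul, map_inv, map_mul, hf, hff, hwψ, inv_mul_cancel])
    have hfz : (f : G) * ((f : G) * z * (f : G)⁻¹) * (f : G)⁻¹ = z := by
      rcases C.Z_cases hz hz1 (C.conj_Z hfN hz) with h | h | h
      · exact absurd (conj_eq_one_iff.1 h) hz1
      · rw [h, h]
      · rw [h, show (f : G) * z⁻¹ * (f : G)⁻¹ = ((f : G) * z * (f : G)⁻¹)⁻¹ by group, h, inv_inv]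
    set j : G := (((f * f)⁻¹ * wm : C.M) : G) with hjdef
    have e : w = (f : G) * (f : G) * j := by
      rw [hjdef]; simp [hw]; group
    rw [← mul_inv_eq_iff_eq_mul, e]
    calc (f : G) * (f : G) * j * z * ((f : G) * (f : G) * j)⁻¹
        = (f : G) * ((f : G) * (j * z * j⁻¹) * (f : G)⁻¹) * (f : G)⁻¹ := by group
      _ = z := by rw [C.J_cent_Z hj hz, mul_inv_cancel_right, hfz]
  have hwQ : ∀ q ∈ C.Q, w * q * w⁻¹ ∈ C.Q := C.normQ w hwN
  have hQA : ∀ q ∈ C.Q, w * q * w⁻¹ * q ∈ C.A := by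
    intro q hq
    refine mem_inf.2 ⟨?_, mul_mem (hwQ q hq) hq⟩
    have hqM : q ∈ C.M := C.S_le_M (C.Q_le_S hq)
    have := (hker (wm * ⟨q, hqM⟩ * wm⁻¹ * ⟨q, hqM⟩)).1 (by
      rw [map_mul, map_mul, map_mul, map_inv, hwψ, six_inv _ ((hS ⟨q, hqM⟩).2 (C.Q_le_S hq)),
        inv_mul_cancel])
    simpa [hw] using this
  have hAZ : ∀ a ∈ C.A, w * a * w⁻¹ * a ∈ C.Z := by
    intro a ha
    have hwa : w * a * w⁻¹ ∈ C.A := by
      have h := mul_mem (hQA a ha.2) (inv_mem ha)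
      rwa [mul_inv_cancel_right] at h
    refine (C.Z_center _).2 ⟨mul_mem hwa.2 ha.2, fun q hq => ?_⟩
    set c := q * a * q⁻¹ * a⁻¹ with hc
    set a2 := w * q * w⁻¹ * q with ha2
    have hcZ : c ∈ C.Z := C.comm_mem hq ha.2
    have h1 : (a2 * q⁻¹) * (w * a * w⁻¹) * (a2 * q⁻¹)⁻¹ * (w * a * w⁻¹)⁻¹ = c := by
      rw [ha2, mul_inv_cancel_right]
      calc w * q * w⁻¹ * (w * a * w⁻¹) * (w * q * w⁻¹)⁻¹ * (w * a * w⁻¹)⁻¹
          = w * c * w⁻¹ := by rw [hc]; group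
        _ = c := by rw [C.mem_CZ.1 hwC c hcZ, mul_inv_cancel_right]
    set a' := w * a * w⁻¹ with ha'
    have h2 : q⁻¹ * a' * q * a'⁻¹ = c := by
      have hcom : a2 * a' = a' * a2 := C.J_comm _ (hQA q hq).1 _ hwa.1
      have hz : q⁻¹ * a' * q * a'⁻¹ ∈ C.Z := by
        simpa using C.comm_mem (inv_mem hq) hwa.2
      calc q⁻¹ * a' * q * a'⁻¹ = a2⁻¹ * ((a2 * q⁻¹) * a' * (a2 * q⁻¹)⁻¹ * (a2 * a' * a2⁻¹)⁻¹) * a2 := by
            group
        _ = a2⁻¹ * c * a2 := by rw [show a2 * a' * a2⁻¹ = a' by rw [hcom, mul_inv_cancel_right], h1]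
        _ = c := by rw [mul_assoc, C.zq hcZ (hQA q hq).2, inv_mul_cancel_left]
    rw [C.comm_inv hq hwa.2] at h2
    have h3 : q * (a' * a) * q⁻¹ * (a' * a)⁻¹ = 1 := by
      rw [C.comm_mul hq hwa.2 ha.2, ← hc, ← h2, mul_inv_cancel]
    exact (mul_inv_eq_iff_eq_mul.1 (mul_inv_eq_one.1 h3)).symm
  have hinv : ∀ q ∈ C.Q, w * q * w⁻¹ * q ∈ C.Z := by
    intro q hq
    set x := w * q * w⁻¹ * q with hx
    have e : w * x * w⁻¹ = q * x * q⁻¹ := by
      have : w * (w * q * w⁻¹) * w⁻¹ = q := by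
        rw [show w * (w * q * w⁻¹) * w⁻¹ = (w * w) * q * (w * w)⁻¹ by group, hw2]; group
      calc w * x * w⁻¹ = w * (w * q * w⁻¹) * w⁻¹ * (w * q * w⁻¹) := by rw [hx]; group
        _ = q * x * q⁻¹ := by rw [this, hx]; group
    have hxQ : x ∈ C.Q := (hQA q hq).2
    have h1 := hAZ x (hQA q hq)
    rw [e] at h1
    have h4 : x * x ∈ C.Z := by
      have h5 := mul_mem (inv_mem (C.comm_mem hq hxQ)) h1
      rwa [show (q * x * q⁻¹ * x⁻¹)⁻¹ * (q * x * q⁻¹ * x) = x * x by group] at h5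
    have h6 : x = (x * x) * (x * x) := by
      rw [show x * x * (x * x) = x ^ 3 * x by simp [pow_succ, mul_assoc], C.exp_Q x hxQ, one_mul]
    rw [h6]; exact mul_mem h4 h4
  have hwt : w * C.t ∈ C.Q := by
    refine C.kerV (mul_mem hwC (C.L_le_CZ C.t_mem)) fun q hq => ?_
    set b := C.t * q * C.t⁻¹ with hb
    have hbQ : b ∈ C.Q := C.conj_t_mem hq
    have h1 := hinv b hbQ
    have h2 := C.inv_V hq
    have h3 := mul_mem h1 (inv_mem h2)
    rwa [← hb, show w * b * w⁻¹ * b * (b * q)⁻¹ = w * C.t * q * (w * C.t)⁻¹ * (b * (b * q)⁻¹) by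
      rw [hb]; group, show b * (b * q)⁻¹ = b * q⁻¹ * b⁻¹ * q * q⁻¹ by group,
      show w * C.t * q * (w * C.t)⁻¹ * (b * q⁻¹ * b⁻¹ * q * q⁻¹) =
        w * C.t * q * (w * C.t)⁻¹ * q⁻¹ * (q * (b * q⁻¹ * b⁻¹ * q⁻¹⁻¹) * q⁻¹) by group,
      Subgroup.mul_mem_cancel_right _ (C.conj_Z (C.L_norm (C.QL hq)) (C.comm_mem hbQ (inv_mem hq)))] at h3
  have hwtM : w * C.t ∈ C.M := C.S_le_M (C.Q_le_S hwt)
  have htM : C.t ∈ C.M := by
    have := mul_mem (inv_mem wm.2) hwtM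
    rwa [← hw, inv_mul_cancel_left] at this
  have htψ : psi ⟨C.t, htM⟩ = t6 * psi ⟨w * C.t, hwtM⟩ := by
    rw [← hwψ, ← map_mul]
    refine congrArg psi (Subtype.ext ?_)
    show C.t = w * (w * C.t)
    rw [← mul_assoc, hw2, one_mul]
  obtain ⟨p, hp, hpt⟩ := six_conj_t _ ((hS ⟨w * C.t, hwtM⟩).2 (C.Q_le_S hwt))
  refine ⟨⟨(MulAut.conj p).toMonoidHom.comp psi, (MulAut.conj p).surjective.comp hsurj,
    fun x => ((MulAut.conj p).map_eq_one_iff).trans (hker x), fun x => ?_, htM, ?_⟩⟩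
  · rw [← hS x, ← mem_P6, ← mem_P6]
    show p * psi x * p⁻¹ ∈ P6 ↔ _
    have hp' := mem_P6.2 hp
    constructor
    · intro h
      have := mul_mem (mul_mem (inv_mem hp') h) hp'
      simpa [mul_assoc] using this
    · intro h
      exact mul_mem (mul_mem hp' h) (inv_mem hp')
  · show p * psi ⟨C.t, htM⟩ * p⁻¹ = t6
    rw [htψ, hpt]

end Conf

namespace Conf.Frame

variable {G : Type*} [Group G] [Finite G] {C : Conf G} (F : C.Frame)
include F

theorem psi_conj (m x : C.M) : F.psi (m * x * m⁻¹) = F.psi m * F.psi x * (F.psi m)⁻¹ := by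
  rw [map_mul, map_mul, map_inv]

theorem norm_S_iff (m : C.M) : (m : G) ∈ normalizer (C.S : Set G) ↔ InN6 (F.psi m) := by
  constructor
  · intro hm
    have key : ∀ p, InP6 p → InP6 (F.psi m * p * (F.psi m)⁻¹) := by
      intro p hp
      obtain ⟨x, rfl⟩ := F.psi_surj p
      rw [← F.psi_conj]
      exact (F.psi_S _).2 ((mem_normalizer_iff.1 hm _).1 ((F.psi_S x).1 hp))
    exact ⟨key _ six_basic.1, key _ six_basic.2.1⟩
  · intro hm
    refine C.norm_of_le fun s hs => ?_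
    have := (F.psi_S (m * ⟨s, C.S_le_M hs⟩ * m⁻¹)).1 (by
      rw [F.psi_conj]; exact six_N _ hm _ ((F.psi_S _).2 hs))
    simpa using this

theorem norm_Z_iff (m : C.M) : (m : G) ∈ normalizer (C.Z : Set G) ↔ InN6 (F.psi m) :=
  ⟨fun h => (F.norm_S_iff m).1 (C.norm_Z_J_norm_S h (C.M_norm m.2)),
    fun h => C.norm_S_norm_Z ((F.norm_S_iff m).2 h)⟩

/-- An element of `M` of order two modulo `J` normalising `Z` centralises it. -/
theorem invol_cent (m : C.M) (hN : InN6 (F.psi m)) (h2 : F.psi m * F.psi m = 1) : (m : G) ∈ C.CZ := by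
  by_cases h1 : F.psi m = 1
  · exact C.S_le_CZ (C.JS ((F.psi_ker m).1 h1))
  obtain ⟨q, hq, e⟩ := six_inv_elts _ hN h2 h1
  obtain ⟨x, rfl⟩ := F.psi_surj q
  have hx : (x : G) ∈ C.CZ := C.S_le_CZ ((F.psi_S x).1 hq)
  have hj : (((x * ⟨C.t, F.t_M⟩ * x⁻¹)⁻¹ * m : C.M) : G) ∈ C.J :=
    (F.psi_ker _).1 (by rw [map_mul, map_inv, F.psi_conj, F.psi_t, e, inv_mul_cancel])
  have h := mul_mem (mul_mem (mul_mem hx (C.L_le_CZ C.t_mem)) (inv_mem hx)) (C.S_le_CZ (C.JS hj))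
  simpa [mul_assoc] using h

end Conf.Frame

end Cfsg.Agent.McLThree
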