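import Cfsg.Agent.Lib.McLThree.MainHyp
import Cfsg.Agent.Lib.McLThree.CentY

/-!
The 3-local characterisation of McLaughlin's group and its extension of degree two.
-/

set_option autoImplicit false
set_option maxRecDepth 20000
set_option maxHeartbeats 1000000
set_option synthInstance.maxSize 4000
set_option synthInstance.maxHeartbeats 400000
set_option linter.style.haveILetI false
set_option linter.unusedSectionVars false

namespace Cfsg.Agent.McLThree

universe u

/-- McLaughlin's group, or a subgroup of index two isomorphic to it. -/
theorem Conf.main {G : Type u} [Group G] [Finite G] (C : Conf G) :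
    Nonempty (G ≃* Cfsg.Spor.McL) ∨
      ∃ G0 : Subgroup G, G0.index = 2 ∧ G0.Normal ∧ Subgroup.centralizer (G0 : Set G) = ⊥ ∧
        Nonempty (G0 ≃* Cfsg.Spor.McL) :=
  C.main_of fun _ O hne _ _ hy => O.cent_y_norm hne hy

end Cfsg.Agent.McLThree
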