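import Cfsg.Agent.Lib.McLThree.Octad
import Cfsg.Agent.Lib.Transfer.SignThompson
import Mathlib.GroupTheory.Nilpotent

/-!
When the centraliser of `Z` is larger than `L`, the group has a subgroup of index two.
-/

set_option autoImplicit false
set_option maxRecDepth 20000
set_option maxHeartbeats 1000000
set_option synthInstance.maxSize 4000
set_option synthInstance.maxHeartbeats 400000
set_option linter.style.haveILetI false
set_option linter.unusedSectionVars false

namespace Cfsg.Agent.McLThree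

open Subgroup Equiv
open Cfsg.Agent.S8Three (LL z0 w0 y0 t0 i0 Dm emb8 r3)

theorem cmp_three : ∀ m : M2, cmp m m = one2 → cmp m (cmp m m) = m := by decide +kernel

theorem mem_zero_three : ∀ i : ZMod 3, ∀ v : V2, v.1 ≠ 0 → v.2 ≠ 0 → i ≠ 0 → i * v.1 ≠ 0 ∧ i * v.2 ≠ 0 := by
  decide +kernel

namespace Octad

variable {G : Type*} [Group G] [Finite G] {C : Conf G} {P : C.Pair} (X : Octad P)
include X

/-- The outer involution. -/
theorem exists_f (O : P.Point) : ∃ f : C.Ct, (f : G) * f = 1 ∧ X.sg f = -1 ∧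
    (∀ k : G, k * C.t * k⁻¹ ≠ f) ∧ (∃ a : C.Ct, (a : G) * f * (a : G)⁻¹ = f * C.t) ∧
    ∃ a : C.Ct, (a : G) * P.g0 * (a : G)⁻¹ = P.g0 * C.t := by
  classical
  obtain ⟨r, hr, hrr, hrot, hrN, hrz, hrw⟩ := X.exists_r O
  set gC : C.Ct := ⟨P.g, C.mem_Ct.2 P.g_t⟩ with hgC
  set a : C.Ct := gC * r with ha
  set f : C.Ct := a * (a * a) with hf
  have hrD : ∀ d ∈ P.D, (r : G) * d = d * r := fun d hd => by
    obtain ⟨i, k, rfl⟩ := P.D_cases' hd
    exact (((show Commute (r : G) P.z from hrz).pow_right _).mul_right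
      ((show Commute (r : G) P.w from hrw).pow_right _)).eq
  have haN : (a : G) ∈ P.NT := mul_mem P.g_NT hrN
  obtain ⟨hR1, hR2, hR3, v, hv1, hv2, hv⟩ := diag_refl (O.wact P.g) (O.wact (r : G)) O.g_refl hrot
  have hwa : O.wact (a : G) = cmp (O.wact P.g) (O.wact (r : G)) := O.wact_mul P.g_NT hrN
  have hwaa : O.wact ((a : G) * a) = one2 := by rw [O.wact_mul haN haN, hwa, hR1]
  have hwf : O.wact (f : G) = cmp (O.wact P.g) (O.wact (r : G)) := by
    show O.wact ((a : G) * ((a : G) * a)) = _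
    rw [O.wact_mul haN (mul_mem haN haN), hwaa, hwa, (cmp_one _).1]
  have haz : (a : G) * P.z * (a : G)⁻¹ = P.w := by
    show P.g * r * P.z * (P.g * r)⁻¹ = P.w
    rw [show P.g * r * P.z * (P.g * r)⁻¹ = P.g * ((r : G) * P.z * (r : G)⁻¹) * P.g⁻¹ by group, hrz,
      mul_inv_cancel_right, P.gzg]
  have haw : (a : G) * P.w * (a : G)⁻¹ = P.z := by
    show P.g * r * P.w * (P.g * r)⁻¹ = P.z
    rw [show P.g * r * P.w * (P.g * r)⁻¹ = P.g * ((r : G) * P.w * (r : G)⁻¹) * P.g⁻¹ by group, hrw,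
      mul_inv_cancel_right, P.gwg]
  have haaz : ((a : G) * a) * P.z = P.z * ((a : G) * a) := mul_inv_eq_iff_eq_mul.1 (by
    rw [show (a : G) * a * P.z * ((a : G) * a)⁻¹ = (a : G) * ((a : G) * P.z * (a : G)⁻¹) * (a : G)⁻¹ by group, haz, haw])
  have haaw : ((a : G) * a) * P.w = P.w * ((a : G) * a) := mul_inv_eq_iff_eq_mul.1 (by
    rw [show (a : G) * a * P.w * ((a : G) * a)⁻¹ = (a : G) * ((a : G) * P.w * (a : G)⁻¹) * (a : G)⁻¹ by group, haw, haz])
  have haaD : (a : G) * a ∈ P.D := by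
    rcases O.kernel_two ((C.t_central a).mul_left (C.t_central a)).eq haaz haaw with ⟨i, k, b, e⟩ | h
    · have hd : P.z ^ (i : ℕ) * P.w ^ (k : ℕ) ∈ P.D := mul_mem (pow_mem P.z_D _) (pow_mem P.w_D _)
      rcases (by decide : ∀ b : Fin 2, b = 0 ∨ b = 1) b with rfl | rfl
      · rw [e, Fin.val_zero, pow_zero, mul_one]; exact hd
      · exfalso
        rw [e, Fin.val_one, pow_one, O.wact_mul (P.D_NT hd) P.t_NT, O.wact_J hd, O.wact_t, (cmp_one _).2] at hwaa
        exact rot_facts.2.2.2.2.2.2.2.2.2.2.2.1 hwaa.symm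
    · exfalso
      rcases h with h | h <;> rw [hwaa] at h
      · exact rot_facts.2.2.2.2.2.2.2.1 h
      · exact rot_facts.2.2.2.2.2.2.2.2.1 h
  have hff : (f : G) * f = 1 := by
    show (a : G) * ((a : G) * a) * ((a : G) * ((a : G) * a)) = 1
    have h := C.J_exp _ haaD.1
    rw [← h]; simp only [pow_succ, pow_zero, one_mul, mul_assoc]
  have hsgf : X.sg f = -1 := by
    have hgg : X.sg (gC * gC) = 1 := X.im_D P.g_g_D
    have hg : X.sg gC = 1 := by
      have h := X.sg_g0 O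
      rw [show (⟨P.g0, P.g0_Ct⟩ : C.Ct) = gC * gC * gC from rfl, map_mul, hgg, one_mul] at h
      exact h
    have hrs : X.sg r = -1 := by
      show Perm.sign (X.im r) = -1
      rw [hr, sign8_facts.2.2.2.1]
    have has : X.sg a = -1 := by rw [ha, map_mul, hg, one_mul, hrs]
    rw [hf, map_mul X.sg a (a * a), map_mul X.sg a a, has]; decide
  have hay : Commute (a : G) P.y := by
    have h1 : Commute P.g P.y := mul_inv_eq_iff_eq_mul.1 P.g_y
    have h2 : Commute (r : G) P.y := by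
      rw [Conf.Pair.y]; exact (show Commute (r : G) P.z from hrz).mul_right hrw
    exact h1.mul_left h2
  have hfy : Commute (f : G) P.y := hay.mul_left (hay.mul_left hay)
  have hfN : (f : G) ∈ P.NT := mul_mem haN (mul_mem haN haN)
  have hfv : Commute (f : G) (O.wv v) := mul_inv_eq_iff_eq_mul.1 (by rw [O.wact_spec hfN, hwf, hv])
  have hqr : C.qt r = X.K.F t0 := by rw [← X.Φ_im, hr, ← X.ΦF, sign8_facts.2.2.2.2.2]
  have hag : Commute (C.qt gC) (C.qt r) := by
    have e : gC = (gC * gC)⁻¹ * ⟨P.g0, P.g0_Ct⟩ := Subtype.ext (by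
      show P.g = (P.g * P.g)⁻¹ * P.g0
      rw [Conf.Pair.g0]; group)
    rw [e, map_mul, map_inv]
    refine (Commute.inv_left ?_).mul_left ?_
    · show C.qt (gC * gC) * C.qt r = C.qt r * C.qt (gC * gC)
      rw [← map_mul, ← map_mul]
      exact congrArg C.qt (Subtype.ext (hrD _ P.g_g_D).symm)
    · rw [← X.Ks, hqr]; exact X.K.s_comm_t
  have hqa : Commute (C.qt a) (C.qt r) := by rw [ha, map_mul]; exact hag.mul_left (Commute.refl _)
  have hqf : Commute (C.qt f) (C.qt r) := by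
    rw [hf, map_mul, map_mul]; exact hqa.mul_left (hqa.mul_left hqa)
  have anti : ∀ u : C.Ct, Commute (C.qt u) (C.qt r) → (u : G) ∈ P.NT →
      cmp (O.wact (r : G)) (O.wact (u : G)) ≠ cmp (O.wact (u : G)) (O.wact (r : G)) →
      (r : G) * u * (r : G)⁻¹ = u * C.t := by
    intro u hq hu hne
    have e : C.qt u = C.qt (r * u * r⁻¹) := by
      rw [map_mul, map_mul, map_inv, hq.symm.eq, mul_inv_cancel_right]
    rcases C.qt_eq.1 e with h | h
    · exfalso
      apply hne
      rw [← O.wact_mul hrN hu, ← O.wact_mul hu hrN]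
      exact congrArg O.wact (mul_inv_eq_iff_eq_mul.1 h)
    · exact h
  refine ⟨f, hff, hsgf, ?_, ⟨r, anti f hqf hfN (by rw [hwf]; exact hR2)⟩, ⟨r, anti ⟨P.g0, P.g0_Ct⟩ ?_ ?_ ?_⟩⟩
  rotate_left
  · rw [← X.Ks, hqr]; exact X.K.s_comm_t
  · exact mul_mem (mul_mem P.g_NT P.g_NT) P.g_NT
  · show cmp _ (O.wact P.g0) ≠ cmp (O.wact P.g0) _
    rw [Conf.Pair.g0, O.wact_mul (mul_mem P.g_NT P.g_NT) P.g_NT, O.wact_J P.g_g_D, (cmp_one _).2]
    exact hR3
  -- not conjugate to the involution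
  intro k hk
  haveI : Fact (Nat.Prime 3) := ⟨Nat.prime_three⟩
  have hv3 : O.wv v ^ 3 = 1 := C.J_exp _ (O.wv_J v)
  have hvy : Commute (O.wv v) P.y := C.J_comm _ (O.wv_J v) _ P.y_J
  let E : Multiplicative (ZMod 3) × Multiplicative (ZMod 3) →* G :=
    { toFun := fun p => O.wv v ^ (Multiplicative.toAdd p.1).val * P.y ^ (Multiplicative.toAdd p.2).val
      map_one' := by simp
      map_mul' := fun p q => by
        simp only [Prod.fst_mul, Prod.snd_mul, toAdd_mul, pow_val_add hv3, pow_val_add O.y3]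
        calc O.wv v ^ (Multiplicative.toAdd p.1).val * O.wv v ^ (Multiplicative.toAdd q.1).val *
              (P.y ^ (Multiplicative.toAdd p.2).val * P.y ^ (Multiplicative.toAdd q.2).val)
            = O.wv v ^ (Multiplicative.toAdd p.1).val * (O.wv v ^ (Multiplicative.toAdd q.1).val *
              P.y ^ (Multiplicative.toAdd p.2).val) * P.y ^ (Multiplicative.toAdd q.2).val := by group
          _ = _ := by rw [(hvy.pow_pow _ _).eq]; group }
  have hEp : ∀ p, E p = O.wv v ^ (Multiplicative.toAdd p.1).val * P.y ^ (Multiplicative.toAdd p.2).val :=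
    fun _ => rfl
  have hEwv : ∀ p, E p = O.wv ((Multiplicative.toAdd p.1) * v.1, (Multiplicative.toAdd p.1) * v.2) *
      P.y ^ (Multiplicative.toAdd p.2).val := fun p => by rw [hEp, O.wv_pow]
  have hEinj : Function.Injective E := by
    refine (injective_iff_map_eq_one E).2 fun p hp => ?_
    rw [hEwv, O.wv_eq, mul_assoc, ← pow_add] at hp
    have h0 := v0_inj _ _ (O.co_inj_mod (v := v0 0) (d := 0)
      (hp.trans (by rw [show v0 0 = 1 from rfl, map_one, pow_zero, mul_one])))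
    have hi : Multiplicative.toAdd p.1 = 0 := by
      by_contra hne
      exact (mem_zero_three _ v hv1 hv2 hne).1 (congrArg Prod.fst h0)
    have hp' : P.y ^ (Multiplicative.toAdd p.2).val = 1 := by
      have h := hEp p
      rw [hi, ZMod.val_zero, pow_zero, one_mul] at h
      rw [← h]
      rw [hEwv, O.wv_eq, mul_assoc, ← pow_add]; exact hp
    have hj : Multiplicative.toAdd p.2 = 0 := by
      have hd := (P.y_pow_one (i := 0) (d := ⟨(Multiplicative.toAdd p.2).val, ZMod.val_lt _⟩)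
        (by rw [hp']; simp)).2
      exact (ZMod.val_eq_zero _).1 (congrArg Fin.val hd)
    exact Prod.ext (toAdd_eq_zero.1 hi) (toAdd_eq_zero.1 hj)
  have hEk : ∀ p, k⁻¹ * E p * k ∈ C.Ct := fun p => C.mem_Ct.2 (by
    have hc : Commute (E p) (f : G) := by
      rw [hEp]; exact ((hfv.symm.pow_left _).mul_left (hfy.symm.pow_left _))
    calc k⁻¹ * E p * k * C.t = k⁻¹ * (E p * (k * C.t * k⁻¹)) * k := by group
      _ = k⁻¹ * ((k * C.t * k⁻¹) * E p) * k := by rw [hk, hc.eq]
      _ = _ := by group)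
  set E' : Multiplicative (ZMod 3) × Multiplicative (ZMod 3) →* C.Ct :=
    ((MulAut.conj k⁻¹).toMonoidHom.comp E).codRestrict C.Ct (fun p => by simpa using hEk p) with hE'
  have hE'v : ∀ p, ((E' p : C.Ct) : G) = k⁻¹ * E p * k := fun p => by simp [hE']
  have hE'inj : Function.Injective E' := fun p q h => hEinj (by
    have := congrArg Subtype.val h
    rw [hE'v, hE'v] at this
    exact mul_left_cancel (mul_right_cancel this))
  have hDC : P.D ≤ C.Ct := fun d hd => C.mem_Ct.2 hd.2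
  have hcE : Nat.card E'.range = 3 ^ 2 := by
    rw [Nat.card_congr (MonoidHom.ofInjective hE'inj).toEquiv.symm, Nat.card_prod]
    simp
  have hcD : Nat.card (P.D.subgroupOf C.Ct) = 3 ^ 2 := by
    rw [Nat.card_congr (subgroupOfEquivOfLe hDC).toEquiv, P.card_D]; rfl
  have top : ∀ H : Subgroup C.Ct, Nat.card H = 3 ^ 2 → ∃ R : Sylow 3 C.Ct, (R : Subgroup C.Ct) = H := by
    intro H hH
    obtain ⟨R, hR⟩ := (IsPGroup.of_card hH).exists_le_sylow
    refine ⟨R, (eq_of_le_of_card_ge hR ?_).symm⟩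
    obtain ⟨n, hn⟩ := IsPGroup.iff_card.1 R.isPGroup'
    rw [hH, hn]
    refine Nat.pow_le_pow_right (by norm_num) ?_
    by_contra hlt
    exact O.not27 ((pow_dvd_pow 3 (show 3 ≤ n by omega)).trans (hn ▸ card_subgroup_dvd_card _))
  obtain ⟨R1, hR1'⟩ := top _ hcE
  obtain ⟨R2, hR2'⟩ := top _ hcD
  obtain ⟨c, hc⟩ := MulAction.exists_smul_eq C.Ct R1 R2
  have hzm : (⟨P.z, hDC P.z_D⟩ : C.Ct) ∈ (R2 : Subgroup C.Ct) := hR2'.symm ▸ mem_subgroupOf.2 P.z_D
  rw [← hc, Sylow.coe_subgroup_smul, hR1'] at hzm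
  obtain ⟨_, ⟨p, rfl⟩, hp⟩ := hzm
  have e : (k * (c : G)⁻¹) * P.z * (k * (c : G)⁻¹)⁻¹ = E p := by
    have h := congrArg Subtype.val hp
    change (c : G) * (E' p : C.Ct) * (c : G)⁻¹ = P.z at h
    rw [← h, hE'v]; group
  have hj3 : (Multiplicative.toAdd p.2).val < 3 := ZMod.val_lt _
  by_cases hi : Multiplicative.toAdd p.1 = 0
  · exact P.np_y ⟨_, hj3⟩ _ (e.trans (by rw [hEp, hi, ZMod.val_zero, pow_zero, one_mul]))
  · obtain ⟨h1, h2⟩ := mem_zero_three _ v hv1 hv2 hi
    exact O.np_diag _ h1 h2 ⟨_, hj3⟩ _ (e.trans (hEwv p))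

/-- Every involution of the centraliser other than `t` is inverted by a factor `t`. -/
theorem anti (O : P.Point) {u : C.Ct} (hu : (u : G) * u = 1) (h1 : (u : G) ≠ 1) (ht : (u : G) ≠ C.t) :
    ∃ a : C.Ct, (a : G) * u * (a : G)⁻¹ = u * C.t := by
  obtain ⟨f, hff, hsf, -, hfa, hga⟩ := X.exists_f O
  have hf1 : (f : G) ≠ 1 := fun e => by
    rw [show f = 1 from Subtype.ext e, map_one] at hsf; exact absurd hsf (by decide)
  have hft : (f : G) ≠ C.t := fun e => by
    obtain ⟨a, ha⟩ := hfa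
    rw [e, mul_inv_eq_iff_eq_mul.2 (C.t_central a), C.tt] at ha
    exact C.t_ne ha
  obtain ⟨hg1, hgt⟩ := X.g0_facts
  have hsign : ∀ {σ : Perm (Fin 8)} {v : C.Ct}, IsConj σ (X.im v) → X.sg v = Perm.sign σ := by
    intro σ v h
    obtain ⟨c, hc⟩ := isConj_iff.1 h
    show Perm.sign (X.im v) = _
    rw [← hc, map_mul, map_mul, map_inv, mul_comm (Perm.sign c), mul_inv_cancel_right]
  obtain ⟨v, hv, ⟨a, ha⟩⟩ : ∃ v : C.Ct, IsConj (X.im v) (X.im u) ∧
      ∃ a : C.Ct, (a : G) * v * (a : G)⁻¹ = v * C.t := by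
    rcases X.invol_class O hu h1 ht with h | h
    · refine ⟨f, IsConj.trans (IsConj.symm ?_) h, hfa⟩
      rcases X.invol_class O hff hf1 hft with h' | h'
      · exact h'
      · exact absurd (hsf.symm.trans ((hsign h').trans sign8_facts.2.1)) (by decide)
    · refine ⟨⟨P.g0, P.g0_Ct⟩, IsConj.trans (IsConj.symm ?_) h, hga⟩
      rcases X.invol_class O (u := ⟨P.g0, P.g0_Ct⟩) P.g0_sq hg1 hgt with h' | h'
      · exact absurd ((X.sg_g0 O).symm.trans ((hsign h').trans sign8_facts.1)) (by decide)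
      · exact h'
  obtain ⟨k, e⟩ := X.conj_lift hv
  refine ⟨k * a * k⁻¹, ?_⟩
  have hkt : (k : G) * C.t * (k : G)⁻¹ = C.t := mul_inv_eq_iff_eq_mul.2 (C.t_central k)
  have main : ((k * a * k⁻¹ : C.Ct) : G) * ((k : G) * v * (k : G)⁻¹) * ((k * a * k⁻¹ : C.Ct) : G)⁻¹ =
      (k : G) * v * (k : G)⁻¹ * C.t := by
    simp only [Subgroup.coe_mul, InvMemClass.coe_inv]
    calc (k : G) * a * (k : G)⁻¹ * ((k : G) * v * (k : G)⁻¹) * ((k : G) * a * (k : G)⁻¹)⁻¹
        = (k : G) * ((a : G) * v * (a : G)⁻¹) * (k : G)⁻¹ := by group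
      _ = ((k : G) * v * (k : G)⁻¹) * ((k : G) * C.t * (k : G)⁻¹) := by rw [ha]; group
      _ = _ := by rw [hkt]
  rcases e with e | e <;> rw [e]
  · exact main
  · set b := ((k * a * k⁻¹ : C.Ct) : G)
    rw [show b * ((k : G) * v * (k : G)⁻¹ * C.t) * b⁻¹ = (b * ((k : G) * v * (k : G)⁻¹) * b⁻¹) * (b * C.t * b⁻¹) by
      group, main, mul_inv_eq_iff_eq_mul.2 (C.t_central (k * a * k⁻¹))]

/-- The index of the centraliser of the involution is odd. -/
theorem index_odd (O : P.Point) : Odd C.Ct.index := by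
  classical
  haveI : Fact (Nat.Prime 2) := ⟨Nat.prime_two⟩
  have hX : Nat.card C.Xt = 40320 := by
    rw [← Nat.card_congr X.Φ.toEquiv, Nat.card_eq_fintype_card, Fintype.card_perm, Fintype.card_fin]; rfl
  have hC : Nat.card C.Ct = 80640 := by rw [C.card_Ct, hX]
  obtain ⟨T, hT⟩ := Sylow.exists_subgroup_card_pow_prime 2 (G := C.Ct) (n := 8) (by rw [hC]; norm_num)
  set T' := T.map C.Ct.subtype with hT'
  have hT'c : Nat.card T' = 2 ^ 8 := by rw [card_map_of_injective C.Ct.subtype_injective, hT]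
  obtain ⟨R, hR⟩ := (IsPGroup.of_card hT'c).exists_le_sylow
  have htop : ∀ U : Subgroup C.Ct, T ≤ U → IsPGroup 2 U → U ≤ T := by
    intro U hle hU
    refine le_of_eq (eq_of_le_of_card_ge hle ?_).symm
    obtain ⟨n, hn⟩ := IsPGroup.iff_card.1 hU
    rw [hT, hn]
    refine Nat.pow_le_pow_right (by norm_num) ?_
    by_contra hlt
    have := (pow_dvd_pow 2 (show 9 ≤ n by omega)).trans (hn ▸ card_subgroup_dvd_card U)
    rw [hC] at this
    norm_num at this
  have htT : (⟨C.t, C.t_Ct⟩ : C.Ct) ∈ T := by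
    have hn : Nat.card C.Tt = 2 ^ 1 := by rw [C.card_Tt]; rfl
    have := htop (T ⊔ C.Tt) le_sup_left ((IsPGroup.of_card hT).to_sup_of_normal_right (IsPGroup.of_card hn))
    exact this ((le_sup_right : C.Tt ≤ T ⊔ C.Tt) (mem_subgroupOf.2 (mem_zpowers _)))
  have hRT : (R : Subgroup G) = T' := by
    refine le_antisymm ?_ hR
    by_contra hne
    haveI : Group.IsNilpotent (R : Subgroup G) := R.isPGroup'.isNilpotent
    obtain ⟨x, hxn, hxT⟩ := SetLike.exists_of_lt (Group.normalizerCondition_of_isNilpotent (G := (R : Subgroup G))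
      (T'.subgroupOf R) (lt_top_iff_ne_top.2 fun e => hne (subgroupOf_eq_top.1 e)))
    have hxconj : ∀ h ∈ T', (x : G) * h * (x : G)⁻¹ ∈ T' := fun h hh =>
      mem_subgroupOf.1 ((mem_normalizer_iff.1 hxn ⟨h, hR hh⟩).1 (mem_subgroupOf.2 hh))
    have hxconj' : ∀ h ∈ T', (x : G)⁻¹ * h * x ∈ T' := fun h hh => by
      have := mem_subgroupOf.1 ((mem_normalizer_iff.1 (inv_mem hxn) ⟨h, hR hh⟩).1 (mem_subgroupOf.2 hh))
      simpa using this
    obtain ⟨u, huT, hu'⟩ := hxconj C.t ⟨_, htT, rfl⟩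
    have hu : (u : G) = (x : G) * C.t * (x : G)⁻¹ := hu'
    have hucent : ∀ h ∈ T, Commute (h : G) (u : G) := by
      intro h hh
      obtain ⟨h', -, e⟩ := hxconj' _ ⟨h, hh, rfl⟩
      have hh' : Commute ((x : G)⁻¹ * h * x) C.t := by
        rw [show (x : G)⁻¹ * h * x = (h' : G) from e.symm]; exact C.t_central h'
      rw [show (u : G) = (x : G) * C.t * (x : G)⁻¹ from hu]
      show (h : G) * ((x : G) * C.t * (x : G)⁻¹) = (x : G) * C.t * (x : G)⁻¹ * h
      calc (h : G) * ((x : G) * C.t * (x : G)⁻¹) = (x : G) * (((x : G)⁻¹ * h * x) * C.t) * (x : G)⁻¹ := by group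
        _ = (x : G) * (C.t * ((x : G)⁻¹ * h * x)) * (x : G)⁻¹ := by rw [hh'.eq]
        _ = _ := by group
    by_cases hut : (u : G) = C.t
    · have hxC : (x : G) ∈ C.Ct := C.mem_Ct.2 (mul_inv_eq_iff_eq_mul.1 (hu.symm.trans hut))
      have hle := htop ((R : Subgroup G).subgroupOf C.Ct) (fun h hh => mem_subgroupOf.2 (hR ⟨h, hh, rfl⟩))
        R.isPGroup'.comap_subtype
      refine hxT (mem_subgroupOf.2 ⟨⟨x, hxC⟩, hle (mem_subgroupOf.2 x.2), rfl⟩)
    · have hu2 : (u : G) * u = 1 := by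
        rw [show (u : G) = (x : G) * C.t * (x : G)⁻¹ from hu,
          show (x : G) * C.t * (x : G)⁻¹ * ((x : G) * C.t * (x : G)⁻¹) = (x : G) * (C.t * C.t) * (x : G)⁻¹ by group,
          C.tt, mul_one, mul_inv_cancel]
      have hu1 : (u : G) ≠ 1 := fun e => C.t_ne (by
        have := hu.symm.trans e
        exact conj_eq_one_iff.1 this)
      obtain ⟨a, ha⟩ := X.anti O hu2 hu1 hut
      set B := (centralizer ({C.qt u} : Set C.Xt)).comap C.qt with hB
      set H := centralizer ({u} : Set C.Ct) with hH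
      have hTH : T ≤ H := fun h hh => mem_centralizer_singleton_iff.2 (Subtype.ext (hucent h hh).eq)
      have hHB : H ≤ B := fun h hh => mem_centralizer_singleton_iff.2 (by
        rw [← map_mul, ← map_mul, mem_centralizer_singleton_iff.1 hh])
      have haB : a ∈ B := mem_centralizer_singleton_iff.2 (by
        rw [← mul_inv_eq_iff_eq_mul, ← map_inv, ← map_mul, ← map_mul]
        exact (C.qt_eq.2 (Or.inr ha)).symm)
      have hcases : ∀ b ∈ B, (b : G) * u * (b : G)⁻¹ = u ∨ (b : G) * u * (b : G)⁻¹ = u * C.t := fun b hb =>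
        (C.qt_eq (a := u) (b := b * u * b⁻¹)).1 (by
          rw [map_mul, map_mul, map_inv, mem_centralizer_singleton_iff.1 hb, mul_inv_cancel_right])
      have hut' : (u : G) * C.t ≠ u := fun e => C.t_ne (mul_eq_left.1 e)
      have hidx : (H.subgroupOf B).index = 2 := by
        rw [Subgroup.index_eq_two_iff]
        refine ⟨⟨a, haB⟩, fun b => ?_⟩
        have hmul : ∀ c : C.Ct, c ∈ H ↔ (c : G) * u * (c : G)⁻¹ = u := fun c => by
          rw [hH, mem_centralizer_singleton_iff, mul_inv_eq_iff_eq_mul, Subtype.ext_iff]; rfl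
        have hba : ((b : C.Ct) : G) * a * u * (((b : C.Ct) : G) * a)⁻¹ =
            ((b : C.Ct) : G) * u * ((b : C.Ct) : G)⁻¹ * C.t := by
          calc ((b : C.Ct) : G) * a * u * (((b : C.Ct) : G) * a)⁻¹
              = ((b : C.Ct) : G) * ((a : G) * u * (a : G)⁻¹) * ((b : C.Ct) : G)⁻¹ := by group
            _ = (((b : C.Ct) : G) * u * ((b : C.Ct) : G)⁻¹) * (((b : C.Ct) : G) * C.t * ((b : C.Ct) : G)⁻¹) := by
                rw [ha]; group
            _ = _ := by rw [mul_inv_eq_iff_eq_mul.2 (C.t_central b.1)]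
        simp only [mem_subgroupOf, hmul, Subgroup.coe_mul, hba]
        rcases hcases b.1 b.2 with e | e <;> rw [e]
        · exact Or.inr ⟨rfl, hut'⟩
        · exact Or.inl ⟨by rw [mul_assoc, C.tt, mul_one], hut'⟩
      have hBc : Nat.card B = 2 * Nat.card (centralizer ({C.qt u} : Set C.Xt)) := C.card_comap _
      have hHc := (H.subgroupOf B).card_mul_index
      rw [Nat.card_congr (subgroupOfEquivOfLe hHB).toEquiv, hidx, hBc, mul_comm, Nat.mul_left_cancel_iff two_pos] at hHc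
      have h256 := (card_dvd_of_le hTH).trans (hHc ▸ card_subgroup_dvd_card (centralizer ({C.qt u} : Set C.Xt)))
      rw [hT, hX] at h256
      norm_num at h256
  have hdvd : C.Ct.index ∣ (R : Subgroup G).index := index_dvd_of_le (by
    rw [hRT, hT']; exact map_subtype_le T)
  exact Odd.of_dvd_nat (Nat.odd_iff.2 (Nat.two_dvd_ne_zero.1 R.not_dvd_index)) hdvd

/-- The character. -/
theorem exists_char (O : P.Point) : ∃ χ : G →* ℤˣ, Function.Surjective χ ∧ ∀ x : C.Ct, χ x = X.sg x := by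
  classical
  obtain ⟨f, hff, hsf, hfc, -, -⟩ := X.exists_f O
  set M := X.sg.ker.map C.Ct.subtype with hM
  have hf1 : (f : G) ≠ 1 := fun e => by
    rw [show f = 1 from Subtype.ext e, map_one] at hsf; exact absurd hsf (by decide)
  have hidx : M.index = 2 * C.Ct.index := by
    rw [hM, index_map_subtype, index_ker, MonoidHom.range_eq_top.2 (fun x => by
      rcases Int.units_eq_one_or x with rfl | rfl
      · exact ⟨1, map_one _⟩
      · exact ⟨f, hsf⟩), card_top, Nat.card_eq_fintype_card (α := ℤˣ), Fintype.card_units_int]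
  obtain ⟨χ, hχ⟩ := SignThompson.exists_sign_hom M (f : G) 0 C.Ct.index
    (by rw [zero_add, pow_one]; exact orderOf_eq_prime (by rw [pow_two, hff]) hf1)
    (fun g hg => by
      rw [pow_zero, pow_one] at hg
      obtain ⟨u, hu, e⟩ := hg
      have e' : (u : G) = g⁻¹ * f * g := e
      have hu1 : (u : G) ≠ 1 := fun h => hf1 (by
        calc (f : G) = g * (g⁻¹ * f * g) * g⁻¹ := by group
          _ = 1 := by rw [← e', h]; group)
      have hu2 : (u : G) * u = 1 := by
        rw [e', show g⁻¹ * (f : G) * g * (g⁻¹ * f * g) = g⁻¹ * ((f : G) * f) * g by group, hff, mul_one,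
          inv_mul_cancel]
      obtain ⟨k, hk⟩ := X.inner O hu2 hu1 (MonoidHom.mem_ker.1 hu)
      refine hfc (g * k) ?_
      rw [show g * k * C.t * (g * k)⁻¹ = g * (k * C.t * k⁻¹) * g⁻¹ by group, hk, e']; group)
    (X.index_odd O) (by rw [hidx, zero_add, pow_one])
  refine ⟨χ, fun x => ?_, fun x => ?_⟩
  · rcases Int.units_eq_one_or x with rfl | rfl
    · exact ⟨1, map_one _⟩
    · exact ⟨f, hχ⟩
  · obtain ⟨r, -, hrr, -⟩ := X.exists_r O
    set α : C.Ct →* ℤˣ := χ.comp C.Ct.subtype with hα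
    have hαt : α ⟨C.t, C.t_Ct⟩ = 1 := by
      rw [show (⟨C.t, C.t_Ct⟩ : C.Ct) = r * r from Subtype.ext hrr.symm, map_mul, Int.units_mul_self]
    have hle : X.im.ker ≤ α.ker := fun a ha => by
      rw [MonoidHom.mem_ker] at ha ⊢
      rcases X.im_one.1 ha with h | h
      · rw [show a = 1 from Subtype.ext h, map_one]
      · rw [show a = ⟨C.t, C.t_Ct⟩ from Subtype.ext h, hαt]
    set β := X.im.liftOfSurjective X.im_surj ⟨α, hle⟩ with hβ
    have hβv : ∀ a, β (X.im a) = α a := fun a => X.im.liftOfRightInverse_comp_apply _ _ _ a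
    have hsig : β = Perm.sign := Perm.eq_sign_of_surjective_hom fun x => by
      rcases Int.units_eq_one_or x with rfl | rfl
      · exact ⟨1, map_one _⟩
      · exact ⟨X.im f, by rw [hβv]; exact hχ⟩
    show α x = _
    rw [← hβv, hsig]; rfl

end Octad

end Cfsg.Agent.McLThree
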