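import Cfsg.Agent.Lib.McLThree.Basic
import Cfsg.Agent.Lib.S8Three.Sub
import Mathlib.GroupTheory.Frattini

/-!
Restriction of a configuration to a subgroup containing `L` and `M`.
-/

set_option autoImplicit false
set_option maxRecDepth 20000
set_option maxHeartbeats 1000000
set_option synthInstance.maxSize 4000
set_option synthInstance.maxHeartbeats 400000
set_option linter.style.haveILetI false
set_option linter.unusedSectionVars false

namespace Cfsg.Agent.McLThree

open Subgroup

theorem extraspecial_equiv {A B : Type*} [Group A] [Group B] (e : A ≃* B) {p : ℕ}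
    (h : Cfsg.IsExtraspecial p A) : Cfsg.IsExtraspecial p B := by
  obtain ⟨⟨hp, hf, hc⟩, hz⟩ := h
  have hcen : (center A).map e.toMonoidHom = center B := by
    ext b
    constructor
    · rintro ⟨a, ha, rfl⟩
      refine mem_center_iff.2 fun x => ?_
      obtain ⟨x, rfl⟩ := e.surjective x
      show e x * e a = e a * e x
      rw [← map_mul, ← map_mul, mem_center_iff.1 ha x]
    · intro hb
      refine ⟨e.symm b, mem_center_iff.2 fun x => e.injective ?_, e.apply_symm_apply b⟩
      rw [map_mul, map_mul, e.apply_symm_apply, mem_center_iff.1 hb (e x)]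
  have hfr : (frattini A).map e.toMonoidHom = frattini B := by
    refine le_antisymm (map_le_iff_le_comap.2
      (frattini_le_comap_frattini_of_surjective (φ := e.toMonoidHom) e.surjective)) fun x hx => ?_
    exact ⟨e.symm x, frattini_le_comap_frattini_of_surjective (φ := e.symm.toMonoidHom) e.symm.surjective hx,
      e.apply_symm_apply x⟩
  have hcm : (commutator A).map e.toMonoidHom = commutator B := by
    rw [commutator_def, commutator_def, map_commutator, map_top_of_surjective _ e.surjective]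
  refine ⟨⟨hp.of_equiv e, ?_, ?_⟩, ?_⟩
  · rw [← hfr, hf, hcen]
  · rw [← hcm, hc, hcen]
  · rw [← hcen, card_map_of_injective e.injective, hz]

namespace Conf

variable {G : Type*} [Group G] [Finite G] (C : Conf G)
include C

theorem Z_le_L : C.Z ≤ C.L := fun z hz => C.QL ((C.Z_center z).1 hz).1

/-- The configuration in a subgroup containing `L` and `M`. -/
noncomputable def restrict (K : Subgroup G) (hL : C.L ≤ K) (hM : C.M ≤ K) : Conf K where
  Z := C.Z.subgroupOf K
  Q := C.Q.subgroupOf K
  L := C.L.subgroupOf K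
  S := C.S.subgroupOf K
  J := C.J.subgroupOf K
  M := C.M.subgroupOf K
  card_Z := by rw [Nat.card_congr (subgroupOfEquivOfLe (C.Z_le_L.trans hL)).toEquiv, C.card_Z]
  card_Q := by rw [Nat.card_congr (subgroupOfEquivOfLe (C.QL.trans hL)).toEquiv, C.card_Q]
  card_S := by rw [Nat.card_congr (subgroupOfEquivOfLe (C.SL.trans hL)).toEquiv, C.card_S]
  card_J := by rw [Nat.card_congr (subgroupOfEquivOfLe (C.JM.trans hM)).toEquiv, C.card_J]
  not_dvd h := C.not_dvd (h.trans (card_subgroup_dvd_card K))
  extra := extraspecial_equiv (subgroupOfEquivOfLe (C.QL.trans hL)).symm C.extra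
  exp_Q a ha := Subtype.ext (by rw [SubmonoidClass.coe_pow]; exact C.exp_Q _ (mem_subgroupOf.1 ha))
  Z_center x := by
    simp only [mem_subgroupOf, C.Z_center, Subtype.ext_iff, Subgroup.coe_mul]
    exact and_congr_right fun _ => ⟨fun h q hq => h q hq, fun h q hq => h ⟨q, (C.QL.trans hL) hq⟩ hq⟩
  cent_Q x h := mem_subgroupOf.2 (C.cent_Q _ fun q hq =>
    congrArg Subtype.val (h ⟨q, (C.QL.trans hL) hq⟩ hq))
  normQ g hg q hq := mem_subgroupOf.2
    (C.normQ _ ((S8Three.norm_sub (C.Z_le_L.trans hL) g).1 hg) _ (mem_subgroupOf.1 hq))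
  L_norm x hx := (S8Three.norm_sub (C.Z_le_L.trans hL) x).2 (C.L_norm (mem_subgroupOf.1 hx))
  normL g hg x hx := mem_subgroupOf.2
    (C.normL _ ((S8Three.norm_sub (C.Z_le_L.trans hL) g).1 hg) _ (mem_subgroupOf.1 hx))
  QL x hx := C.QL hx
  pi := C.pi.comp (subgroupOfEquivOfLe hL).toMonoidHom
  pi_surj := C.pi_surj.comp (subgroupOfEquivOfLe hL).surjective
  pi_ker x := C.pi_ker (subgroupOfEquivOfLe hL x)
  three_L g hg ho := mem_subgroupOf.2
    (C.three_L _ ((S8Three.norm_sub (C.Z_le_L.trans hL) g).1 hg) (by rwa [Subgroup.orderOf_coe]))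
  SL x hx := C.SL hx
  JS x hx := C.JS hx
  J_comm a ha b hb := Subtype.ext (C.J_comm _ ha _ hb)
  J_exp a ha := Subtype.ext (by rw [SubmonoidClass.coe_pow]; exact C.J_exp _ (mem_subgroupOf.1 ha))
  JM x hx := C.JM hx
  M_norm x hx := (S8Three.norm_sub (C.JM.trans hM) x).2 (C.M_norm (mem_subgroupOf.1 hx))
  phi := C.phi.comp (subgroupOfEquivOfLe hM).toMonoidHom
  phi_surj := C.phi_surj.comp (subgroupOfEquivOfLe hM).surjective
  phi_ker x := C.phi_ker (subgroupOfEquivOfLe hM x)
  three_M g hg ho := mem_subgroupOf.2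
    (C.three_M _ ((S8Three.norm_sub (C.JM.trans hM) g).1 hg) (by rwa [Subgroup.orderOf_coe]))

end Conf

end Cfsg.Agent.McLThree
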