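import Cfsg.Agent.Lib.McLThree.A8case
import Cfsg.Agent.Lib.McLThree.Outer
import Cfsg.Agent.Lib.McLThree.Restrict

/-!
When the centraliser of `Z` is larger than `L`, the kernel of the character is McLaughlin's group.
-/

set_option autoImplicit false
set_option maxRecDepth 20000
set_option maxHeartbeats 1000000
set_option synthInstance.maxSize 4000
set_option synthInstance.maxHeartbeats 400000
set_option linter.style.haveILetI false
set_option linter.unusedSectionVars false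

namespace Cfsg.Agent.McLThree

open Subgroup Equiv
open Cfsg.Agent.S8Three (LL z0 w0 emb8)

theorem even_z_card : Fintype.card {q : LL // q * z0 = z0 * q ∧ Perm.sign q.2 = 1} = 180 := by
  decide +kernel

theorem sign_P3' : ∀ p : Perm (Fin 3), p ∈ S8Three.P3 → Perm.sign p = 1 := by decide +kernel

namespace Conf

variable {G : Type*} [Group G] [Finite G] (C : Conf G)
include C

theorem odd_pow_trivial (χ : G →* ℤˣ) {x : G} {n : ℕ} (hn : Odd n) (h : x ^ n = 1) : χ x = 1 := by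
  rcases Int.units_eq_one_or (χ x) with e | e
  · exact e
  · have h2 : χ x ^ n = 1 := by rw [← map_pow, h, map_one]
    rw [e, Odd.neg_one_pow hn] at h2
    exact absurd h2 (by decide)

theorem L_le_ker (χ : G →* ℤˣ) : C.L ≤ χ.ker :=
  C.gen_five _ (fun q hq => C.odd_pow_trivial χ (n := 3) (by decide) (C.exp_Q q hq))
    (fun u _ hu => C.odd_pow_trivial χ (n := 5) (by decide) hu)

theorem M_le_ker (χ : G →* ℤˣ) : C.M ≤ χ.ker :=
  C.M_le_closure.trans ((closure_le _).2 fun _ hx =>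
    C.odd_pow_trivial χ (n := 729) (by decide) (orderOf_dvd_iff_pow_eq_one.1 hx.2))

end Conf

namespace Octad

variable {G : Type*} [Group G] [Finite G] {C : Conf G} {P : C.Pair} (X : Octad P)
include X

/-- Elements of the centraliser of `Z` with trivial sign lie in `L`. -/
theorem mem_L {χ : G →* ℤˣ} (hχ : ∀ x : C.Ct, χ x = X.sg x) {x : G} (hx : x ∈ C.CZ) (h1 : χ x = 1) :
    x ∈ C.L := by
  classical
  have hxN := C.CZ_le_norm hx
  have hc : x * C.t * x⁻¹ ∈ C.L := C.normL x hxN _ C.t_mem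
  have hc2 : (x * C.t * x⁻¹) * (x * C.t * x⁻¹) = 1 := by
    calc (x * C.t * x⁻¹) * (x * C.t * x⁻¹) = x * (C.t * C.t) * x⁻¹ := by group
      _ = 1 := by rw [C.tt]; group
  have hπ : C.pi ⟨_, hc⟩ = -1 := by
    refine invol25 _ (by rw [← map_mul, show (⟨_, hc⟩ : C.L) * ⟨_, hc⟩ = 1 from Subtype.ext hc2, map_one])
      fun h => C.t_notQ ?_
    have := C.normQ x⁻¹ (inv_mem hxN) _ ((C.pi_ker _).1 h)
    rwa [show x⁻¹ * (x * C.t * x⁻¹) * x⁻¹⁻¹ = C.t by group] at this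
  set q := C.t⁻¹ * (x * C.t * x⁻¹) with hq
  have hqQ : q ∈ C.Q := (C.pi_ker (⟨C.t, C.t_mem⟩⁻¹ * ⟨_, hc⟩)).1 (by
    rw [map_mul, map_inv, C.pi_t, hπ, inv_mul_cancel])
  have h4 : C.t * q * C.t = q⁻¹ := eq_inv_of_mul_eq_one_left (by
    rw [← hc2, hq, mul_inv_cancel_left]
    calc x * C.t * x⁻¹ * C.t * (C.t⁻¹ * (x * C.t * x⁻¹))
        = x * C.t * x⁻¹ * (x * C.t * x⁻¹) := by group
      _ = _ := rfl)
  have hxz : x * P.z = P.z * x := C.mem_CZ.1 hx _ P.z_mem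
  set x' := q⁻¹ * x with hx'
  have hx't : x' * C.t = C.t * x' := by
    have h3 : C.t * q⁻¹ = q * C.t := by
      rw [← h4]
      calc C.t * (C.t * q * C.t) = (C.t * C.t) * (q * C.t) := by group
        _ = _ := by rw [C.tt, one_mul]
    rw [hx']
    calc q⁻¹ * x * C.t = q⁻¹ * (x * C.t * x⁻¹) * x := by group
      _ = q⁻¹ * (C.t * q) * x := by rw [hq, mul_inv_cancel_left]
      _ = q⁻¹ * (C.t * q⁻¹) * (q * q * x) := by group
      _ = C.t * (q * q * x) := by rw [h3]; group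
      _ = C.t * (q⁻¹ * x) := by
          rw [show q * q = q⁻¹ from eq_inv_of_mul_eq_one_left (by
            rw [← C.exp_Q q hqQ, pow_succ, pow_two])]
  have hx'z : x' * P.z = P.z * x' :=
    ((show Commute q P.z from (C.zq P.z_mem hqQ).symm).inv_left.mul_left hxz).eq
  have hx'N : x' ∈ P.NZ := P.CZt_le_NZ (P.mem_CZt.2 ⟨hx'z, hx't⟩)
  have hsg : χ x' = 1 := by
    rw [hx', map_mul, map_inv, C.odd_pow_trivial χ (n := 3) (by decide) (C.exp_Q q hqQ), h1, inv_one, one_mul]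
  set n : P.NZ := ⟨x', hx'N⟩
  have hsz : ∀ m : P.NZ, (m : G) * P.z = P.z * m → X.Θ m * z0 = z0 * X.Θ m := fun m hm => by
    rw [← X.Θz, ← map_mul, ← map_mul]; exact congrArg X.Θ (Subtype.ext hm)
  have hsn : ∀ m : P.NZ, (m : G) * P.z = P.z * m → χ m = Perm.sign (X.Θ m).2 := fun m hm => by
    rw [show (m : G) = ((⟨m, P.NZ_Ct m.2⟩ : C.Ct) : G) from rfl, hχ]
    show Perm.sign (X.im _) = _
    rw [X.im_NZ, S8Three.emb8_sign, sign_P3' _ ((S8Three.comm_z0 _).1 (hsz m hm)), one_mul]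
  let ι : P.CL →* LL := X.Θ.comp (Subgroup.inclusion P.CL_le_NZ)
  have hι : ∀ y : P.CL, ι y * z0 = z0 * ι y ∧ Perm.sign (ι y).2 = 1 := fun y => by
    have hz : (y : G) * P.z = P.z * y := P.CL_z y.2
    refine ⟨hsz ⟨y, P.CL_le_NZ y.2⟩ hz, ?_⟩
    show Perm.sign (X.Θ ⟨y, P.CL_le_NZ y.2⟩).2 = 1
    rw [← hsn _ hz]
    exact C.L_le_ker χ (P.mem_CL.1 y.2).1
  have hk : ∀ y : P.CL, ι y = 1 ↔ (y : G) = 1 ∨ (y : G) = C.t := fun y => by
    rw [← map_eq_one_iff X.K.F X.K.F_inj]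
    show X.K.F (X.Θ _) = 1 ↔ _
    rw [X.Fv]; exact C.qt_one
  have hker : Nat.card ι.ker = 2 := by
    rw [Nat.card_eq_two_iff' 1]
    refine ⟨⟨⟨C.t, P.t_CL⟩, (hk _).2 (Or.inr rfl)⟩, fun e => C.t_ne ?_, fun y hy => ?_⟩
    · exact congrArg (fun y : ι.ker => ((y : P.CL) : G)) e
    · rcases (hk _).1 y.2 with e | e
      · exact absurd (Subtype.ext (Subtype.ext e)) hy
      · exact Subtype.ext (Subtype.ext e)
  have hrange : Nat.card ι.range = 180 := by
    have h := ι.ker.card_mul_index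
    rw [index_ker, hker, P.card_CL] at h
    omega
  have hinj : Function.Injective (fun y : ι.range => (⟨y, by
      obtain ⟨a, ha⟩ := y.2
      rw [← ha]; exact hι a⟩ : {q : LL // q * z0 = z0 * q ∧ Perm.sign q.2 = 1})) := fun a b e =>
    Subtype.ext (congrArg (fun q : {q : LL // q * z0 = z0 * q ∧ Perm.sign q.2 = 1} => (q : LL)) e :)
  have hbij := (Nat.bijective_iff_injective_and_card _).2 ⟨hinj,
    by rw [hrange, Nat.card_eq_fintype_card, even_z_card]⟩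
  obtain ⟨y, hy⟩ := hbij.2 ⟨X.Θ n, hsz n hx'z, by rw [← hsn n hx'z]; exact hsg⟩
  obtain ⟨a, ha⟩ := y.2
  have hna : X.Θ n = X.Θ ⟨a, P.CL_le_NZ a.2⟩ :=
    ((ha.trans (congrArg Subtype.val hy : (y : LL) = X.Θ n)).symm)
  have hx'L : x' ∈ C.L := by
    have h := congrArg X.K.F hna
    rw [X.Fv, X.Fv] at h
    rcases C.qt_eq.1 h.symm with e | e
    · rw [show x' = (a : G) from e]; exact (P.mem_CL.1 a.2).1
    · rw [show x' = (a : G) * C.t from e]; exact mul_mem (P.mem_CL.1 a.2).1 C.t_mem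
  have := mul_mem (C.QL hqQ) hx'L
  rwa [hx', mul_inv_cancel_left] at this

/-- The conclusion in this case. -/
theorem conclusion (O : P.Point) :
    ∃ G0 : Subgroup G, G0.index = 2 ∧ G0.Normal ∧ Subgroup.centralizer (G0 : Set G) = ⊥ ∧
      Nonempty (G0 ≃* Cfsg.Spor.McL) := by
  obtain ⟨χ, hχs, hχ⟩ := X.exists_char O
  set C' := C.restrict χ.ker (C.L_le_ker χ) (C.M_le_ker χ) with hC'
  have hCZ : C'.CZ ≤ C'.L := fun x hx => mem_subgroupOf.2 (X.mem_L hχ
    (C.mem_CZ.2 fun z hz => congrArg Subtype.val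
      (C'.mem_CZ.1 hx ⟨z, (C.Z_le_L.trans (C.L_le_ker χ)) hz⟩ (mem_subgroupOf.2 hz))) x.2)
  refine ⟨χ.ker, ?_, inferInstance, ?_, C'.mcl_of_CZ hCZ⟩
  · rw [index_ker, MonoidHom.range_eq_top.2 hχs, card_top, Nat.card_eq_fintype_card (α := ℤˣ),
      Fintype.card_units_int]
  · rw [eq_bot_iff]
    intro c hc
    rw [mem_centralizer_iff] at hc
    have hcQ : c ∈ C.Q := C.cent_Q c fun q hq => (hc q ((C.QL.trans (C.L_le_ker χ)) hq)).symm
    have hcZ : c ∈ C.Z := (C.Z_center c).2 ⟨hcQ, fun q hq => (hc q ((C.QL.trans (C.L_le_ker χ)) hq)).symm⟩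
    obtain ⟨i, rfl⟩ := P.Z_pow hcZ
    have h : P.g * P.z ^ (i : ℕ) * P.g⁻¹ = P.z ^ (i : ℕ) := by
      rw [hc P.g (C.M_le_ker χ P.g_mem), mul_inv_cancel_right]
    rw [← conj_pow, P.gzg] at h
    have := P.w_pow_Q (k := i) (h ▸ C.Z_le_Q (pow_mem P.z_mem _))
    rw [this]; simp

end Octad

end Cfsg.Agent.McLThree
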