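import Cfsg.Agent.Lib.McLThree.MainCore

/-!
The dichotomy of the 3-local characterisation of McLaughlin's group, given the centraliser of `y`.
-/

set_option autoImplicit false
set_option maxRecDepth 20000
set_option maxHeartbeats 1000000
set_option synthInstance.maxSize 4000
set_option synthInstance.maxHeartbeats 400000
set_option linter.style.haveILetI false
set_option linter.unusedSectionVars false

namespace Cfsg.Agent.McLThree

open Subgroup

namespace Conf

variable {G : Type*} [Group G] [Finite G] (C : Conf G)
include C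

/-- McLaughlin's group, or a subgroup of index two isomorphic to it. -/
theorem main_of (hCY : ∀ (P : C.Pair), P.Point → ¬ C.CZ ≤ C.L →
      ∀ x : G, x * C.t = C.t * x → x * P.y = P.y * x → x ∈ normalizer (C.J : Set G)) :
    Nonempty (G ≃* Cfsg.Spor.McL) ∨
      ∃ G0 : Subgroup G, G0.index = 2 ∧ G0.Normal ∧ Subgroup.centralizer (G0 : Set G) = ⊥ ∧
        Nonempty (G0 ≃* Cfsg.Spor.McL) := by
  by_cases hCZ : C.CZ ≤ C.L
  · exact Or.inl (C.mcl_of_CZ hCZ)
  · obtain ⟨F⟩ := C.exists_frame
    obtain ⟨P⟩ := F.exists_pair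
    obtain ⟨O⟩ := P.exists_point
    obtain ⟨X⟩ := O.exists_octad hCZ (hCY P O hCZ)
    exact Or.inr (X.conclusion O)

end Conf

end Cfsg.Agent.McLThree
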