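import Mathlib.LinearAlgebra.Matrix.SpecialLinearGroup
import Mathlib.GroupTheory.SpecificGroups.Alternating
import Mathlib.GroupTheory.Sylow
import Mathlib.FieldTheory.Finite.Basic
import Mathlib.Tactic

/-!
Facts about `SL(2,5)` and `A₆` used for the 3-local recognition of McLaughlin's group.
-/

set_option autoImplicit false
set_option maxRecDepth 20000
set_option maxHeartbeats 1000000

namespace Cfsg.Agent.McLThree

open Matrix

/-- `SL(2,5)` -/
abbrev S25 := SpecialLinearGroup (Fin 2) (ZMod 5)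

/-- `A₆` -/
abbrev A6 := alternatingGroup (Fin 6)

theorem card25 : Fintype.card S25 = 120 := by decide +kernel

theorem neg25 : (-1 : S25) * (-1 : S25) = 1 ∧ (-1 : S25) ≠ 1 ∧ ∀ a : S25, a * -1 = -1 * a := by decide +kernel

theorem invol25 : ∀ a : S25, a * a = 1 → a ≠ 1 → a = -1 := by decide +kernel

theorem three25_inv : ∀ x : S25, x ^ 3 = 1 → x ≠ 1 → ∃ e : S25, e * e = -1 ∧ e * x * e⁻¹ = x⁻¹ := by
  decide +kernel

theorem three25_cent : ∀ x : S25, x ^ 3 = 1 → x ≠ 1 → ∀ a : S25, a * x = x * a →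
    ∃ i : Fin 3, a = x ^ (i : ℕ) ∨ a = -1 * x ^ (i : ℕ) := by
  decide +kernel

theorem three25_norm : ∀ x : S25, x ^ 3 = 1 → x ≠ 1 → ∀ a : S25, a * x * a⁻¹ = x⁻¹ →
    a * a = -1 := by
  decide +kernel

theorem three25_two : ∀ x : S25, x ^ 3 = 1 → x ≠ 1 → ∀ y : S25, y ^ 3 = 1 → y ≠ 1 → y ≠ x → y ≠ x⁻¹ →
    ∃ w ∈ [x * y, x * y⁻¹], w ^ 2 = -1 ∨ w ^ 3 = -1 ∨ w ^ 5 = -1 := by
  decide +kernel

theorem three25_count : (Finset.univ.filter fun x : S25 => x ^ 3 = 1 ∧ x ≠ 1).card = 20 := by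
  decide +kernel

theorem five25_gen : ∀ a : S25, ∃ x : S25, x ^ 5 = 1 ∧ ∃ y : S25, y ^ 5 = 1 ∧ (x * y = a ∨ ∃ z : S25, z ^ 5 = 1 ∧ x * y * z = a) := by
  decide +kernel

theorem cardA6 : Fintype.card A6 = 360 := by decide +kernel

theorem centA6 : ∀ x : A6, x ^ 3 = 1 → x ≠ 1 →
    (Finset.univ.filter fun a : A6 => a * x = x * a).card = 9 := by
  decide +kernel

theorem countA6 : (Finset.univ.filter fun x : A6 => x ^ 3 = 1 ∧ x ≠ 1).card = 80 := by decide +kernel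

/-- A group without elements of order five receives `SL(2,5)` trivially. -/
theorem trivial25 {H : Type*} [Group H] [Finite H] (hH : ¬ 5 ∣ Nat.card H) (ψ : S25 →* H) (a : S25) :
    ψ a = 1 := by
  haveI : Fact (Nat.Prime 5) := ⟨by norm_num⟩
  have h5 : ∀ x : S25, x ^ 5 = 1 → ψ x = 1 := by
    intro x hx
    rw [← orderOf_eq_one_iff]
    rcases (Nat.dvd_prime (by norm_num : Nat.Prime 5)).1
      (orderOf_dvd_of_pow_eq_one (show ψ x ^ 5 = 1 by rw [← map_pow, hx, map_one])) with h | h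
    · exact h
    · exact absurd (h ▸ orderOf_dvd_natCard (ψ x)) hH
  obtain ⟨x, hx, y, hy, h | ⟨z, hz, h⟩⟩ := five25_gen a
  · rw [← h, map_mul, h5 x hx, h5 y hy, one_mul]
  · rw [← h, map_mul, map_mul, h5 x hx, h5 y hy, h5 z hz, one_mul, one_mul]

end Cfsg.Agent.McLThree
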