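import Cfsg.Agent.Lib.McLThree.Wact
import Cfsg.Agent.Lib.McLThree.Kill

/-!
No conjugate of `z` lies in the group generated by `y` and a diagonal vector of the part of `J`
inverted by the involution.
-/

set_option autoImplicit false
set_option maxRecDepth 20000
set_option maxHeartbeats 1000000
set_option synthInstance.maxSize 4000
set_option synthInstance.maxHeartbeats 400000
set_option linter.style.haveILetI false
set_option linter.unusedSectionVars false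

namespace Cfsg.Agent.McLThree

open Subgroup

namespace Conf.Pair

variable {G : Type*} [Group G] [Finite G] {C : Conf G} (P : C.Pair)
include P

/-- An element of `A` outside `Z` is not conjugate to `z`. -/
theorem np_A {x : G} (hx : x ∈ C.A) (hxZ : x ∉ C.Z) (h : G) : h * P.z * h⁻¹ ≠ x := by
  intro e
  obtain ⟨m, hm, e' | e'⟩ := P.weak_closure (g := h) (e ▸ hx.1)
  · exact hxZ (by rw [← e, e']; exact P.A_type hm (by rw [← e', e]; exact hx))
  · have h1 : (m * P.z * m⁻¹)⁻¹ = x := by rw [← e, e']; group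
    have h2 : m * P.z * m⁻¹ = x⁻¹ := by rw [← h1, inv_inv]
    exact hxZ (by rw [← h1]; exact inv_mem (P.A_type hm (h2 ▸ inv_mem hx)))

theorem np_conj {x : G} (hx : ∀ h : G, h * P.z * h⁻¹ ≠ x) (c h : G) : h * P.z * h⁻¹ ≠ c * x * c⁻¹ := fun e =>
  hx (c⁻¹ * h) (by
    calc c⁻¹ * h * P.z * (c⁻¹ * h)⁻¹ = c⁻¹ * (h * P.z * h⁻¹) * c := by group
      _ = x := by rw [e]; group)

theorem np_inv {x : G} (hx : ∀ h : G, h * P.z * h⁻¹ ≠ x) (h : G) : h * P.z * h⁻¹ ≠ x⁻¹ := fun e =>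
  hx (h * P.e') (by
    calc h * P.e' * P.z * (h * P.e')⁻¹ = h * (P.e' * P.z * P.e'⁻¹) * h⁻¹ := by group
      _ = (h * P.z * h⁻¹)⁻¹ := by rw [P.e'_z]; group
      _ = x := by rw [e, inv_inv])

theorem np_y (n : Fin 3) (h : G) : h * P.z * h⁻¹ ≠ P.y ^ (n : ℕ) := fun e => by
  have e' : h * P.z * h⁻¹ = P.z ^ (n : ℕ) * P.w ^ (n : ℕ) := by
    rw [e, y, (show Commute P.z P.w from P.zw).mul_pow]
  rcases P.type_conj e' with rfl | rfl <;>
    exact P.z_ne (conj_eq_one_iff.1 (e.trans (pow_zero _)))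

end Conf.Pair

namespace Conf.Pair.Point

variable {G : Type*} [Group G] [Finite G] {C : Conf G} {P : C.Pair} (O : P.Point)
include O

theorem wv_Q (v : V2) : O.wv v ∈ C.Q := by
  have hL : (O.wv v)⁻¹ ∈ C.L := inv_mem (C.SL (C.JS (O.wv_J v)))
  have h1 := C.comm_t hL
  rw [inv_inv, show (O.wv v)⁻¹ * C.t * O.wv v * C.t⁻¹ = (O.wv v)⁻¹ * (C.t * O.wv v * C.t⁻¹) by group,
    O.wv_t] at h1
  have h3 := C.J_exp _ (O.wv_J v)
  rwa [show (O.wv v)⁻¹ * (O.wv v)⁻¹ = O.wv v by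
    rw [← mul_inv_rev]; exact inv_eq_of_mul_eq_one_right (by rw [← pow_two, ← pow_succ, h3])] at h1

theorem wv_zero : O.wv 0 = 1 := by simp [wv]

theorem wv_neg (v : V2) : O.wv (-v) = (O.wv v)⁻¹ := by
  refine eq_inv_of_mul_eq_one_left ?_
  rw [← O.wv_add, neg_add_cancel, O.wv_zero]

theorem wv_notZ {v : V2} (hv : v ≠ 0) : O.wv v ∉ C.Z := fun h => hv (by
  have h1 := O.wv_t v
  rw [C.t_comm_Z h, mul_inv_cancel_right] at h1
  have h2 : O.wv v * O.wv v = 1 := by nth_rw 2 [h1]; exact mul_inv_cancel _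
  have h3 := C.J_exp _ (O.wv_J v)
  rw [pow_succ, pow_two, h2, one_mul] at h3
  exact O.wv_inj (h3.trans O.wv_zero.symm))

theorem np_Zwv {v : V2} (hv : v ≠ 0) {ζ : G} (hζ : ζ ∈ C.Z) (h : G) : h * P.z * h⁻¹ ≠ ζ * O.wv v :=
  P.np_A (mul_mem (C.Z_le_A hζ) (mem_inf.2 ⟨O.wv_J v, O.wv_Q v⟩))
    (fun hm => O.wv_notZ hv (by simpa using mul_mem (inv_mem hζ) hm)) h

theorem np_diag_one (e : ZMod 3) (he : e = 1 ∨ e = 2) (n : Fin 3) :
    ∀ h : G, h * P.z * h⁻¹ ≠ O.wv (1, e) * P.y ^ (n : ℕ) := by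
  have hy3 : P.y * P.y * P.y = 1 := by rw [← pow_two, ← pow_succ, O.y3]
  have hsy : O.s * P.y * O.s⁻¹ = P.y := mul_inv_eq_iff_eq_mul.2 O.s_y
  have hcJ : ∀ {a b : G}, a ∈ C.J → b ∈ C.J → Commute a b := fun ha hb => C.J_comm _ ha _ hb
  have h10 : O.wv (1, 0) = O.u1 * P.y := by simp [wv, ZMod.val_one]
  have h01 : O.wv (0, 1) = O.u2 * P.y := by simp [wv, ZMod.val_one]
  have hsplit : O.wv (1, e) = O.wv (1, 0) * O.wv (0, e) := by rw [← O.wv_add]; simp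
  have hzero : ∀ h : G, h * P.z * h⁻¹ ≠ O.wv (1, e) * P.y ^ 0 := fun h => by
    rw [pow_zero, mul_one, ← one_mul (O.wv (1, e))]
    exact O.np_Zwv (by simp) (one_mem _) h
  have hs1 : O.s * O.wv (1, 0) * O.s⁻¹ = O.wv (0, 1) := by
    rw [h10, h01, show O.s * (O.u1 * P.y) * O.s⁻¹ = (O.s * O.u1 * O.s⁻¹) * (O.s * P.y * O.s⁻¹) by group, hsy]
    rfl
  have hse : O.s * O.wv (e, 0) * O.s⁻¹ = O.wv (0, e) := by
    have e1 : ∀ a : ZMod 3, O.wv (1, 0) ^ a.val = O.wv (a, 0) := fun a => by rw [O.wv_pow]; simp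
    have e2 : ∀ a : ZMod 3, O.wv (0, 1) ^ a.val = O.wv (0, a) := fun a => by rw [O.wv_pow]; simp
    rw [← e1, ← e2, ← conj_pow, hs1]
  have htwo : ∀ h : G, h * P.z * h⁻¹ ≠ O.wv (1, e) * P.y ^ 2 := fun h => by
    have hx : O.wv (1, e) * P.y ^ 2 = O.s * (P.z * O.wv (e, 0)) * O.s⁻¹ := by
      calc O.wv (1, e) * P.y ^ 2 = O.wv (1, 0) * (O.wv (0, e) * P.y ^ 2) := by rw [hsplit, mul_assoc]
        _ = O.u1 * P.y * (P.y ^ 2 * O.wv (0, e)) := by
            rw [h10, ((hcJ (O.wv_J _) P.y_J).pow_right 2).eq]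
        _ = O.u1 * (P.y * P.y * P.y) * O.wv (0, e) := by rw [pow_two]; group
        _ = _ := by
            rw [hy3, mul_one, ← hse, show O.u1 = O.s * P.z * O.s⁻¹ from rfl]; group
    rw [hx]
    exact P.np_conj (O.np_Zwv (by rcases he with rfl | rfl <;> simp <;> decide) P.z_mem) _ h
  rcases (by decide : ∀ n : Fin 3, n = 0 ∨ n = 1 ∨ n = 2) n with rfl | rfl | rfl
  · exact hzero
  · rcases he with rfl | rfl
    · intro h
      have hx : O.wv (1, 1) * P.y ^ ((1 : Fin 3) : ℕ) = C.t * (O.wv (1, 1) * P.y ^ 2)⁻¹ * C.t⁻¹ := by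
        have hty : C.t * P.y * C.t⁻¹ = P.y := by rw [← P.y_t, mul_inv_cancel_right]
        have hyi : (P.y ^ 2)⁻¹ = P.y := inv_eq_of_mul_eq_one_right (by rw [pow_two]; exact hy3)
        rw [Fin.val_one, pow_one, mul_inv_rev, hyi,
          show C.t * (P.y * (O.wv (1, 1))⁻¹) * C.t⁻¹ = (C.t * P.y * C.t⁻¹) * (C.t * O.wv (1, 1) * C.t⁻¹)⁻¹ by group,
          hty, O.wv_t, inv_inv]
        exact (hcJ (O.wv_J _) P.y_J).eq
      rw [hx]
      exact P.np_conj (P.np_inv htwo) _ h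
    · intro h
      have hz2 : O.s * O.u2 * O.s⁻¹ = P.z := O.s_u2
      have hx : O.wv (1, 2) * P.y ^ ((1 : Fin 3) : ℕ) = O.s⁻¹ * (P.z * P.z * O.wv (0, 1)) * O.s⁻¹⁻¹ := by
        have e2 : O.wv (0, 2) = O.wv (0, 1) * O.wv (0, 1) := by rw [← O.wv_add]; rfl
        have hx' : O.wv (1, 2) * P.y = (O.u2 * O.u2) * O.wv (1, 0) := by
          rw [hsplit, e2, h01]
          calc O.wv (1, 0) * (O.u2 * P.y * (O.u2 * P.y)) * P.y
              = O.wv (1, 0) * (O.u2 * (P.y * O.u2) * (P.y * P.y)) := by group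
            _ = O.wv (1, 0) * (O.u2 * O.u2 * (P.y * P.y * P.y)) := by
                rw [(hcJ P.y_J O.u2_J).eq]; group
            _ = _ := by rw [hy3, mul_one, (hcJ (O.wv_J _) (mul_mem O.u2_J O.u2_J)).eq]
        rw [Fin.val_one, pow_one, hx', ← hs1, ← hz2]; group
      rw [hx]
      exact P.np_conj (O.np_Zwv (by decide) (mul_mem P.z_mem P.z_mem)) _ h
  · exact htwo

theorem np_diag (v : V2) (h1 : v.1 ≠ 0) (h2 : v.2 ≠ 0) (n : Fin 3) :
    ∀ h : G, h * P.z * h⁻¹ ≠ O.wv v * P.y ^ (n : ℕ) := by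
  obtain ⟨a, e⟩ := v
  rcases (by decide : ∀ a : ZMod 3, a = 0 ∨ a = 1 ∨ a = 2) a with rfl | rfl | rfl
  · exact absurd rfl h1
  · exact O.np_diag_one e ((by decide : ∀ e : ZMod 3, e ≠ 0 → e = 1 ∨ e = 2) e h2) n
  · intro h
    have hneg : ((2 : ZMod 3), e) = -((1 : ZMod 3), -e) := Prod.ext (show (2 : ZMod 3) = -1 by decide) (by simp)
    have hc : Commute (O.wv (1, -e)) (P.y ^ ((-n : Fin 3) : ℕ)) :=
      (show Commute (O.wv (1, -e)) P.y from C.J_comm _ (O.wv_J _) _ P.y_J).pow_right _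
    have hx : O.wv (2, e) * P.y ^ (n : ℕ) = (O.wv (1, -e) * P.y ^ ((-n : Fin 3) : ℕ))⁻¹ := by
      rw [hneg, O.wv_neg, hc.eq, mul_inv_rev, P.pow_neg_fin O.y3, inv_inv]
    rw [hx]
    exact P.np_inv (O.np_diag_one (-e) ((by decide : ∀ e : ZMod 3, e ≠ 0 → -e = 1 ∨ -e = 2) e h2) (-n)) h

end Conf.Pair.Point

end Cfsg.Agent.McLThree
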