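import Cfsg.Agent.Lib.McLThree.Cent
import Cfsg.Agent.Lib.McLThree.Five

/-!
The normaliser of `Z` in the centraliser of the involution is, modulo the involution, the even
part of `S₃ × S₅`.
-/

set_option autoImplicit false
set_option maxRecDepth 20000
set_option maxHeartbeats 1000000
set_option synthInstance.maxSize 4000
set_option synthInstance.maxHeartbeats 400000
set_option linter.style.haveILetI false
set_option linter.unusedSectionVars false

namespace Cfsg.Agent.McLThree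

open Subgroup Equiv

theorem neg_one_center : (-1 : S25) * -1 = 1 ∧ ∀ a : S25, -1 * a = a * -1 :=
  ⟨neg25.1, fun a => (neg25.2.2 a).symm⟩

/-- A three-cycle of `S₃`. -/
def c3s : Perm (Fin 3) := swap 0 1 * swap 1 2

/-- A transposition of `S₃`. -/
def fl3 : Perm (Fin 3) := swap 0 1

theorem three_facts : c3s ^ 3 = 1 ∧ fl3 * fl3 = 1 ∧ fl3 * c3s = c3s⁻¹ * fl3 ∧ Perm.sign c3s = 1 ∧
    Perm.sign fl3 = -1 ∧ (∀ i : Fin 3, c3s ^ (i : ℕ) = 1 → i = 0) := by decide +kernel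

theorem even35_count : (Finset.univ.filter fun p : Perm (Fin 3) × Perm (Fin 5) =>
    Perm.sign p.1 * Perm.sign p.2 = 1).card = 360 := by decide +kernel

theorem even35_card : Nat.card ((((Perm.sign).comp (MonoidHom.fst (Perm (Fin 3)) (Perm (Fin 5)))) *
    ((Perm.sign).comp (MonoidHom.snd (Perm (Fin 3)) (Perm (Fin 5))))).ker) = 360 := by
  classical
  rw [← even35_count, Nat.card_eq_fintype_card, Fintype.card_subtype]
  exact congrArg Finset.card (Finset.filter_congr fun p _ => Iff.rfl)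

namespace Conf.Pair

variable {G : Type*} [Group G] [Finite G] {C : Conf G} (P : C.Pair)
include P

/-- The centraliser of the involution in `L`. -/
def CL (_ : C.Pair) : Subgroup G := C.L ⊓ centralizer ({C.t} : Set G)

theorem mem_CL {x : G} : x ∈ P.CL ↔ x ∈ C.L ∧ x * C.t = C.t * x := by
  rw [CL, mem_inf, mem_centralizer_singleton_iff]

/-- The restriction of `pi`. -/
def piL : P.CL →* S25 := C.pi.comp (Subgroup.inclusion inf_le_left)

theorem piL_apply (x : P.CL) : P.piL x = C.pi ⟨x, (P.mem_CL.1 x.2).1⟩ := rfl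

theorem piL_surj : Function.Surjective P.piL := by
  intro a
  obtain ⟨x, rfl⟩ := C.pi_surj a
  obtain ⟨y, hy, hyt, hyπ⟩ := C.lift_t x.2
  exact ⟨⟨y, P.mem_CL.2 ⟨hy, hyt⟩⟩, hyπ hy⟩

theorem piL_ker {x : P.CL} (h : P.piL x = 1) : ∃ i : Fin 3, (x : G) = P.z ^ (i : ℕ) :=
  P.Z_pow (C.cent_t_Q ((C.pi_ker _).1 h) (P.mem_CL.1 x.2).2)

theorem z_CL : P.z ∈ P.CL := P.mem_CL.2 ⟨C.QL (C.Z_le_Q P.z_mem), P.z_t⟩

theorem w_CL : P.w ∈ P.CL := P.mem_CL.2 ⟨C.SL (C.JS P.w_J), P.w_t⟩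

theorem t_CL : C.t ∈ P.CL := P.mem_CL.2 ⟨C.t_mem, rfl⟩

theorem e_CL : P.e ∈ P.CL := P.mem_CL.2 ⟨P.e_mem, P.e_t⟩

theorem CL_z {x : G} (hx : x ∈ P.CL) : x * P.z = P.z * x := C.L_cent (P.mem_CL.1 hx).1 P.z_mem

theorem card_CL : Nat.card P.CL = 360 := by
  have h := card_eq_card_quotient_mul_card_subgroup P.piL.ker
  rw [Nat.card_congr (QuotientGroup.quotientKerEquivOfSurjective _ P.piL_surj).toEquiv,
    Nat.card_eq_fintype_card (α := S25), card25] at h
  have hk : Nat.card P.piL.ker = 3 := by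
    rw [← Nat.card_fin 3]
    refine (Nat.card_eq_of_bijective (fun i : Fin 3 => (⟨⟨P.z, P.z_CL⟩ ^ (i : ℕ), ?_⟩ : P.piL.ker)) ?_).symm
    · rw [MonoidHom.mem_ker, map_pow]
      rw [show P.piL ⟨P.z, P.z_CL⟩ = 1 from (C.pi_ker _).2 (C.Z_le_Q P.z_mem), one_pow]
    · refine ⟨fun a b e => ?_, fun x => ?_⟩
      · have h' : P.z ^ (a : ℕ) * P.w ^ ((0 : Fin 3) : ℕ) = P.z ^ (b : ℕ) * P.w ^ ((0 : Fin 3) : ℕ) := by
          have := congrArg (fun v : P.piL.ker => ((v : P.CL) : G)) e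
          simpa using this
        exact (P.D_eq h').1
      · obtain ⟨i, hi⟩ := P.piL_ker x.2
        exact ⟨i, Subtype.ext (Subtype.ext (by simp [hi]))⟩
  omega

theorem D_le_CL : P.D ≤ P.CL := fun x hx => P.mem_CL.2 ⟨C.SL (C.JS hx.1), hx.2⟩

theorem card_D : Nat.card P.D = 9 := by
  rw [← show Nat.card (Fin 3 × Fin 3) = 9 by simp]
  refine (Nat.card_eq_of_bijective (fun a : Fin 3 × Fin 3 =>
    (⟨P.z ^ (a.1 : ℕ) * P.w ^ (a.2 : ℕ), mul_mem (pow_mem P.z_D _) (pow_mem P.w_D _)⟩ : P.D))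
      ⟨fun a b e => ?_, fun x => ?_⟩).symm
  · obtain ⟨h1, h2⟩ := P.D_eq (congrArg Subtype.val e)
    exact Prod.ext h1 h2
  · obtain ⟨i, k, h⟩ := P.D_cases' x.2
    exact ⟨(i, k), Subtype.ext h.symm⟩

/-- The projection of `C_L(t)` onto `Z`. -/
theorem exists_tau : ∃ τ : P.CL →* Multiplicative (ZMod 3),
    τ ⟨P.z, P.z_CL⟩ = Multiplicative.ofAdd 1 := by
  classical
  set D' := P.D.subgroupOf P.CL with hD'
  choose i k hik using fun x : D' => P.D_cases' (mem_subgroupOf.1 x.2)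
  have hval : ∀ a b : Fin 3, (((a + b : Fin 3) : ℕ) : ZMod 3) = ((a : ℕ) : ZMod 3) + ((b : ℕ) : ZMod 3) := by decide
  have hadd : ∀ x : G, x ^ 3 = 1 → ∀ a b : Fin 3, x ^ ((a + b : Fin 3) : ℕ) = x ^ (a : ℕ) * x ^ (b : ℕ) := by
    intro x hx a b
    rw [← pow_add, Fin.val_add]
    exact (pow_eq_pow_mod _ hx).symm
  let φ : D' →* Multiplicative (ZMod 3) :=
    { toFun := fun x => Multiplicative.ofAdd (((i x : Fin 3) : ℕ) : ZMod 3)
      map_one' := by
        have h := hik 1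
        have h0 : P.z ^ ((0 : Fin 3) : ℕ) * P.w ^ ((0 : Fin 3) : ℕ) = ((((1 : D') : P.CL)) : G) := by simp
        rw [(P.D_eq (h.symm.trans h0.symm)).1]
        rfl
      map_mul' := fun x y => by
        have h1 : P.z ^ ((i (x * y) : Fin 3) : ℕ) * P.w ^ ((k (x * y) : Fin 3) : ℕ) =
            P.z ^ ((i x + i y : Fin 3) : ℕ) * P.w ^ ((k x + k y : Fin 3) : ℕ) := by
          rw [← hik, hadd _ P.z3, hadd _ P.w3]
          show ((x : P.CL) : G) * ((y : P.CL) : G) = _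
          rw [hik x, hik y]
          have hc : Commute (P.w ^ ((k x : Fin 3) : ℕ)) (P.z ^ ((i y : Fin 3) : ℕ)) :=
            (show Commute P.w P.z from P.zw.symm).pow_pow _ _
          calc P.z ^ ((i x : Fin 3) : ℕ) * P.w ^ ((k x : Fin 3) : ℕ) *
                (P.z ^ ((i y : Fin 3) : ℕ) * P.w ^ ((k y : Fin 3) : ℕ))
              = P.z ^ ((i x : Fin 3) : ℕ) * (P.w ^ ((k x : Fin 3) : ℕ) * P.z ^ ((i y : Fin 3) : ℕ)) *
                  P.w ^ ((k y : Fin 3) : ℕ) := by group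
            _ = _ := by rw [hc.eq]; group
        rw [(P.D_eq h1).1, hval]
        rfl }
  set Zs : P.CL := ⟨P.z, P.z_CL⟩ with hZs
  have hidx : D'.index = 40 := by
    have h := D'.card_mul_index
    rw [Nat.card_congr (subgroupOfEquivOfLe P.D_le_CL).toEquiv, P.card_D, P.card_CL] at h
    omega
  have key : ∀ (n : ℕ) (g₀ : P.CL), g₀⁻¹ * Zs ^ n * g₀ ∈ D' → g₀⁻¹ * Zs ^ n * g₀ = Zs ^ n := by
    intro n g₀ _
    have h : Commute g₀ Zs := Subtype.ext (P.CL_z g₀.2)
    rw [mul_assoc, ← (h.pow_right n).eq, inv_mul_cancel_left]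
  refine ⟨MonoidHom.transfer φ, ?_⟩
  rw [MonoidHom.transfer_eq_pow φ Zs key]
  set X : D' := ⟨Zs ^ D'.index, _⟩
  show Multiplicative.ofAdd (((i X : Fin 3) : ℕ) : ZMod 3) = _
  have h := hik X
  have hX : ((X : P.CL) : G) = P.z ^ ((1 : Fin 3) : ℕ) * P.w ^ ((0 : Fin 3) : ℕ) := by
    show ((Zs ^ D'.index : P.CL) : G) = _
    rw [hidx, coe_pow, pow_eq_pow_mod 40 P.z3]
    simp [Zs]
  rw [(P.D_eq (h.symm.trans hX)).1]
  rfl

/-- The normaliser of `Z` in the centraliser of the involution. -/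
def NZ (_ : C.Pair) : Subgroup G := normalizer (C.Z : Set G) ⊓ centralizer ({C.t} : Set G)

theorem mem_NZ {x : G} : x ∈ P.NZ ↔ x ∈ normalizer (C.Z : Set G) ∧ x * C.t = C.t * x := by
  rw [NZ, mem_inf, mem_centralizer_singleton_iff]

theorem CL_le_NZ : P.CL ≤ P.NZ := fun _ hx => P.mem_NZ.2 ⟨C.L_norm (P.mem_CL.1 hx).1, (P.mem_CL.1 hx).2⟩

theorem e'_NZ : P.e' ∈ P.NZ :=
  P.mem_NZ.2 ⟨C.norm_Z_of P.z_mem P.z_ne (by rw [P.e'_z]; exact inv_mem P.z_mem), P.e'_t⟩

theorem e'_notCL : P.e' ∉ P.CL := fun h => by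
  have h1 := P.CL_z h
  have h2 := P.e'_z
  rw [h1, mul_inv_cancel_right] at h2
  have h3 : P.z * P.z = 1 := by nth_rw 2 [h2]; exact mul_inv_cancel _
  have h4 := P.z3
  rw [pow_succ, pow_two, h3, one_mul] at h4
  exact P.z_ne h4

theorem CL_conj {n x : G} (hn : n ∈ P.NZ) (hx : x ∈ P.CL) : n * x * n⁻¹ ∈ P.CL := by
  obtain ⟨hnN, hnt⟩ := P.mem_NZ.1 hn
  exact P.mem_CL.2 ⟨C.normL n hnN x (P.mem_CL.1 hx).1,
    (((show Commute n C.t from hnt).mul_left (show Commute x C.t from (P.mem_CL.1 hx).2)).mul_left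
      (show Commute n C.t from hnt).inv_left).eq⟩

theorem NZ_split (hCZ : C.CZ ≤ C.L) {n : G} (hn : n ∈ P.NZ) : n ∈ P.CL ∨ n * P.e'⁻¹ ∈ P.CL := by
  have key : ∀ m ∈ P.NZ, m * P.z * m⁻¹ = P.z → m ∈ P.CL := fun m hm h =>
    P.mem_CL.2 ⟨hCZ (C.mem_CZ.2 fun ζ hζ => by
      obtain ⟨i, rfl⟩ := P.Z_pow hζ
      exact ((show Commute m P.z from mul_inv_eq_iff_eq_mul.1 h).pow_right _).eq), (P.mem_NZ.1 hm).2⟩
  rcases C.Z_cases P.z_mem P.z_ne (C.conj_Z (P.mem_NZ.1 hn).1 P.z_mem) with h | h | h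
  · exact absurd (conj_eq_one_iff.1 h) P.z_ne
  · exact Or.inl (key n hn h)
  · refine Or.inr (key _ (mul_mem hn (inv_mem P.e'_NZ)) ?_)
    have h2 : P.e'⁻¹ * P.z * P.e' = P.z⁻¹ := by
      have h3 : P.e' * P.z⁻¹ * P.e'⁻¹ = P.z := by
        rw [show P.e' * P.z⁻¹ * P.e'⁻¹ = (P.e' * P.z * P.e'⁻¹)⁻¹ by group, P.e'_z, inv_inv]
      calc P.e'⁻¹ * P.z * P.e' = P.e'⁻¹ * (P.e' * P.z⁻¹ * P.e'⁻¹) * P.e' := by rw [h3]
        _ = P.z⁻¹ := by group
    calc n * P.e'⁻¹ * P.z * (n * P.e'⁻¹)⁻¹ = n * (P.e'⁻¹ * P.z * P.e') * n⁻¹ := by group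
      _ = (n * P.z * n⁻¹)⁻¹ := by rw [h2]; group
      _ = P.z := by rw [h, inv_inv]

theorem card_NZ (hCZ : C.CZ ≤ C.L) : Nat.card P.NZ = 720 := by
  classical
  set f : Bool × P.CL → P.NZ := fun a =>
    ⟨a.2 * (if a.1 then P.e' else 1), mul_mem (P.CL_le_NZ a.2.2) (by split_ifs; exacts [P.e'_NZ, one_mem _])⟩
  have hinj : Function.Injective f := by
    rintro ⟨a, x⟩ ⟨b, y⟩ h
    have h' : (x : G) * (if a then P.e' else 1) = y * (if b then P.e' else 1) := congrArg Subtype.val h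
    cases a <;> cases b <;> simp at h'
    · rw [h']
    · exact absurd (by
        have := mul_mem (inv_mem y.2) x.2
        rwa [h', inv_mul_cancel_left] at this) P.e'_notCL
    · exact absurd (by
        have := mul_mem (inv_mem x.2) y.2
        rwa [← h', inv_mul_cancel_left] at this) P.e'_notCL
    · rw [h']
  have hsurj : Function.Surjective f := by
    rintro ⟨n, hn⟩
    rcases P.NZ_split hCZ hn with h | h
    · exact ⟨(false, ⟨n, h⟩), Subtype.ext (by simp [f])⟩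
    · exact ⟨(true, ⟨_, h⟩), Subtype.ext (by simp [f])⟩
  rw [← Nat.card_congr (Equiv.ofBijective f ⟨hinj, hsurj⟩), Nat.card_prod, P.card_CL]
  simp

end Conf.Pair

namespace Conf.Pair.Point

variable {G : Type*} [Group G] [Finite G] {C : Conf G} {P : C.Pair} (O : P.Point)
include O

/-- The isomorphism of the normaliser of `Z` modulo the involution with the even part of `S₃ × S₅`. -/
theorem exists_theta (hCZ : C.CZ ≤ C.L) :
    ∃ Θ : P.NZ →* (((Perm.sign).comp (MonoidHom.fst (Perm (Fin 3)) (Perm (Fin 5)))) *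
        ((Perm.sign).comp (MonoidHom.snd (Perm (Fin 3)) (Perm (Fin 5))))).ker,
      Function.Surjective Θ ∧ ∀ x, Θ x = 1 ↔ (x : G) = 1 ∨ (x : G) = C.t := by
  classical
  obtain ⟨ρ, hρs, hρk⟩ := exists_rho
  obtain ⟨τ, hτz⟩ := P.exists_tau
  set r : P.CL →* A5 := ρ.comp P.piL with hr
  have hrs : Function.Surjective r := hρs.comp P.piL_surj
  -- elements of `C_L(t)` trivial in `A₅`
  have hrk : ∀ x : P.CL, r x = 1 → ∃ (i : Fin 3) (a : Fin 2), (x : G) = P.z ^ (i : ℕ) * C.t ^ (a : ℕ) := by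
    intro x hx
    rcases (hρk _).1 hx with h | h
    · obtain ⟨i, hi⟩ := P.piL_ker h
      exact ⟨i, 0, by rw [hi]; simp⟩
    · have h' : P.piL (x * ⟨C.t, P.t_CL⟩) = 1 := by
        rw [map_mul, h, P.piL_apply ⟨C.t, P.t_CL⟩, C.pi_t, neg25.1]
      obtain ⟨i, hi⟩ := P.piL_ker h'
      refine ⟨i, 1, ?_⟩
      rw [← hi]
      show (x : G) = (x : G) * C.t * C.t ^ 1
      rw [pow_one, mul_assoc, C.tt, mul_one]
  have hkr : ∀ (i : Fin 3) (a : Fin 2) (x : P.CL), (x : G) = P.z ^ (i : ℕ) * C.t ^ (a : ℕ) → r x = 1 := by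
    intro i a x hx
    have e : x = (⟨P.z, P.z_CL⟩ : P.CL) ^ (i : ℕ) * (⟨C.t, P.t_CL⟩ : P.CL) ^ (a : ℕ) := Subtype.ext (by simp [hx])
    have h1 : r ⟨P.z, P.z_CL⟩ = 1 := (hρk _).2 (Or.inl ((C.pi_ker _).2 (C.Z_le_Q P.z_mem)))
    have h2 : r ⟨C.t, P.t_CL⟩ = 1 := (hρk _).2 (Or.inr (by rw [P.piL_apply ⟨C.t, P.t_CL⟩]; exact C.pi_t))
    rw [e, map_mul, map_pow, map_pow, h1, h2, one_pow, one_pow, one_mul]
  -- conjugation
  let cj : P.NZ → (P.CL →* P.CL) := fun n =>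
    { toFun := fun x => ⟨n * x * (n : G)⁻¹, P.CL_conj n.2 x.2⟩
      map_one' := Subtype.ext (by simp)
      map_mul' := fun x y => Subtype.ext (by simp [mul_assoc]) }
  have hcj : ∀ (n : P.NZ) (x : P.CL), ((cj n x : P.CL) : G) = n * x * (n : G)⁻¹ := fun _ _ => rfl
  have hrkn : ∀ (n : P.NZ) (x : P.CL), r x = 1 → r (cj n x) = 1 := by
    intro n x hx
    obtain ⟨i, a, hia⟩ := hrk x hx
    obtain ⟨hnN, hnt⟩ := P.mem_NZ.1 n.2
    obtain ⟨k, hk⟩ := P.Z_pow (C.conj_Z hnN (pow_mem P.z_mem (i : ℕ)))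
    refine hkr k a _ ?_
    rw [hcj, hia, ← hk]
    calc (n : G) * (P.z ^ (i : ℕ) * C.t ^ (a : ℕ)) * (n : G)⁻¹
        = (n : G) * P.z ^ (i : ℕ) * (C.t ^ (a : ℕ) * (n : G)⁻¹) := by group
      _ = _ := by rw [((show Commute (n : G) C.t from hnt).pow_right _).inv_left.eq.symm, ← mul_assoc]
  have hperm : ∀ n : P.NZ, ∃ s : Perm (Fin 5), ∀ x : P.CL,
      (r (cj n x) : Perm (Fin 5)) = s * (r x : Perm (Fin 5)) * s⁻¹ := by
    intro n
    set α := r.liftOfSurjective hrs ⟨r.comp (cj n), fun x hx => hrkn n x hx⟩ with hα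
    have hα' : ∀ x, α (r x) = r (cj n x) := fun x => r.liftOfRightInverse_comp_apply _ _ _ x
    have hsurj : Function.Surjective α := by
      intro a
      obtain ⟨x, rfl⟩ := hrs a
      refine ⟨r (cj n⁻¹ x), ?_⟩
      rw [hα']
      exact congrArg r (Subtype.ext (by
        rw [hcj, hcj, InvMemClass.coe_inv, inv_inv]; group))
    obtain ⟨s, hs⟩ := exists_perm5 α (Finite.surjective_iff_bijective.1 hsurj)
    exact ⟨s, fun x => by rw [hs, hα']⟩
  choose s5 hs5 using hperm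
  have huniq : ∀ (n : P.NZ) (s : Perm (Fin 5)), (∀ x : P.CL, (r (cj n x) : Perm (Fin 5)) = s * r x * s⁻¹) →
      s5 n = s := by
    intro n s h
    refine perm5_ext _ _ fun a => ?_
    obtain ⟨x, rfl⟩ := hrs a
    rw [← hs5, h]
  let R5 : P.NZ →* Perm (Fin 5) :=
    { toFun := s5
      map_one' := huniq 1 1 fun x => by
        rw [one_mul, inv_one, mul_one]; exact congrArg _ (congrArg r (Subtype.ext (by simp [hcj])))
      map_mul' := fun m n => huniq _ _ fun x => by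
        rw [show cj (m * n) x = cj m (cj n x) from Subtype.ext (by simp [hcj, mul_assoc]), hs5, hs5]
        group }
  have hR5 : ∀ n : P.NZ, R5 n = s5 n := fun _ => rfl
  have hCL5 : ∀ y : P.CL, R5 ⟨y, P.CL_le_NZ y.2⟩ = r y := by
    intro y
    refine huniq _ _ fun x => ?_
    rw [show cj ⟨y, P.CL_le_NZ y.2⟩ x = y * x * y⁻¹ from Subtype.ext (by simp [hcj]), map_mul, map_mul, map_inv]
    rfl
  set E' : P.NZ := ⟨P.e', P.e'_NZ⟩ with hE'
  -- the sign of the element inverting `Z`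
  have hE5 : Perm.sign (R5 E') = -1 := by
    rcases Int.units_eq_one_or (Perm.sign (R5 E')) with hsg | hsg
    swap
    · exact hsg
    exfalso
    obtain ⟨b, hb⟩ := hrs ⟨R5 E', Perm.mem_alternatingGroup.2 hsg⟩
    set W : P.CL := ⟨P.w, P.w_CL⟩
    have hw : cj E' W = W := Subtype.ext (by rw [hcj]; exact P.e'_w)
    have hsw := hs5 E' W
    rw [hw, ← hR5] at hsw
    obtain ⟨hw3, hw1⟩ := P.pi_w
    have hrW : (r W : Perm (Fin 5)) ≠ 1 := fun h => by
      rcases (hρk _).1 (Subtype.ext h : r W = 1) with h1 | h1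
      · exact hw1 h1
      · have h2 : C.pi ⟨P.w, C.SL (C.JS P.w_J)⟩ = -1 := h1
        rw [h2, pow_succ, pow_two, neg25.1, one_mul] at hw3
        exact neg25.2.1 hw3
    have hb2 : (R5 E') * (R5 E') = 1 := by
      rw [← map_mul, show E' * E' = ⟨C.t, P.CL_le_NZ P.t_CL⟩ from Subtype.ext P.e'_sq,
        hCL5 ⟨C.t, P.t_CL⟩]
      exact congrArg Subtype.val (hkr 0 1 ⟨C.t, P.t_CL⟩ (by simp))
    have hs1 : R5 E' = 1 := by
      refine five_three_cent _ (Perm.mem_alternatingGroup.1 (r W).2) ?_ hrW _ hsg ?_ hb2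
      · rw [← Subgroup.coe_mul, ← Subgroup.coe_mul, ← map_mul, ← map_mul,
          show W * W * W = 1 from Subtype.ext (by
            show P.w * P.w * P.w = 1
            rw [← pow_two, ← pow_succ, P.w3]), map_one]
        rfl
      · exact (mul_inv_eq_iff_eq_mul.1 hsw.symm)
    -- conjugation by `e'` is trivial modulo the centre
    have hd : ∀ x : P.CL, P.piL (cj E' x) * (P.piL x)⁻¹ = 1 ∨ P.piL (cj E' x) * (P.piL x)⁻¹ = -1 := by
      intro x
      have h := hs5 E' x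
      rw [← hR5, hs1, one_mul, inv_one, mul_one] at h
      refine (hρk _).1 ?_
      rw [map_mul, map_inv]
      exact mul_inv_eq_one.2 (Subtype.ext h)
    have hdz : ∀ x : P.CL, ∀ a : S25, Commute (P.piL (cj E' x) * (P.piL x)⁻¹) a := by
      intro x a
      rcases hd x with h | h <;> rw [h]
      · exact Commute.one_left a
      · exact neg_one_center.2 a
    let h0 : P.CL →* zpowers (-1 : S25) :=
      { toFun := fun x => ⟨P.piL (cj E' x) * (P.piL x)⁻¹, by
          rcases hd x with h | h <;> rw [h]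
          · exact one_mem _
          · exact mem_zpowers _⟩
        map_one' := Subtype.ext (by simp)
        map_mul' := fun x y => Subtype.ext (by
          show P.piL (cj E' (x * y)) * (P.piL (x * y))⁻¹ = _
          rw [map_mul, map_mul, map_mul, mul_inv_rev]
          show P.piL (cj E' x) * P.piL (cj E' y) * ((P.piL y)⁻¹ * (P.piL x)⁻¹) =
            P.piL (cj E' x) * (P.piL x)⁻¹ * (P.piL (cj E' y) * (P.piL y)⁻¹)
          rw [show P.piL (cj E' x) * P.piL (cj E' y) * ((P.piL y)⁻¹ * (P.piL x)⁻¹) =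
            P.piL (cj E' x) * ((P.piL (cj E' y) * (P.piL y)⁻¹) * (P.piL x)⁻¹) by group, (hdz y _).eq,
            ← mul_assoc]) }
    have hH : ¬ 5 ∣ Nat.card (zpowers (-1 : S25)) := by
      rw [Nat.card_zpowers]
      intro h5
      have h2 : orderOf (-1 : S25) ∣ 2 := orderOf_dvd_of_pow_eq_one (by rw [pow_two, neg25.1])
      have := Nat.le_of_dvd (by norm_num) (h5.trans h2)
      omega
    have hker0 : P.piL.ker ≤ h0.ker := by
      intro x hx
      obtain ⟨i, hi⟩ := P.piL_ker hx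
      refine Subtype.ext ?_
      show P.piL (cj E' x) * (P.piL x)⁻¹ = 1
      rw [MonoidHom.mem_ker.1 hx, inv_one, mul_one, P.piL_apply]
      exact (C.pi_ker _).2 (C.Z_le_Q (by
        show P.e' * (x : G) * P.e'⁻¹ ∈ C.Z
        rw [hi]
        exact C.conj_Z (P.mem_NZ.1 P.e'_NZ).1 (pow_mem P.z_mem _)))
    set l := P.piL.liftOfSurjective P.piL_surj ⟨h0, hker0⟩
    have hl : ∀ x, h0 x = 1 := fun x => by
      rw [← show l (P.piL x) = h0 x from P.piL.liftOfRightInverse_comp_apply _ _ _ x]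
      exact trivial25 hH l _
    set Ee : P.CL := ⟨P.e, P.e_CL⟩
    have he := congrArg Subtype.val (hl Ee)
    have he' : P.piL (cj E' Ee * Ee⁻¹) = 1 := by rw [map_mul, map_inv]; exact he
    obtain ⟨f, -, hft, hfz, hfw, hff⟩ := O.exists_f
    set x0 := P.e * P.e' with hx0
    have hzi : P.e * P.z⁻¹ * P.e⁻¹ = P.z⁻¹ := by
      rw [show P.e * P.z⁻¹ * P.e⁻¹ = (P.e * P.z * P.e⁻¹)⁻¹ by group, P.e_z, mul_inv_cancel_right]
    have hx0z : x0 * P.z * x0⁻¹ = P.z⁻¹ := by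
      rw [hx0, show P.e * P.e' * P.z * (P.e * P.e')⁻¹ = P.e * (P.e' * P.z * P.e'⁻¹) * P.e⁻¹ by group, P.e'_z,
        hzi]
    have hx0w : x0 * P.w * x0⁻¹ = P.w⁻¹ := by
      rw [hx0, show P.e * P.e' * P.w * (P.e * P.e')⁻¹ = P.e * (P.e' * P.w * P.e'⁻¹) * P.e⁻¹ by group, P.e'_w,
        P.e_w]
    have hx0t : Commute x0 C.t := (show Commute P.e C.t from P.e_t).mul_left (show Commute P.e' C.t from P.e'_t)
    have hinv : ∀ {u v : G}, f * u * f⁻¹ = v → f⁻¹ * v * f = u := fun {u v} h => by rw [← h]; group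
    obtain ⟨i, k, a, hrr⟩ := P.kernel_cases hCZ (x := f⁻¹ * x0)
      ((show Commute f C.t from hft).inv_left.mul_left hx0t).eq
      (mul_inv_eq_iff_eq_mul.1 (by
        calc f⁻¹ * x0 * P.z * (f⁻¹ * x0)⁻¹ = f⁻¹ * (x0 * P.z * x0⁻¹) * f := by group
          _ = P.z := by rw [hx0z]; exact hinv hfz))
      (mul_inv_eq_iff_eq_mul.1 (by
        calc f⁻¹ * x0 * P.w * (f⁻¹ * x0)⁻¹ = f⁻¹ * (x0 * P.w * x0⁻¹) * f := by group
          _ = P.w := by rw [hx0w]; exact hinv hfw))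
    set d := P.z ^ (i : ℕ) * P.w ^ (k : ℕ) with hd'
    set T := C.t ^ (a : ℕ) with hT
    have hfd : f⁻¹ * d * f = d⁻¹ := by
      have h1 : f * d⁻¹ * f⁻¹ = d := by
        rw [show f * d⁻¹ * f⁻¹ = (f * d * f⁻¹)⁻¹ by group, hd',
          show f * (P.z ^ (i : ℕ) * P.w ^ (k : ℕ)) * f⁻¹ =
            (f * P.z ^ (i : ℕ) * f⁻¹) * (f * P.w ^ (k : ℕ) * f⁻¹) by group, ← conj_pow, ← conj_pow, hfz, hfw,
          inv_pow, inv_pow, mul_inv_rev, inv_inv, inv_inv]
        exact ((show Commute P.w P.z from P.zw.symm).pow_pow _ _).eq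
      calc f⁻¹ * d * f = f⁻¹ * (f * d⁻¹ * f⁻¹) * f := by rw [h1]
        _ = d⁻¹ := by group
    have hTT : T * T = 1 := by rw [hT, ← (Commute.refl C.t).mul_pow, C.tt, one_pow]
    have hTc : ∀ u : G, u * C.t = C.t * u → Commute T u := fun u hu => (show Commute C.t u from hu.symm).pow_left _
    have hdt : d * C.t = C.t * d :=
      (((show Commute P.z C.t from P.z_t).pow_left _).mul_left ((show Commute P.w C.t from P.w_t).pow_left _)).eq
    have hsq : x0 * x0 = C.t := by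
      have e0 : x0 = f * (d * T) := by rw [← hrr]; group
      rw [e0]
      calc f * (d * T) * (f * (d * T)) = f * d * (T * (f * d)) * T := by group
        _ = f * d * ((f * d) * T) * T := by
            rw [((hTc f hft).mul_right (hTc d hdt)).eq]
        _ = f * f * ((f⁻¹ * d * f) * d) * (T * T) := by group
        _ = C.t := by rw [hfd, inv_mul_cancel, hTT, hff, mul_one, mul_one]
    have hce : ((cj E' Ee * Ee⁻¹ : P.CL) : G) = C.t := by
      have h3 : P.e' * P.e * P.e'⁻¹ * P.e⁻¹ = C.t⁻¹ := by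
        refine eq_inv_of_mul_eq_one_left ?_
        have hei : P.e⁻¹ = P.e * C.t := inv_eq_of_mul_eq_one_right (by rw [← mul_assoc, P.e_sq, C.tt])
        have he'i : P.e'⁻¹ = P.e' * C.t := inv_eq_of_mul_eq_one_right (by rw [← mul_assoc, P.e'_sq, C.tt])
        calc P.e' * P.e * P.e'⁻¹ * P.e⁻¹ * C.t
            = P.e' * P.e * P.e'⁻¹ * P.e⁻¹ * (x0 * x0) := by rw [hsq]
          _ = P.e' * P.e * P.e * P.e' := by rw [hx0]; group
          _ = P.e' * ((P.e * P.e) * P.e') := by group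
          _ = P.e' * (P.e' * C.t) := by rw [P.e_sq, ← P.e'_t]
          _ = 1 := by rw [← mul_assoc, P.e'_sq, C.tt]
      rw [C.t_inv] at h3
      rw [Subgroup.coe_mul, hcj]
      exact h3
    rw [show cj E' Ee * Ee⁻¹ = ⟨C.t, P.t_CL⟩ from Subtype.ext hce, P.piL_apply ⟨C.t, P.t_CL⟩, C.pi_t] at he'
    exact neg25.2.1 he'
  -- the action on `Z`
  have hτconj : ∀ x : P.CL, τ (cj E' x) = (τ x)⁻¹ := by
    let h1 : P.CL →* Multiplicative (ZMod 3) := (τ.comp (cj E')) * τ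
    have hz1 : h1 ⟨P.z, P.z_CL⟩ = 1 := by
      show τ (cj E' ⟨P.z, P.z_CL⟩) * τ ⟨P.z, P.z_CL⟩ = 1
      rw [show cj E' ⟨P.z, P.z_CL⟩ = (⟨P.z, P.z_CL⟩ : P.CL)⁻¹ from Subtype.ext (by rw [hcj]; exact P.e'_z),
        map_inv, inv_mul_cancel]
    have hk : P.piL.ker ≤ h1.ker := by
      intro x hx
      obtain ⟨i, hi⟩ := P.piL_ker hx
      rw [show x = (⟨P.z, P.z_CL⟩ : P.CL) ^ (i : ℕ) from Subtype.ext (by simp [hi]), MonoidHom.mem_ker, map_pow,
        hz1, one_pow]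
    intro x
    have h2 : h1 x = 1 := by
      rw [← show P.piL.liftOfSurjective P.piL_surj ⟨h1, hk⟩ (P.piL x) = h1 x from
        P.piL.liftOfRightInverse_comp_apply _ _ _ x]
      exact trivial25 (by simp) _ _
    exact eq_inv_of_mul_eq_one_left h2
  let c : P.CL →* Perm (Fin 3) :=
    { toFun := fun x => c3s ^ (Multiplicative.toAdd (τ x)).val
      map_one' := by simp
      map_mul' := fun x y => by rw [map_mul, toAdd_mul, pow_val_add three_facts.1] }
  have hsign_c : ∀ x, Perm.sign (c x) = 1 := fun x => by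
    show Perm.sign (c3s ^ _) = 1
    rw [map_pow, three_facts.2.2.2.1, one_pow]
  have hc_conj : ∀ x : P.CL, c (cj E' x) = fl3 * c x * fl3 := by
    intro x
    show c3s ^ (Multiplicative.toAdd (τ (cj E' x))).val = fl3 * c3s ^ (Multiplicative.toAdd (τ x)).val * fl3
    rw [hτconj, toAdd_inv, pow_val_neg three_facts.1]
    exact (by decide +kernel : ∀ a : ZMod 3, (c3s ^ a.val)⁻¹ = fl3 * c3s ^ a.val * fl3) _
  let r3 : P.NZ → Perm (Fin 3) := fun n =>
    if h : (n : G) ∈ P.CL then c ⟨n, h⟩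
    else if h' : (n : G) * P.e'⁻¹ ∈ P.CL then c ⟨_, h'⟩ * fl3 else 1
  have r3_in : ∀ (n : P.NZ) (x : P.CL), (n : G) = x → r3 n = c x := fun n x e => by
    have h : (n : G) ∈ P.CL := e ▸ x.2
    simp only [r3, dif_pos h]
    exact congrArg c (Subtype.ext e)
  have r3_out : ∀ (n : P.NZ) (x : P.CL), (n : G) = x * P.e' → r3 n = c x * fl3 := fun n x e => by
    have h : (n : G) ∉ P.CL := fun h => P.e'_notCL (by
      have := mul_mem (inv_mem x.2) h
      rwa [e, inv_mul_cancel_left] at this)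
    have h' : (n : G) * P.e'⁻¹ ∈ P.CL := by rw [e, mul_inv_cancel_right]; exact x.2
    simp only [r3, dif_neg h, dif_pos h']
    exact congrArg (fun v => c v * fl3) (Subtype.ext (show (n : G) * P.e'⁻¹ = (x : G) by rw [e, mul_inv_cancel_right]))
  have hsplit : ∀ n : P.NZ, ∃ x : P.CL, (n : G) = x ∨ (n : G) = x * P.e' := fun n => by
    rcases P.NZ_split hCZ n.2 with h | h
    · exact ⟨⟨n, h⟩, Or.inl rfl⟩
    · exact ⟨⟨_, h⟩, Or.inr (inv_mul_cancel_right _ _).symm⟩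
  have hc2 : fl3 * fl3 = 1 := three_facts.2.1
  have hct : c ⟨C.t, P.t_CL⟩ = 1 := by
    have h : τ ⟨C.t, P.t_CL⟩ = 1 := by
      have h2 : τ ⟨C.t, P.t_CL⟩ * τ ⟨C.t, P.t_CL⟩ = 1 := by
        rw [← map_mul, show (⟨C.t, P.t_CL⟩ : P.CL) * ⟨C.t, P.t_CL⟩ = 1 from Subtype.ext C.tt, map_one]
      exact (by decide : ∀ a : Multiplicative (ZMod 3), a * a = 1 → a = 1) _ h2
    show c3s ^ (Multiplicative.toAdd (τ ⟨C.t, P.t_CL⟩)).val = 1
    rw [h]; rfl
  let R3 : P.NZ →* Perm (Fin 3) :=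
    { toFun := r3
      map_one' := by rw [r3_in 1 1 rfl, map_one]
      map_mul' := fun m n => by
        obtain ⟨x, hx⟩ := hsplit m
        obtain ⟨y, hy⟩ := hsplit n
        have hy' : (cj E' y : G) = P.e' * y * P.e'⁻¹ := hcj _ _
        rcases hx with hx | hx <;> rcases hy with hy | hy
        · rw [r3_in m x hx, r3_in n y hy, r3_in (m * n) (x * y) (by simp [hx, hy]), map_mul]
        · rw [r3_in m x hx, r3_out n y hy, r3_out (m * n) (x * y) (by simp [hx, hy, mul_assoc]), map_mul, mul_assoc]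
        · rw [r3_out m x hx, r3_in n y hy, r3_out (m * n) (x * cj E' y) (by
            simp [hx, hy, hy', mul_assoc]), map_mul, hc_conj]
          rw [mul_assoc _ _ fl3, mul_assoc (fl3 * c y), hc2, mul_one, mul_assoc]
        · rw [r3_out m x hx, r3_out n y hy, r3_in (m * n) (x * cj E' y * ⟨C.t, P.t_CL⟩) (by
            show (m : G) * (n : G) = (x : G) * (cj E' y : G) * C.t
            rw [hx, hy, hy', ← P.e'_sq]; group), map_mul, map_mul, hc_conj, hct, mul_one]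
          group }
  have hR3E : R3 E' = fl3 := by
    show r3 E' = fl3
    rw [r3_out E' 1 (by simp [E']), map_one, one_mul]
  have hR3in : ∀ x : P.CL, R3 ⟨x, P.CL_le_NZ x.2⟩ = c x := fun x => r3_in _ x rfl
  set Θ0 : P.NZ →* Perm (Fin 3) × Perm (Fin 5) := R3.prod R5 with hΘ0
  set K := (((Perm.sign).comp (MonoidHom.fst (Perm (Fin 3)) (Perm (Fin 5)))) *
      ((Perm.sign).comp (MonoidHom.snd (Perm (Fin 3)) (Perm (Fin 5))))).ker with hK
  have hsign : ∀ n : P.NZ, Θ0 n ∈ K := by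
    intro n
    rw [hK, MonoidHom.mem_ker]
    show Perm.sign (R3 n) * Perm.sign (R5 n) = 1
    obtain ⟨x, hx⟩ := hsplit n
    have h5 : Perm.sign (R5 ⟨x, P.CL_le_NZ x.2⟩) = 1 := by
      rw [hCL5]; exact Perm.mem_alternatingGroup.1 (r x).2
    rcases hx with hx | hx
    · rw [show n = ⟨x, P.CL_le_NZ x.2⟩ from Subtype.ext hx, hR3in, hsign_c, h5, one_mul]
    · rw [show n = ⟨x, P.CL_le_NZ x.2⟩ * E' from Subtype.ext hx, map_mul, map_mul, map_mul, map_mul, hR3in, hR3E,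
        hsign_c, h5, hE5, three_facts.2.2.2.2.1]
      decide
  set Θ := Θ0.codRestrict K hsign with hΘ
  have hkerΘ : ∀ n : P.NZ, Θ n = 1 ↔ (n : G) = 1 ∨ (n : G) = C.t := by
    intro n
    constructor
    · intro h
      have h3 : R3 n = 1 := congrArg Prod.fst (congrArg Subtype.val h)
      have h5 : R5 n = 1 := congrArg Prod.snd (congrArg Subtype.val h)
      obtain ⟨x, hx⟩ := hsplit n
      rcases hx with hx | hx
      · rw [show n = ⟨x, P.CL_le_NZ x.2⟩ from Subtype.ext hx] at h3 h5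
        rw [hR3in] at h3
        rw [hCL5] at h5
        obtain ⟨i, a, hia⟩ := hrk x (Subtype.ext h5)
        have hi : i = 0 := by
          have e : x = (⟨P.z, P.z_CL⟩ : P.CL) ^ (i : ℕ) * (⟨C.t, P.t_CL⟩ : P.CL) ^ (a : ℕ) :=
            Subtype.ext (by simp [hia])
          rw [e, map_mul, map_pow, map_pow, hct, one_pow, mul_one,
            show c ⟨P.z, P.z_CL⟩ = c3s by
              show c3s ^ (Multiplicative.toAdd (τ ⟨P.z, P.z_CL⟩)).val = c3s
              rw [hτz]; exact pow_one _] at h3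
          exact three_facts.2.2.2.2.2 i h3
        rw [hx, hia, hi]
        fin_cases a
        · left; simp
        · right; simp
      · exfalso
        rw [show n = ⟨x, P.CL_le_NZ x.2⟩ * E' from Subtype.ext hx, map_mul, hR3in, hR3E] at h3
        have := congrArg Perm.sign h3
        rw [map_mul, hsign_c, three_facts.2.2.2.2.1, map_one] at this
        exact absurd this (by decide)
    · intro h
      refine Subtype.ext (Prod.ext ?_ ?_)
      · rcases h with h | h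
        · exact (r3_in n 1 h).trans (map_one c)
        · exact (r3_in n ⟨C.t, P.t_CL⟩ h).trans hct
      · rcases h with h | h
        · rw [show n = 1 from Subtype.ext h]; exact congrArg Prod.snd (map_one Θ0)
        · show R5 n = 1
          rw [show n = ⟨C.t, P.CL_le_NZ P.t_CL⟩ from Subtype.ext h, hCL5 ⟨C.t, P.t_CL⟩]
          exact congrArg Subtype.val (hkr 0 1 ⟨C.t, P.t_CL⟩ (by simp))
  refine ⟨Θ, ?_, hkerΘ⟩
  have hK360 : Nat.card K = 360 := even35_card
  have hkcard : Nat.card Θ.ker ≤ 2 := by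
    have hle : Set.range (Subtype.val ∘ Subtype.val : Θ.ker → G) ⊆ {1, C.t} := by
      rintro _ ⟨x, rfl⟩
      rcases (hkerΘ x).1 x.2 with h | h <;> simp [h]
    have := Nat.card_mono (Set.toFinite _) hle
    rw [Nat.card_range_of_injective (Subtype.val_injective.comp Subtype.val_injective)] at this
    refine this.trans ?_
    rw [Nat.card_coe_set_eq]
    exact (Set.ncard_insert_le _ _).trans (by simp)
  have h := card_eq_card_quotient_mul_card_subgroup Θ.ker
  rw [Nat.card_congr (QuotientGroup.quotientKerEquivRange Θ).toEquiv, P.card_NZ hCZ] at h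
  refine MonoidHom.range_eq_top.1 (eq_top_of_le_card Θ.range ?_)
  rw [hK360]
  nlinarith

end Conf.Pair.Point

end Cfsg.Agent.McLThree
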