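import Cfsg.Agent.Lib.McLThree.Eight
import Cfsg.Agent.Lib.McLThree.NoPoint

/-!
The involutions of the centraliser of the involution, when this centraliser modulo the involution is
`Sym(8)`.
-/

set_option autoImplicit false
set_option maxRecDepth 20000
set_option maxHeartbeats 1000000
set_option synthInstance.maxSize 4000
set_option synthInstance.maxHeartbeats 400000
set_option linter.style.haveILetI false
set_option linter.unusedSectionVars false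

namespace Cfsg.Agent.McLThree

open Subgroup Equiv
open Cfsg.Agent.S8Three (LL z0 w0 y0 t0 i0 Dm emb8 r3)

/-- An element of order three of `Sym(8)` centralising the triple transposition. -/
def pi8 : Perm (Fin 8) := (swap 5 6 * swap 6 7) * (swap 0 1 * swap 1 2)

theorem sign8_facts : Perm.sign r3 = -1 ∧ Perm.sign (r3 * swap 3 4) = 1 ∧
    Perm.sign (swap (0 : Fin 8) 1 * swap 3 4) = 1 ∧ Perm.sign (swap (3 : Fin 8) 4) = -1 ∧
    emb8 i0 = swap 0 1 * swap 3 4 ∧ emb8 t0 = swap 3 4 := by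
  decide +kernel

theorem pairing8 : swap (0 : Fin 8) 5 * r3 = r3 * swap 0 5 ∧ pi8 * r3 = r3 * pi8 ∧
    Equiv.Perm.cycleType (swap (0 : Fin 8) 5 * (pi8 * pi8 * swap 0 5 * (pi8 * pi8)⁻¹)) =
      Equiv.Perm.cycleType (swap (0 : Fin 8) 1 * swap 3 4) := by
  decide +kernel

theorem six_move : (∃ m : A6, m * t6 * m⁻¹ = g6 ∧ (m⁻¹ * t6 * m = g6 ∨ m⁻¹ * t6 * m = t6 * g6)) ∧
    ∃ m : A6, m * t6 * m⁻¹ = t6 * g6 := by
  decide +kernel

theorem diag_refl : ∀ g r : M2, (g = refl2 ∨ g = refl2') → (r = rot2 ∨ r = rot2') →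
    cmp (cmp g r) (cmp g r) = one2 ∧ cmp r (cmp g r) ≠ cmp (cmp g r) r ∧ cmp r g ≠ cmp g r ∧
      ∃ v : V2, v.1 ≠ 0 ∧ v.2 ≠ 0 ∧ app (cmp g r) v = v := by
  intro g r hg hr
  rcases hg with rfl | rfl <;> rcases hr with rfl | rfl <;> decide +kernel

theorem units_cube {α : Type*} [Group α] (φ : α →* ℤˣ) {x : α} (h : x ^ 3 = 1) : φ x = 1 := by
  have h3 : φ x ^ 3 = 1 := by rw [← map_pow, h, map_one]
  rcases Int.units_eq_one_or (φ x) with e | e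
  · exact e
  · rw [e] at h3; exact absurd h3 (by decide)

/-- The identification of the centraliser of the involution modulo the involution with `Sym(8)`. -/
structure Octad {G : Type*} [Group G] [Finite G] {C : Conf G} (P : C.Pair) where
  /-- the configuration -/
  K : S8Three.Cfg C.Xt
  /-- the chart -/
  Θ : P.NZ →* LL
  /-- the isomorphism -/
  Φ : Perm (Fin 8) ≃* C.Xt
  surj : Function.Surjective Θ
  Fv : ∀ n, K.F (Θ n) = C.qt ⟨n, P.NZ_Ct n.2⟩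
  Θz : Θ ⟨P.z, P.CL_le_NZ P.z_CL⟩ = z0
  Θw : Θ ⟨P.w, P.CL_le_NZ P.w_CL⟩ = w0
  Θe : ∃ k : Fin 3, Θ ⟨P.e, P.CL_le_NZ P.e_CL⟩ = w0 ^ (k : ℕ) * i0 * (w0 ^ (k : ℕ))⁻¹
  Ks : K.s = C.qt ⟨P.g0, P.g0_Ct⟩
  ΦF : ∀ q, Φ (emb8 q) = K.F q

theorem Conf.Pair.Point.exists_octad {G : Type*} [Group G] [Finite G] {C : Conf G} {P : C.Pair} (O : P.Point)
    (hne : ¬ C.CZ ≤ C.L)
    (hCY : ∀ x : G, x * C.t = C.t * x → x * P.y = P.y * x → x ∈ normalizer (C.J : Set G)) :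
    Nonempty (Octad P) := by
  obtain ⟨K, Θ, Φ, h1, h2, h3, h4, h5, h6, h7⟩ := O.exists_eight hne hCY
  exact ⟨⟨K, Θ, Φ, h1, h2, h3, h4, h5, h6, h7⟩⟩

namespace Octad

variable {G : Type*} [Group G] [Finite G] {C : Conf G} {P : C.Pair} (X : Octad P)
include X

/-- The image in `Sym(8)`. -/
noncomputable def im : C.Ct →* Perm (Fin 8) := X.Φ.symm.toMonoidHom.comp C.qt

/-- The sign. -/
noncomputable def sg : C.Ct →* ℤˣ := Perm.sign.comp X.im

theorem Φ_im (a : C.Ct) : X.Φ (X.im a) = C.qt a := X.Φ.apply_symm_apply _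

theorem im_surj : Function.Surjective X.im := X.Φ.symm.surjective.comp C.qt_surj

theorem im_one {a : C.Ct} : X.im a = 1 ↔ (a : G) = 1 ∨ (a : G) = C.t := by
  rw [← C.qt_one, ← X.Φ_im, MulEquiv.map_eq_one_iff]

theorem im_NZ (n : P.NZ) : X.im ⟨n, P.NZ_Ct n.2⟩ = emb8 (X.Θ n) :=
  X.Φ.injective (by rw [X.Φ_im, X.ΦF, X.Fv])

theorem im_D {d : C.Ct} (hd : (d : G) ∈ P.D) : X.sg d = 1 :=
  units_cube X.sg (Subtype.ext (C.J_exp _ hd.1))

/-- Elements with conjugate images are conjugate up to the involution. -/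
theorem conj_lift {u v : C.Ct} (h : IsConj (X.im v) (X.im u)) :
    ∃ k : C.Ct, (u : G) = k * v * (k : G)⁻¹ ∨ (u : G) = k * v * (k : G)⁻¹ * C.t := by
  obtain ⟨c, hc⟩ := isConj_iff.1 h
  obtain ⟨k, rfl⟩ := X.im_surj c
  refine ⟨k, ?_⟩
  have e : C.qt (k * v * k⁻¹) = C.qt u := by
    rw [← X.Φ_im, ← X.Φ_im]; congr 1; rw [map_mul, map_mul, map_inv, hc]
  exact C.qt_eq.1 e

/-- Squares equal to the involution are detected by the image. -/
theorem sq_t {u v : C.Ct} (h : IsConj (X.im v) (X.im u)) (hv : (v : G) * v = C.t) : (u : G) * u = C.t := by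
  obtain ⟨k, e⟩ := X.conj_lift h
  have hk : (k : G) * C.t * (k : G)⁻¹ = C.t := mul_inv_eq_iff_eq_mul.2 (C.t_central k)
  have h1 : ((k : G) * v * (k : G)⁻¹) * ((k : G) * v * (k : G)⁻¹) = C.t := by
    rw [show ((k : G) * v * (k : G)⁻¹) * ((k : G) * v * (k : G)⁻¹) = (k : G) * ((v : G) * v) * (k : G)⁻¹ by group,
      hv, hk]
  rcases e with e | e
  · rw [e, h1]
  · have hc : Commute ((k : G) * v * (k : G)⁻¹) C.t :=
      ((C.t_central k).mul_left (C.t_central v)).mul_left (C.t_central k).inv_left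
    rw [e, ← hc.symm.eq]
    calc C.t * ((k : G) * v * (k : G)⁻¹) * (C.t * ((k : G) * v * (k : G)⁻¹))
        = C.t * (((k : G) * v * (k : G)⁻¹) * C.t) * ((k : G) * v * (k : G)⁻¹) := by group
      _ = C.t * (C.t * ((k : G) * v * (k : G)⁻¹)) * ((k : G) * v * (k : G)⁻¹) := by rw [hc.eq]
      _ = (C.t * C.t) * (((k : G) * v * (k : G)⁻¹) * ((k : G) * v * (k : G)⁻¹)) := by group
      _ = C.t := by rw [C.tt, h1, one_mul]

/-- The element above the transposition. -/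
theorem exists_r (O : P.Point) : ∃ r : C.Ct, X.im r = swap 3 4 ∧ (r : G) * r = C.t ∧
    (O.wact (r : G) = rot2 ∨ O.wact (r : G) = rot2') ∧ (r : G) ∈ P.NT ∧
    (r : G) * P.z = P.z * r ∧ (r : G) * P.w = P.w * r := by
  obtain ⟨n, hn⟩ := X.surj t0
  set r : C.Ct := ⟨n, P.NZ_Ct n.2⟩ with hr
  have him : X.im r = swap 3 4 := by rw [hr, X.im_NZ, hn, sign8_facts.2.2.2.2.2]
  have hq : ∀ d : P.NZ, t0 * X.Θ d = X.Θ d * t0 → C.qt r * C.qt ⟨d, P.NZ_Ct d.2⟩ = C.qt ⟨d, P.NZ_Ct d.2⟩ * C.qt r := by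
    intro d hd
    rw [hr, ← X.Fv, ← X.Fv, ← map_mul X.K.F, ← map_mul X.K.F, hn, hd]
  have hz : (r : G) * P.z = P.z * r := C.qt_comm_three (d := ⟨P.z, P.z_Ct⟩) P.z3
    (hq ⟨P.z, P.CL_le_NZ P.z_CL⟩ (by rw [X.Θz]; decide +kernel))
  have hw : (r : G) * P.w = P.w * r := C.qt_comm_three (d := ⟨P.w, P.w_Ct⟩) P.w3
    (hq ⟨P.w, P.CL_le_NZ P.w_CL⟩ (by rw [X.Θw]; decide +kernel))
  have hrt : (r : G) * C.t = C.t * r := C.t_central r
  have hNT := P.kernel_NT hrt hz hw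
  refine ⟨r, him, ?_, ?_, hNT, hz, hw⟩
  swap
  · rcases O.kernel_two hrt hz hw with ⟨i, k, a, e⟩ | h
    · exfalso
      have hT : X.Θ ⟨C.t, P.CL_le_NZ P.t_CL⟩ = 1 := X.K.F_inj (by
        rw [X.Fv, map_one]; exact C.qt_one.2 (Or.inr rfl))
      have : n = (⟨P.z, P.CL_le_NZ P.z_CL⟩ : P.NZ) ^ (i : ℕ) * ⟨P.w, P.CL_le_NZ P.w_CL⟩ ^ (k : ℕ) *
          ⟨C.t, P.CL_le_NZ P.t_CL⟩ ^ (a : ℕ) := Subtype.ext (by simpa [hr] using e)
      rw [this, map_mul, map_mul, map_pow, map_pow, map_pow, X.Θz, X.Θw, hT, one_pow, mul_one] at hn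
      exact (by decide +kernel : ∀ i k : Fin 3, z0 ^ (i : ℕ) * w0 ^ (k : ℕ) ≠ t0) i k hn
    · exact h
  · rcases (X.im_one (a := r * r)).1 (by rw [map_mul, him]; decide +kernel) with h | h
    · exfalso
      rcases O.kernel_two hrt hz hw with ⟨i, k, a, e⟩ | hrot
      · have hT : X.Θ ⟨C.t, P.CL_le_NZ P.t_CL⟩ = 1 := X.K.F_inj (by
          rw [X.Fv, map_one]; exact C.qt_one.2 (Or.inr rfl))
        have : n = (⟨P.z, P.CL_le_NZ P.z_CL⟩ : P.NZ) ^ (i : ℕ) * ⟨P.w, P.CL_le_NZ P.w_CL⟩ ^ (k : ℕ) *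
            ⟨C.t, P.CL_le_NZ P.t_CL⟩ ^ (a : ℕ) := Subtype.ext (by simpa [hr] using e)
        rw [this, map_mul, map_mul, map_pow, map_pow, map_pow, X.Θz, X.Θw, hT, one_pow, mul_one] at hn
        exact (by decide +kernel : ∀ i k : Fin 3, z0 ^ (i : ℕ) * w0 ^ (k : ℕ) ≠ t0) i k hn
      · have h2 := congrArg O.wact (show (r : G) * r = 1 from h)
        rw [O.wact_mul hNT hNT, O.wact_one] at h2
        rcases hrot with e | e <;> rw [e] at h2 <;> exact absurd h2 (by decide +kernel)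
    · exact h

theorem im_e : IsConj (swap (0 : Fin 8) 1 * swap 3 4) (X.im ⟨P.e, C.mem_Ct.2 P.e_t⟩) := by
  obtain ⟨k, hk⟩ := X.Θe
  rw [show (⟨P.e, C.mem_Ct.2 P.e_t⟩ : C.Ct) = ⟨(⟨P.e, P.CL_le_NZ P.e_CL⟩ : P.NZ), C.mem_Ct.2 P.e_t⟩ from rfl,
    X.im_NZ, hk]
  exact isConj_iff.2 ⟨emb8 (w0 ^ (k : ℕ)), by rw [map_mul, map_mul, map_inv, sign8_facts.2.2.2.2.1]⟩

/-- The classes of the involutions other than the central one. -/
theorem invol_class (O : P.Point) {u : C.Ct} (hu : (u : G) * u = 1) (h1 : (u : G) ≠ 1) (ht : (u : G) ≠ C.t) :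
    IsConj r3 (X.im u) ∨ IsConj (r3 * swap 3 4) (X.im u) := by
  have hne : X.im u ≠ 1 := fun e => (X.im_one.1 e).elim h1 ht
  have hsq : X.im u * X.im u = 1 := by rw [← map_mul]; exact X.im_one.2 (Or.inl hu)
  obtain ⟨r, hr, hrc⟩ := S8Three.involution_reps _ hsq hne
  simp only [S8Three.invReps, List.mem_cons, List.not_mem_nil, or_false] at hr
  rcases hr with rfl | rfl | rfl | rfl
  · exfalso
    obtain ⟨ρ, hρ, hρ2, -⟩ := X.exists_r O
    have := X.sq_t (v := ρ) (hρ.symm ▸ hrc) hρ2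
    exact C.t_ne (this.symm.trans hu)
  · exfalso
    have := X.sq_t (X.im_e.symm.trans hrc) (v := ⟨P.e, C.mem_Ct.2 P.e_t⟩) P.e_sq
    exact C.t_ne (this.symm.trans hu)
  · exact Or.inl hrc
  · exact Or.inr hrc

end Octad

namespace Conf.Pair

variable {G : Type*} [Group G] [Finite G] {C : Conf G} (P : C.Pair)
include P

/-- Involutions with the same image in `A₆` are conjugate by an element of `J` between them. -/
theorem root_conj {a b : G} (ha : a * a = 1) (hb : b * b = 1) (h : a * b ∈ C.J) :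
    (a * b) * a * (a * b)⁻¹ = b := by
  have ha' : a⁻¹ = a := inv_eq_of_mul_eq_one_right ha
  have hb' : b⁻¹ = b := inv_eq_of_mul_eq_one_right hb
  have h3 := C.J_exp _ h
  calc (a * b) * a * (a * b)⁻¹ = a * b * a * b * a := by rw [mul_inv_rev, ha', hb']; group
    _ = b⁻¹ := eq_inv_of_mul_eq_one_left (by
        rw [← h3]; simp only [pow_succ, pow_zero, one_mul, mul_assoc])
    _ = b := hb'

theorem psi_J {a b : C.M} (h : P.psi a = P.psi b) (ha : (a : G) * a = 1) : (a : G) * b ∈ C.J := by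
  refine (P.psi_ker (a * b)).1 ?_
  rw [map_mul, ← h, ← map_mul, show a * a = 1 from Subtype.ext ha, map_one]

/-- `t`, `g₀` and `g₀t` are conjugate, and the four-group they form is normalised suitably. -/
theorem four_group : (∃ σ : G, σ * C.t * σ⁻¹ = P.g0 ∧
      (σ⁻¹ * C.t * σ = P.g0 ∨ σ⁻¹ * C.t * σ = C.t * P.g0)) ∧
    ∃ σ : G, σ * C.t * σ⁻¹ = C.t * P.g0 := by
  have hgg : (C.t * P.g0) * (C.t * P.g0) = 1 := by
    rw [show (C.t * P.g0) * (C.t * P.g0) = C.t * (P.g0 * C.t) * P.g0 by group, P.g0_t, ← mul_assoc, C.tt,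
      one_mul, P.g0_sq]
  have hconjsq : ∀ m : G, (m * C.t * m⁻¹) * (m * C.t * m⁻¹) = 1 := fun m => by
    rw [show (m * C.t * m⁻¹) * (m * C.t * m⁻¹) = m * (C.t * C.t) * m⁻¹ by group, C.tt, mul_one, mul_inv_cancel]
  set T : C.M := ⟨C.t, P.t_M⟩
  set G0 : C.M := ⟨P.g0, P.g0_M⟩
  have lift : ∀ (m : C.M) (B : C.M), P.psi (m * T * m⁻¹) = P.psi B → (B : G) * B = 1 →
      ∃ j ∈ C.J, (j * m) * C.t * (j * m)⁻¹ = B := by
    intro m B h hB
    have hJ := P.psi_J (a := m * T * m⁻¹) (b := B) h (hconjsq m)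
    refine ⟨((m * T * m⁻¹ : C.M) : G) * B, hJ, ?_⟩
    conv_rhs => rw [← root_conj P (hconjsq m) hB hJ]
    simp only [T, Subgroup.coe_mul, InvMemClass.coe_inv]
    group
  constructor
  · obtain ⟨m0, hm1, hm2⟩ := six_move.1
    obtain ⟨m, rfl⟩ := P.psi_surj m0
    obtain ⟨j, hj, hjm⟩ := lift m G0 (by rw [map_mul, map_mul, map_inv, P.psi_t, hm1, P.psi_g0]) P.g0_sq
    set τ := j * (m : G) with hτ
    have hτM : τ ∈ C.M := mul_mem (C.JM hj) m.2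
    have hψ : P.psi ⟨τ, hτM⟩ = P.psi m := by
      rw [show (⟨τ, hτM⟩ : C.M) = ⟨j, C.JM hj⟩ * m from rfl, map_mul, (P.psi_ker ⟨j, C.JM hj⟩).2 hj, one_mul]
    set b := τ⁻¹ * C.t * τ with hb
    have hbb : b * b = 1 := by rw [hb]; simpa using hconjsq τ⁻¹
    have hbt : b * C.t = C.t * b := by
      have hc : Commute C.t (τ * C.t * τ⁻¹) := by rw [hjm]; exact P.g0_t.symm
      calc b * C.t = τ⁻¹ * (C.t * (τ * C.t * τ⁻¹)) * τ := by rw [hb]; group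
        _ = τ⁻¹ * ((τ * C.t * τ⁻¹) * C.t) * τ := by rw [hc.eq]
        _ = _ := by rw [hb]; group
    have main : ∀ A : C.M, (P.psi ⟨τ, hτM⟩)⁻¹ * t6 * P.psi ⟨τ, hτM⟩ = P.psi A → (A : G) * A = 1 →
        (A : G) * C.t = C.t * A → ∃ σ, σ * C.t * σ⁻¹ = P.g0 ∧ σ⁻¹ * C.t * σ = A := by
      intro A hA hAA hAt
      set B : C.M := ⟨τ, hτM⟩⁻¹ * T * ⟨τ, hτM⟩ with hB
      have hBv : (B : G) = b := rfl
      have hJ : (A : G) * b ∈ C.J := by
        rw [← hBv]; exact P.psi_J (by rw [hB, map_mul, map_mul, map_inv, P.psi_t, hA]) hAA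
      set i := (A : G) * b with hi
      have hit : i * C.t = C.t * i := ((show Commute (A : G) C.t from hAt).mul_left hbt).eq
      refine ⟨τ * i, ?_, ?_⟩
      · rw [show τ * i * C.t * (τ * i)⁻¹ = τ * (i * C.t * i⁻¹) * τ⁻¹ by group, hit, mul_inv_cancel_right, hjm]
      · have h1 := root_conj P hAA hbb hJ
        calc (τ * i)⁻¹ * C.t * (τ * i) = i⁻¹ * b * i := by rw [hb]; group
          _ = i⁻¹ * (i * A * i⁻¹) * i := by rw [hi, h1]
          _ = A := by group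
    rw [← hψ] at hm2
    rcases hm2 with h | h
    · obtain ⟨σ, h1, h2⟩ := main G0 (by rw [h, P.psi_g0]) P.g0_sq P.g0_t
      exact ⟨σ, h1, Or.inl h2⟩
    · obtain ⟨σ, h1, h2⟩ := main (T * G0) (by rw [h, map_mul, P.psi_t, P.psi_g0]) hgg
        ((show Commute C.t C.t from Commute.refl _).mul_left P.g0_t).eq
      exact ⟨σ, h1, Or.inr h2⟩
  · obtain ⟨m0, hm⟩ := six_move.2
    obtain ⟨m, rfl⟩ := P.psi_surj m0
    obtain ⟨j, -, hjm⟩ := lift m (T * G0) (by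
      rw [map_mul, map_mul, map_inv, P.psi_t, hm, map_mul, P.psi_t, P.psi_g0]) hgg
    exact ⟨_, hjm⟩

end Conf.Pair

namespace Octad

variable {G : Type*} [Group G] [Finite G] {C : Conf G} {P : C.Pair} (X : Octad P)
include X

theorem g0_facts : P.g0 ≠ 1 ∧ P.g0 ≠ C.t := by
  constructor <;> intro h <;> have e := P.g0_z <;> rw [h] at e
  · exact P.w_notZ (by rw [← e]; simpa using P.z_mem)
  · rw [← P.z_t, mul_inv_cancel_right] at e
    exact P.w_notZ (e ▸ P.z_mem)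

/-- The image of `g₀` is even. -/
theorem sg_g0 (O : P.Point) : X.sg ⟨P.g0, P.g0_Ct⟩ = 1 := by
  obtain ⟨h1, h2⟩ := X.g0_facts
  rcases X.invol_class O (u := ⟨P.g0, P.g0_Ct⟩) P.g0_sq h1 h2 with h | h
  swap
  · show Perm.sign (X.im _) = 1
    obtain ⟨c, hc⟩ := isConj_iff.1 h
    rw [← hc, map_mul, map_mul, map_inv, sign8_facts.2.1, mul_one, mul_inv_cancel]
  obtain ⟨c, hc⟩ := isConj_iff.1 h
  obtain ⟨c1, hc1⟩ := X.im_surj (c * swap 0 5 * c⁻¹)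
  obtain ⟨x, hx⟩ := X.im_surj (c * pi8 * c⁻¹)
  set g0' : C.Ct := ⟨P.g0, P.g0_Ct⟩ with hg0'
  have hcom : ∀ a : C.Ct, X.im a * X.im g0' = X.im g0' * X.im a →
      (a : G) * P.g0 * (a : G)⁻¹ = P.g0 ∨ (a : G) * P.g0 * (a : G)⁻¹ = P.g0 * C.t := fun a ha =>
    C.qt_eq.1 (show C.qt g0' = C.qt (a * g0' * a⁻¹) by
      rw [← X.Φ_im, ← X.Φ_im]; congr 1; rw [map_mul, map_mul, map_inv, ha, mul_inv_cancel_right])
  have hc1' := hcom c1 (by
    rw [hc1, ← hc]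
    calc c * swap 0 5 * c⁻¹ * (c * r3 * c⁻¹) = c * (swap 0 5 * r3) * c⁻¹ := by group
      _ = _ := by rw [pairing8.1]; group)
  have hx' := hcom x (by
    rw [hx, ← hc]
    calc c * pi8 * c⁻¹ * (c * r3 * c⁻¹) = c * (pi8 * r3) * c⁻¹ := by group
      _ = _ := by rw [pairing8.2.1]; group)
  have hgt : Commute P.g0 C.t := P.g0_t
  have hx2 : ((x * x : C.Ct) : G) * P.g0 = P.g0 * ((x * x : C.Ct) : G) := by
    refine mul_inv_eq_iff_eq_mul.1 ?_
    rw [Subgroup.coe_mul, show (x : G) * x * P.g0 * ((x : G) * x)⁻¹ = (x : G) * ((x : G) * P.g0 * (x : G)⁻¹) * (x : G)⁻¹ by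
      group]
    rcases hx' with e | e
    · rw [e, e]
    · rw [e, show (x : G) * (P.g0 * C.t) * (x : G)⁻¹ = ((x : G) * P.g0 * (x : G)⁻¹) * ((x : G) * C.t * (x : G)⁻¹) by
        group, e, mul_inv_eq_iff_eq_mul.2 (C.t_central x), mul_assoc, C.tt, mul_one]
  set y2 : G := ((x * x : C.Ct) : G) with hy2
  have hy2i : y2⁻¹ * P.g0 * y2 = P.g0 := by rw [mul_assoc, ← hx2, inv_mul_cancel_left]
  have hconj2 : y2 * c1 * y2⁻¹ * P.g0 * (y2 * c1 * y2⁻¹)⁻¹ = (c1 : G) * P.g0 * (c1 : G)⁻¹ := by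
    rw [show y2 * c1 * y2⁻¹ * P.g0 * (y2 * c1 * y2⁻¹)⁻¹ = y2 * ((c1 : G) * (y2⁻¹ * P.g0 * y2) * (c1 : G)⁻¹) * y2⁻¹ by
      group, hy2i]
    rcases hc1' with e | e
    · rw [e, hx2, mul_inv_cancel_right]
    · rw [e, show y2 * (P.g0 * C.t) * y2⁻¹ = (y2 * P.g0 * y2⁻¹) * (y2 * C.t * y2⁻¹) by group, hx2,
        mul_inv_cancel_right, mul_inv_eq_iff_eq_mul.2 (C.t_central (x * x))]
  set q : C.Ct := c1 * (x * x * c1 * (x * x)⁻¹) with hq
  have hqg : Commute (q : G) P.g0 := by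
    refine mul_inv_eq_iff_eq_mul.1 ?_
    rw [hq]
    show (c1 : G) * (y2 * c1 * y2⁻¹) * P.g0 * ((c1 : G) * (y2 * c1 * y2⁻¹))⁻¹ = P.g0
    rw [show (c1 : G) * (y2 * c1 * y2⁻¹) * P.g0 * ((c1 : G) * (y2 * c1 * y2⁻¹))⁻¹ =
      (c1 : G) * (y2 * c1 * y2⁻¹ * P.g0 * (y2 * c1 * y2⁻¹)⁻¹) * (c1 : G)⁻¹ by group, hconj2]
    rcases hc1' with e | e
    · rw [e, e]
    · rw [e, show (c1 : G) * (P.g0 * C.t) * (c1 : G)⁻¹ = ((c1 : G) * P.g0 * (c1 : G)⁻¹) * ((c1 : G) * C.t * (c1 : G)⁻¹) by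
        group, e, mul_inv_eq_iff_eq_mul.2 (C.t_central c1), mul_assoc, C.tt, mul_one]
  have himq : c * (swap (0 : Fin 8) 5 * (pi8 * pi8 * swap 0 5 * (pi8 * pi8)⁻¹)) * c⁻¹ = X.im q := by
    rw [hq]; simp only [map_mul, map_inv, hc1, hx]; group
  have hqq : (q : G) * q = C.t := X.sq_t (v := ⟨P.e, C.mem_Ct.2 P.e_t⟩)
    (X.im_e.symm.trans ((Equiv.Perm.isConj_iff_cycleType_eq.2 pairing8.2.2.symm).trans
      (isConj_iff.2 ⟨c, himq⟩))) P.e_sq
  obtain ⟨σ, hσ1, hσ2⟩ := P.four_group.1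
  have hqt : Commute (q : G) C.t := C.t_central q
  have hqb : Commute (q : G) (σ⁻¹ * C.t * σ) := by
    rcases hσ2 with e | e <;> rw [e]
    · exact hqg
    · exact hqt.mul_right hqg
  set q' : C.Ct := ⟨σ * q * σ⁻¹, C.mem_Ct.2 (by
    calc σ * (q : G) * σ⁻¹ * C.t = σ * ((q : G) * (σ⁻¹ * C.t * σ)) * σ⁻¹ := by group
      _ = σ * ((σ⁻¹ * C.t * σ) * (q : G)) * σ⁻¹ := by rw [hqb.eq]
      _ = _ := by group)⟩
  rw [show g0' = q' * q' from Subtype.ext (by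
    show P.g0 = σ * q * σ⁻¹ * (σ * q * σ⁻¹)
    rw [show σ * (q : G) * σ⁻¹ * (σ * q * σ⁻¹) = σ * ((q : G) * q) * σ⁻¹ by group, hqq, hσ1]), map_mul]
  exact Int.units_mul_self _

/-- The inner involutions are conjugate to `t`. -/
theorem inner (O : P.Point) {u : C.Ct} (hu : (u : G) * u = 1) (h1 : (u : G) ≠ 1) (hs : X.sg u = 1) :
    ∃ k : G, k * C.t * k⁻¹ = u := by
  by_cases ht : (u : G) = C.t
  · exact ⟨1, by simp [ht]⟩
  have cls : ∀ v : C.Ct, (v : G) * v = 1 → (v : G) ≠ 1 → (v : G) ≠ C.t → X.sg v = 1 →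
      IsConj (r3 * swap 3 4) (X.im v) := by
    intro v hv hv1 hvt hvs
    rcases X.invol_class O hv hv1 hvt with h | h
    · exfalso
      obtain ⟨c, hc⟩ := isConj_iff.1 h
      have : Perm.sign (X.im v) = -1 := by
        rw [← hc, map_mul, map_mul, map_inv, sign8_facts.1, mul_comm (Perm.sign c), mul_inv_cancel_right]
      exact absurd (hvs.symm.trans this) (by decide)
    · exact h
  obtain ⟨h0, h0'⟩ := X.g0_facts
  obtain ⟨k, e⟩ := X.conj_lift (u := u) (v := ⟨P.g0, P.g0_Ct⟩)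
    ((cls ⟨P.g0, P.g0_Ct⟩ P.g0_sq h0 h0' (X.sg_g0 O)).symm.trans (cls u hu h1 ht hs))
  rcases e with e | e
  · obtain ⟨σ, hσ, -⟩ := P.four_group.1
    refine ⟨k * σ, ?_⟩
    calc (k : G) * σ * C.t * ((k : G) * σ)⁻¹ = (k : G) * (σ * C.t * σ⁻¹) * (k : G)⁻¹ := by group
      _ = (u : G) := by rw [hσ, e]
  · obtain ⟨σ, hσ⟩ := P.four_group.2
    refine ⟨k * σ, ?_⟩
    rw [e]
    calc (k : G) * σ * C.t * ((k : G) * σ)⁻¹ = (k : G) * (σ * C.t * σ⁻¹) * (k : G)⁻¹ := by group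
      _ = ((k : G) * C.t * (k : G)⁻¹) * ((k : G) * P.g0 * (k : G)⁻¹) := by rw [hσ]; group
      _ = ((k : G) * P.g0 * (k : G)⁻¹) * C.t := by
          rw [mul_inv_eq_iff_eq_mul.2 (C.t_central k)]
          exact ((((C.t_central k).mul_left (show Commute P.g0 C.t from P.g0_t)).mul_left (C.t_central k).inv_left)).symm.eq

end Octad

end Cfsg.Agent.McLThree
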