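import Cfsg.Agent.Lib.McLThree.Dee

/-!
The element `y = z w`: the image of its centraliser in `M` is an alternating group of degree four.
-/

set_option autoImplicit false
set_option maxRecDepth 20000
set_option maxHeartbeats 1000000
set_option synthInstance.maxSize 4000
set_option synthInstance.maxHeartbeats 400000
set_option linter.style.haveILetI false
set_option linter.unusedSectionVars false

namespace Cfsg.Agent.McLThree

open Subgroup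

/-- The normaliser of the first Sylow subgroup of `A₆`. -/
def N6 : Subgroup A6 where
  carrier := {p | InN6 p}
  one_mem' := by
    show InN6 1
    obtain ⟨ha, hb, -⟩ := six_basic
    exact ⟨by simpa using ha, by simpa using hb⟩
  mul_mem' := fun {p q} hp hq => by
    have key : ∀ r, InP6 r → InP6 (p * q * r * (p * q)⁻¹) := fun r hr => by
      have := six_N p hp _ (six_N q hq r hr)
      rwa [show p * q * r * (p * q)⁻¹ = p * (q * r * q⁻¹) * p⁻¹ by group]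
    exact ⟨key _ six_basic.1, key _ six_basic.2.1⟩
  inv_mem' := fun {p} hp => by
    have hk : ∀ n : ℕ, ∀ r, InP6 r → InP6 (p ^ n * r * (p ^ n)⁻¹) := by
      intro n
      induction n with
      | zero => intro r hr; simpa using hr
      | succ n ih =>
        intro r hr
        have := six_N p hp _ (ih r hr)
        rwa [show p ^ (n + 1) * r * (p ^ (n + 1))⁻¹ = p * (p ^ n * r * (p ^ n)⁻¹) * p⁻¹ by
          rw [pow_succ']; group]
    have e : p⁻¹ = p ^ (orderOf p - 1) := by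
      refine inv_eq_of_mul_eq_one_left ?_
      rw [← pow_succ, Nat.sub_add_cancel (orderOf_pos p), pow_orderOf_eq_one]
    exact e.symm ▸ ⟨hk _ _ six_basic.1, hk _ _ six_basic.2.1⟩

theorem mem_N6 {p : A6} : p ∈ N6 ↔ InN6 p := Iff.rfl

theorem N6_index : N6.index = 10 := by
  classical
  have h : Nat.card N6 = 36 := by
    rw [← six_N_card, Nat.card_eq_fintype_card, Fintype.card_subtype]
    exact congrArg Finset.card (Finset.filter_congr fun p _ => mem_N6)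
  have h2 := N6.card_mul_index
  rw [h, Nat.card_eq_fintype_card, cardA6] at h2
  omega

namespace Conf.Pair

variable {G : Type*} [Group G] [Finite G] {C : Conf G} (P : C.Pair)
include P

/-- The element `y`. -/
def y : G := P.z * P.w

theorem y_J : P.y ∈ C.J := mul_mem P.z_J P.w_J

theorem y_t : P.y * C.t = C.t * P.y :=
  ((show Commute P.z C.t from P.z_t).mul_left (show Commute P.w C.t from P.w_t)).eq

theorem g_y : P.g * P.y * P.g⁻¹ = P.y := by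
  rw [y, show P.g * (P.z * P.w) * P.g⁻¹ = (P.g * P.z * P.g⁻¹) * (P.g * P.w * P.g⁻¹) by group, P.gzg, P.gwg,
    P.zw]

theorem y_not_type {m : G} (hm : m ∈ C.M) :
    m * P.z * m⁻¹ ≠ P.y ∧ m * P.z⁻¹ * m⁻¹ ≠ P.y := by
  refine ⟨fun h => ?_, fun h => ?_⟩
  · rcases P.type_D hm (i := 1) (k := 1) (by rw [h, y]; simp) with h1 | h1 <;> exact absurd h1 (by decide)
  · have e : m * P.z * m⁻¹ = P.z ^ ((2 : Fin 3) : ℕ) * P.w ^ ((2 : Fin 3) : ℕ) := by
      rw [show m * P.z * m⁻¹ = (m * P.z⁻¹ * m⁻¹)⁻¹ by group, h, y]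
      refine inv_eq_of_mul_eq_one_right ?_
      show P.z * P.w * (P.z ^ 2 * P.w ^ 2) = 1
      calc P.z * P.w * (P.z ^ 2 * P.w ^ 2) = P.z * (P.w * P.z ^ 2) * P.w ^ 2 := by group
        _ = P.z * (P.z ^ 2 * P.w) * P.w ^ 2 := by rw [((show Commute P.w P.z from P.zw.symm).pow_right 2).eq]
        _ = P.z ^ 3 * P.w ^ 3 := by simp [pow_succ, mul_assoc]
        _ = 1 := by rw [P.z3, P.w3, one_mul]
    rcases P.type_D hm e with h1 | h1 <;> exact absurd h1 (by decide)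

theorem y_notQ : P.y ∉ C.Q := fun h => P.w_notQ (by
  have := mul_mem (inv_mem (C.Z_le_Q P.z_mem)) h
  rwa [y, inv_mul_cancel_left] at this)

theorem y_ne : P.y ≠ 1 := fun h => P.y_notQ (h ▸ one_mem _)

theorem exists_m : ∃ m ∈ C.M, m⁻¹ * P.y * m ∈ C.A := by
  obtain ⟨a, haψ⟩ := P.psi_surj a6
  obtain ⟨ha6, -⟩ := six_basic
  obtain ⟨q, hq, j, hj, hqj⟩ := C.S_decomp ((P.psi_S a).1 (haψ ▸ ha6))
  have hqM : q ∈ C.M := C.S_le_M (C.Q_le_S hq)
  have hqψ : P.psi ⟨q, hqM⟩ = a6 := by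
    rw [← haψ, show a = ⟨q, hqM⟩ * ⟨j, C.JM hj⟩ from Subtype.ext hqj, map_mul, (P.psi_ker ⟨j, C.JM hj⟩).2 hj,
      mul_one]
  set x := q⁻¹ * P.w * q with hx
  have hxJ : x ∈ C.J := by simpa [hx] using C.J_normal (inv_mem (C.Q_le_S hq)) P.w_J
  have hgx : P.g⁻¹ * x * P.g ∈ C.J := (mem_normalizer_iff.1 P.g_norm _).2 (by
    rw [show P.g * (P.g⁻¹ * x * P.g) * P.g⁻¹ = x by group]; exact hxJ)
  obtain ⟨k, hk⟩ := P.J_pow hgx
  have hyq : ∀ q' ∈ C.Q, (q' * P.g)⁻¹ * P.y * (q' * P.g) = P.w * (P.g⁻¹ * (q'⁻¹ * P.w * q') * P.g) := by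
    intro q' hq'
    rw [y]
    calc (q' * P.g)⁻¹ * (P.z * P.w) * (q' * P.g) = P.g⁻¹ * ((q'⁻¹ * P.z) * P.w * q') * P.g := by group
      _ = P.g⁻¹ * ((P.z * q'⁻¹) * P.w * q') * P.g := by rw [C.zq P.z_mem (inv_mem hq')]
      _ = (P.g⁻¹ * P.z * P.g) * (P.g⁻¹ * (q'⁻¹ * P.w * q') * P.g) := by group
      _ = _ := by rw [P.ginv_z]
  fin_cases k
  · exfalso
    simp only [Fin.zero_eta, Fin.isValue, Fin.coe_ofNat_eq_mod, Nat.zero_mod, pow_zero, inv_one, mul_one] at hk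
    have hm0 : P.g⁻¹ * q⁻¹ * P.g ∈ C.M := mul_mem (mul_mem (inv_mem P.g_mem) (inv_mem hqM)) P.g_mem
    have h1 := P.A_type hm0 (by
      rw [show P.g⁻¹ * q⁻¹ * P.g * P.z * (P.g⁻¹ * q⁻¹ * P.g)⁻¹ = P.g⁻¹ * (q⁻¹ * (P.g * P.z * P.g⁻¹) * q) * P.g by
        group, P.gzg, ← hx]
      exact hk)
    have h2 := (P.toFrame.norm_Z_iff ⟨_, hm0⟩).1 (C.norm_Z_of P.z_mem P.z_ne h1)
    rw [show (⟨_, hm0⟩ : C.M) = ⟨P.g, P.g_mem⟩⁻¹ * ⟨q, hqM⟩⁻¹ * ⟨P.g, P.g_mem⟩ from rfl, map_mul, map_mul,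
      map_inv, map_inv, P.psi_g, hqψ] at h2
    have h3 := six_sep a6⁻¹ (mem_P6.1 (inv_mem (mem_P6.2 ha6))) h2
    exact absurd h3 (by decide +kernel)
  · set q' := P.e * q * P.e⁻¹ with hq'
    have hq'Q : q' ∈ C.Q := C.normQ _ (C.L_norm P.e_mem) q hq
    refine ⟨q' * P.g, mul_mem (C.S_le_M (C.Q_le_S hq'Q)) P.g_mem, ?_⟩
    rw [hyq q' hq'Q]
    set f := P.g⁻¹ * P.e * P.g with hf
    have hfw : f * P.w * f⁻¹ = P.w := by
      rw [hf, show P.g⁻¹ * P.e * P.g * P.w * (P.g⁻¹ * P.e * P.g)⁻¹ =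
        P.g⁻¹ * (P.e * (P.g * P.w * P.g⁻¹) * P.e⁻¹) * P.g by group, P.gwg, P.e_z, mul_inv_cancel_right, P.ginv_z]
    have hfz : f * P.z * f⁻¹ = P.z⁻¹ := by
      rw [hf, show P.g⁻¹ * P.e * P.g * P.z * (P.g⁻¹ * P.e * P.g)⁻¹ =
        P.g⁻¹ * (P.e * (P.g * P.z * P.g⁻¹) * P.e⁻¹) * P.g by group, P.gzg, P.e_w, ← P.ginv_w]
      group
    have hfZ : f ∈ normalizer (C.Z : Set G) := C.norm_Z_of P.z_mem P.z_ne (hfz ▸ inv_mem P.z_mem)
    have hfJ : f ∈ normalizer (C.J : Set G) := mul_mem (mul_mem (inv_mem P.g_norm) P.e_J) P.g_norm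
    have hfA : ∀ u ∈ C.A, f * u * f⁻¹ ∈ C.A := fun u hu =>
      mem_inf.2 ⟨(mem_normalizer_iff.1 hfJ u).1 hu.1, C.normQ f hfZ u hu.2⟩
    have he : P.e⁻¹ * P.w * P.e = P.w⁻¹ := by
      have h := congrArg (fun v => P.e⁻¹ * v⁻¹ * P.e) P.e_w
      simp only [inv_inv] at h
      rw [← h]; group
    simp only [Fin.mk_one, Fin.isValue, Fin.coe_ofNat_eq_mod, Nat.one_mod, pow_one] at hk
    set a0 := P.g⁻¹ * x * P.g * P.w⁻¹ with ha0
    have e1 : P.g⁻¹ * (q'⁻¹ * P.w * q') * P.g = f * (a0 * P.w)⁻¹ * f⁻¹ := by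
      rw [ha0, inv_mul_cancel_right]
      calc P.g⁻¹ * (q'⁻¹ * P.w * q') * P.g
          = P.g⁻¹ * (P.e * (q⁻¹ * (P.e⁻¹ * P.w * P.e) * q) * P.e⁻¹) * P.g := by rw [hq']; group
        _ = _ := by rw [he, hf, hx]; group
    rw [e1, show f * (a0 * P.w)⁻¹ * f⁻¹ = (f * P.w * f⁻¹)⁻¹ * (f * a0⁻¹ * f⁻¹) by group, hfw,
      mul_inv_cancel_left]
    exact hfA _ (inv_mem hk)
  · refine ⟨q * P.g, mul_mem hqM P.g_mem, ?_⟩
    rw [hyq q hq, ← hx]
    have e : P.w = (P.w ^ 2)⁻¹ := eq_inv_of_mul_eq_one_left ((pow_succ' _ _).symm.trans P.w3)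
    rw [e]
    have hc : (P.w ^ 2)⁻¹ * (P.g⁻¹ * x * P.g) = P.g⁻¹ * x * P.g * (P.w ^ 2)⁻¹ :=
      C.J_comm _ (inv_mem (pow_mem P.w_J _)) _ hgx
    rw [hc]
    exact hk

/-- A point whose hyperplane contains `y`, and an element of its subgroup `Q` centralising `y`. -/
structure Point where
  /-- the element moving `Z` to the point -/
  m : G
  /-- the element of `Q` -/
  q1 : G
  m_mem : m ∈ C.M
  y_A : m⁻¹ * P.y * m ∈ C.A
  q1_Q : q1 ∈ C.Q
  q1_notJ : q1 ∉ C.J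
  q1_comm : q1 * (m⁻¹ * P.y * m) = (m⁻¹ * P.y * m) * q1

theorem exists_point : Nonempty P.Point := by
  haveI : Fact (Nat.Prime 3) := ⟨Nat.prime_three⟩
  obtain ⟨m, hm, hA⟩ := P.exists_m
  set a1 := m⁻¹ * P.y * m
  set K := centralizer ({⟨a1, hA.2⟩} : Set C.Q) with hK
  have h81 : 81 ≤ Nat.card K := by
    have h := K.card_mul_index
    rw [C.card_Q] at h
    have h3 : K.index ≤ 3 := FGBasics.XS.centralizer_index_le C.extra ⟨a1, hA.2⟩
    nlinarith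
  obtain ⟨k, hk, hkJ⟩ : ∃ k ∈ K, (k : G) ∉ C.J := by
    by_contra h
    push Not at h
    have hle : K.map C.Q.subtype ≤ C.A := by
      rintro _ ⟨k, hk, rfl⟩
      exact mem_inf.2 ⟨h k hk, k.2⟩
    have := card_le_of_le hle
    rw [card_map_of_injective C.Q.subtype_injective, C.card_A] at this
    omega
  exact ⟨⟨m, k, hm, hA, k.2, hkJ, congrArg Subtype.val (mem_centralizer_singleton_iff.1 hk)⟩⟩

end Conf.Pair

namespace Conf.Pair.Point

variable {G : Type*} [Group G] [Finite G] {C : Conf G} {P : C.Pair} (O : P.Point)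
include O

/-- The element permuting the three lines. -/
def s : G := O.m * O.q1 * O.m⁻¹

theorem q1_M : O.q1 ∈ C.M := C.S_le_M (C.Q_le_S O.q1_Q)

theorem s_M : O.s ∈ C.M := mul_mem (mul_mem O.m_mem O.q1_M) (inv_mem O.m_mem)

theorem s3 : O.s ^ 3 = 1 := by
  rw [s, conj_pow, C.exp_Q _ O.q1_Q, mul_one, mul_inv_cancel]

theorem s_y : O.s * P.y = P.y * O.s := by
  calc O.m * O.q1 * O.m⁻¹ * P.y = O.m * (O.q1 * (O.m⁻¹ * P.y * O.m)) * O.m⁻¹ := by group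
    _ = O.m * ((O.m⁻¹ * P.y * O.m) * O.q1) * O.m⁻¹ := by rw [O.q1_comm]
    _ = _ := by rw [s]; group

theorem a1_notZ : O.m⁻¹ * P.y * O.m ∉ C.Z := by
  intro h
  obtain ⟨i, hi⟩ := P.Z_pow h
  have e : P.y = O.m * P.z ^ (i : ℕ) * O.m⁻¹ := by rw [← hi]; group
  fin_cases i
  · exact P.y_ne (by simpa using e)
  · exact (P.y_not_type O.m_mem).1 (by simpa using e.symm)
  · refine (P.y_not_type O.m_mem).2 ?_
    rw [e]
    congr 2
    exact inv_eq_of_mul_eq_one_right ((pow_succ' _ _).symm.trans P.z3)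

/-- The images in `A₆`. -/
def μ : A6 := P.psi ⟨O.m, O.m_mem⟩

/-- The image of `s`. -/
def σ : A6 := P.psi ⟨O.s, O.s_M⟩

theorem σ_point : InP6 (O.μ⁻¹ * O.σ * O.μ) ∧ O.μ⁻¹ * O.σ * O.μ ≠ 1 := by
  have e : O.μ⁻¹ * O.σ * O.μ = P.psi ⟨O.q1, O.q1_M⟩ := by
    rw [μ, σ, ← map_inv, ← map_mul, ← map_mul]
    refine congrArg P.psi (Subtype.ext ?_)
    show O.m⁻¹ * (O.m * O.q1 * O.m⁻¹) * O.m = O.q1
    group
  rw [e]
  exact ⟨(P.psi_S _).2 (C.Q_le_S O.q1_Q), fun h => O.q1_notJ ((P.psi_ker _).1 h)⟩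

theorem σ_three : O.σ ^ 3 = 1 ∧ O.σ ≠ 1 := by
  refine ⟨?_, fun h => O.σ_point.2 (by rw [h]; group)⟩
  rw [σ, ← map_pow, show (⟨O.s, O.s_M⟩ : C.M) ^ 3 = 1 from Subtype.ext O.s3, map_one]

/-- The image of the centraliser of `y`. -/
def U (_ : P.Point) : Subgroup A6 := ((centralizer ({P.y} : Set G)).subgroupOf C.M).map P.psi

theorem mem_U {p : A6} : p ∈ O.U ↔ ∃ x : C.M, (x : G) * P.y = P.y * x ∧ P.psi x = p :=
  ⟨fun ⟨x, hx, h⟩ => ⟨x, mem_centralizer_singleton_iff.1 (mem_subgroupOf.1 hx), h⟩,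
    fun ⟨x, hx, h⟩ => ⟨x, mem_subgroupOf.2 (mem_centralizer_singleton_iff.2 hx), h⟩⟩

theorem t_U : t6 ∈ O.U := O.mem_U.2 ⟨⟨C.t, P.t_M⟩, P.y_t.symm, P.psi_t⟩

theorem g_U : g6 ∈ O.U := O.mem_U.2 ⟨⟨P.g, P.g_mem⟩, mul_inv_eq_iff_eq_mul.1 P.g_y, P.psi_g⟩

theorem σ_U : O.σ ∈ O.U := O.mem_U.2 ⟨⟨O.s, O.s_M⟩, O.s_y, rfl⟩

/-- No involution of the image fixes the point. -/
theorem U_invol {p : A6} (hp : p ∈ O.U) (h2 : p * p = 1) (h1 : p ≠ 1) : ¬ InN6 (O.μ⁻¹ * p * O.μ) := by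
  intro hN
  obtain ⟨x, hxy, rfl⟩ := O.mem_U.1 hp
  set M' : C.M := ⟨O.m, O.m_mem⟩ with hM'
  set x1 : C.M := M'⁻¹ * x * M' with hx1
  have hψ : P.psi x1 = O.μ⁻¹ * P.psi x * O.μ := by rw [hx1, map_mul, map_mul, map_inv]; rfl
  obtain ⟨q, hq, e⟩ := six_inv_elts _ (hψ ▸ hN)
    (by rw [hψ, show O.μ⁻¹ * P.psi x * O.μ * (O.μ⁻¹ * P.psi x * O.μ) = O.μ⁻¹ * (P.psi x * P.psi x) * O.μ by
      group, h2]; group)
    (by rw [hψ]; intro h; exact h1 (by
      calc P.psi x = O.μ * (O.μ⁻¹ * P.psi x * O.μ) * O.μ⁻¹ := by group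
        _ = 1 := by rw [h]; group))
  obtain ⟨r, rfl⟩ := P.psi_surj q
  set a1 := O.m⁻¹ * P.y * O.m with ha1
  set j : C.M := (r * ⟨C.t, P.t_M⟩ * r⁻¹)⁻¹ * x1 with hj
  have hjJ : (j : G) ∈ C.J := (P.psi_ker j).1 (by
    rw [hj, map_mul, map_inv, P.toFrame.psi_conj, P.psi_t, e, inv_mul_cancel])
  have hxa : Commute (x1 : G) a1 := by
    show O.m⁻¹ * (x : G) * O.m * (O.m⁻¹ * P.y * O.m) = O.m⁻¹ * P.y * O.m * (O.m⁻¹ * (x : G) * O.m)
    calc O.m⁻¹ * (x : G) * O.m * (O.m⁻¹ * P.y * O.m) = O.m⁻¹ * ((x : G) * P.y) * O.m := by group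
      _ = O.m⁻¹ * (P.y * (x : G)) * O.m := by rw [hxy]
      _ = _ := by group
  have hrt : Commute ((r : G) * C.t * (r : G)⁻¹) a1 := by
    have h : (r : G) * C.t * (r : G)⁻¹ = (x1 : G) * (j : G)⁻¹ := by
      rw [hj]; simp only [Subgroup.coe_mul, Subgroup.coe_inv]; group
    rw [h]
    exact hxa.mul_left (show Commute (j : G) a1 from C.J_comm _ hjJ _ O.y_A.1).inv_left
  have hrS : (r : G) ∈ C.S := (P.psi_S r).1 hq
  set a2 := (r : G)⁻¹ * a1 * r with ha2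
  have ha2Q : a2 ∈ C.Q := by
    have := C.normQ _ (C.L_norm (C.SL (inv_mem hrS))) _ O.y_A.2
    rwa [inv_inv] at this
  have hc : a2 * C.t = C.t * a2 := by
    calc a2 * C.t = (r : G)⁻¹ * (a1 * ((r : G) * C.t * (r : G)⁻¹)) * r := by rw [ha2]; group
      _ = (r : G)⁻¹ * (((r : G) * C.t * (r : G)⁻¹) * a1) * r := by rw [hrt.eq]
      _ = _ := by rw [ha2]; group
  have h3 := C.conj_Z (C.L_norm (C.SL hrS)) (C.cent_t_Q ha2Q hc)
  rw [ha2, show (r : G) * ((r : G)⁻¹ * a1 * r) * (r : G)⁻¹ = a1 by group] at h3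
  exact O.a1_notZ h3

theorem norm_point {k : A6} (h : (k * O.σ * k⁻¹) * O.σ = O.σ * (k * O.σ * k⁻¹)) : InN6 (O.μ⁻¹ * k * O.μ) := by
  refine six_point _ O.σ_point.1 O.σ_point.2 _ ?_
  calc (O.μ⁻¹ * k * O.μ) * (O.μ⁻¹ * O.σ * O.μ) * (O.μ⁻¹ * k * O.μ)⁻¹ * (O.μ⁻¹ * O.σ * O.μ)
      = O.μ⁻¹ * ((k * O.σ * k⁻¹) * O.σ) * O.μ := by group
    _ = O.μ⁻¹ * (O.σ * (k * O.σ * k⁻¹)) * O.μ := by rw [h]
    _ = _ := by group

theorem f_notU : f6 ∉ O.U := by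
  intro hf
  obtain ⟨k, hk, hks⟩ := six_norm_cent O.σ O.σ_three.1 O.σ_three.2
  have hkU : k ∈ O.U := by
    simp only [invol8, List.mem_cons, List.not_mem_nil, or_false] at hk
    rcases hk with rfl | rfl | rfl | rfl | rfl
    · exact O.t_U
    · exact O.g_U
    · exact mul_mem O.g_U O.t_U
    · exact mul_mem O.g_U hf
    · exact mul_mem O.g_U (inv_mem hf)
  exact O.U_invol hkU (six_invol8 k hk).1 (six_invol8 k hk).2 (O.norm_point hks)

/-- The part of the centraliser of `y` fixing `Z` centralises `z` and `w`. -/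
theorem U_fix {x : C.M} (hy : (x : G) * P.y = P.y * x) (hN : InN6 (P.psi x)) :
    (x : G) * P.z = P.z * x ∧ (x : G) * P.w = P.w * x := by
  obtain ⟨i, hi⟩ := P.Z_pow (C.conj_Z ((P.toFrame.norm_Z_iff x).2 hN) P.z_mem)
  have hz : Commute P.z P.w := P.zw
  have hw : (x : G) * P.w * (x : G)⁻¹ = (P.z ^ (i : ℕ))⁻¹ * P.y := by
    rw [← hi]
    calc (x : G) * P.w * (x : G)⁻¹ = ((x : G) * P.z * (x : G)⁻¹)⁻¹ * ((x : G) * P.y * (x : G)⁻¹) := by
          rw [y]; group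
      _ = _ := by rw [hy, mul_inv_cancel_right]
  have hm : ((x : G) * P.g) * P.z * ((x : G) * P.g)⁻¹ =
      P.z ^ ((1 - i : Fin 3) : ℕ) * P.w ^ ((1 : Fin 3) : ℕ) := by
    rw [show (x : G) * P.g * P.z * ((x : G) * P.g)⁻¹ = (x : G) * (P.g * P.z * P.g⁻¹) * (x : G)⁻¹ by group,
      P.gzg, hw, y, ← mul_assoc]
    congr 1
    · rw [inv_mul_eq_iff_eq_mul, ← pow_add, pow_eq_pow_mod _ P.z3]
      rw [(by decide : ∀ i : Fin 3, ((i : ℕ) + ((1 - i : Fin 3) : ℕ)) % 3 = 1) i, pow_one]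
    · exact (pow_one _).symm
  have h1 : i = 1 := by
    rcases P.type_D (mul_mem x.2 P.g_mem) hm with h | h
    · exact (sub_eq_zero.1 h).symm
    · exact absurd h (by decide)
  subst h1
  have hi' : (x : G) * P.z * (x : G)⁻¹ = P.z := hi.trans (pow_one _)
  refine ⟨mul_inv_eq_iff_eq_mul.1 hi', mul_inv_eq_iff_eq_mul.1 ?_⟩
  rw [hw, show P.z ^ ((1 : Fin 3) : ℕ) = P.z from pow_one _, y, inv_mul_cancel_left]

theorem U_N {p : A6} (hp : p ∈ O.U) (hN : InN6 p) : p = 1 ∨ p = t6 := by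
  obtain ⟨x, hy, rfl⟩ := O.mem_U.1 hp
  obtain ⟨hz, hw⟩ := U_fix O hy hN
  have hN2 := (P.toFrame.norm_Z_iff (⟨P.g, P.g_mem⟩⁻¹ * x * ⟨P.g, P.g_mem⟩)).1 (by
    refine C.norm_Z_of P.z_mem P.z_ne ?_
    show P.g⁻¹ * (x : G) * P.g * P.z * (P.g⁻¹ * (x : G) * P.g)⁻¹ ∈ C.Z
    rw [show P.g⁻¹ * (x : G) * P.g * P.z * (P.g⁻¹ * (x : G) * P.g)⁻¹ =
      P.g⁻¹ * ((x : G) * (P.g * P.z * P.g⁻¹) * (x : G)⁻¹) * P.g by group, P.gzg, hw, mul_inv_cancel_right,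
      P.ginv_w]
    exact P.z_mem)
  rw [map_mul, map_mul, map_inv, P.psi_g] at hN2
  rcases six_both _ hN hN2 with h | h | h | h
  · exact Or.inl h
  · exact Or.inr h
  · exact absurd (h ▸ hp) O.f_notU
  · exact absurd (by have := inv_mem (h ▸ hp : f6⁻¹ ∈ O.U); rwa [inv_inv] at this) O.f_notU

theorem U_card : Nat.card O.U = 12 := by
  classical
  haveI : Fact (Nat.Prime 3) := ⟨Nat.prime_three⟩
  have hb : Nat.card O.U ≤ 20 := by
    have h := (N6.subgroupOf O.U).card_mul_index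
    have h1 : (N6.subgroupOf O.U).index ≤ 10 := by
      have := relIndex_le_of_le_right (le_top : O.U ≤ ⊤)
        (by rw [relIndex_top_right, N6_index]; norm_num : N6.relIndex ⊤ ≠ 0)
      rwa [relIndex_top_right, N6_index] at this
    have h2 : Nat.card (N6.subgroupOf O.U) ≤ 2 := by
      rw [← inf_subgroupOf_right, Nat.card_congr (subgroupOfEquivOfLe inf_le_right).toEquiv]
      have hle : ((N6 ⊓ O.U : Subgroup A6) : Set A6) ⊆ ({1, t6} : Set A6) := fun p hp => by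
        simpa using O.U_N (mem_inf.1 hp).2 (mem_N6.1 (mem_inf.1 hp).1)
      refine (Nat.card_mono (Set.toFinite _) hle).trans ?_
      rw [Nat.card_coe_set_eq]
      exact (Set.ncard_insert_le _ _).trans (by simp)
    rw [← h]
    calc _ ≤ 2 * 10 := Nat.mul_le_mul h2 h1
      _ = 20 := rfl
  have h3 : 3 ∣ Nat.card O.U := by
    rw [← orderOf_eq_prime O.σ_three.1 O.σ_three.2]
    exact Subgroup.orderOf_dvd_natCard _ O.σ_U
  have h4 : 4 ∣ Nat.card O.U := by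
    set V := centralizer ({t6, g6} : Set A6)
    have hmem : ∀ p, p ∈ V ↔ p * t6 = t6 * p ∧ p * g6 = g6 * p := by
      intro p
      rw [mem_centralizer_iff]
      exact ⟨fun h => ⟨(h t6 (by simp)).symm, (h g6 (by simp)).symm⟩, fun h x hx => by
        rcases hx with rfl | rfl
        · exact h.1.symm
        · exact h.2.symm⟩
    have hV : Nat.card V = 4 := by
      rw [← six_four, Nat.card_eq_fintype_card, Fintype.card_subtype]
      exact congrArg Finset.card (Finset.filter_congr fun p _ => hmem p)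
    rw [← hV]
    refine card_dvd_of_le fun p hp => ?_
    have h := six_four_list p ((hmem p).1 hp).1 ((hmem p).1 hp).2
    simp only [List.mem_cons, List.not_mem_nil, or_false] at h
    rcases h with rfl | rfl | rfl | rfl
    · exact one_mem _
    · exact O.t_U
    · exact O.g_U
    · exact mul_mem O.t_U O.g_U
  have hpos : 0 < Nat.card O.U := Nat.card_pos
  omega

theorem σ_cyclic : (O.σ * t6 * O.σ⁻¹ = g6 ∧ O.σ * g6 * O.σ⁻¹ = t6 * g6) ∨
    (O.σ * t6 * O.σ⁻¹ = t6 * g6 ∧ O.σ * g6 * O.σ⁻¹ = t6) := by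
  have h12 : ∀ p ∈ O.U, p ^ 12 = 1 := fun p hp => by
    rw [← orderOf_dvd_iff_pow_eq_one, ← O.U_card]; exact Subgroup.orderOf_dvd_natCard _ hp
  have hσ := O.σ_U
  have hσ' := inv_mem hσ
  obtain ⟨-, -, -, -, -, -, htt, ht1, hgg, -, -⟩ := six_basic
  refine six_cyclic _ O.σ_three.1 O.σ_three.2 (fun h => O.U_invol O.t_U htt ht1 (O.norm_point h))
    (h12 _ (mul_mem O.t_U hσ)) (h12 _ (mul_mem O.g_U hσ))
    (h12 _ (mul_mem (mul_mem O.t_U O.g_U) hσ)) (h12 _ (mul_mem (mul_mem hσ O.t_U) (mul_mem hσ' O.t_U)))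
    (h12 _ (mul_mem (mul_mem hσ O.g_U) (mul_mem hσ' O.g_U)))
    (h12 _ (mul_mem (mul_mem hσ O.g_U) (mul_mem hσ' O.t_U)))
    (h12 _ (mul_mem (mul_mem hσ O.t_U) (mul_mem hσ' O.g_U))) (fun h => ?_)
    (fun h => O.U_N (mul_mem (mul_mem (mul_mem hσ O.t_U) hσ') O.g_U) h) (fun h => ?_)
  · refine (O.U_N (mul_mem (mul_mem hσ O.t_U) hσ') h).resolve_left fun h1 => ht1 ?_
    exact conj_eq_one_iff.1 h1
  · refine (O.U_N (mul_mem hσ' O.g_U) h).resolve_left fun h1 => ?_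
    have h2 : O.σ = g6 := by rw [← mul_one O.σ, ← h1, mul_inv_cancel_left]
    have h3 := O.σ_three.1
    rw [h2, pow_succ, pow_two, hgg, one_mul] at h3
    exact O.σ_three.2 (h2.trans h3)

/-- The elements of the image fixing the point are powers of `σ`. -/
theorem U_point {p : A6} (hp : p ∈ O.U) (hP : InP6 (O.μ⁻¹ * p * O.μ)) : ∃ i : ℤ, O.σ ^ i = p := by
  haveI : Fact (Nat.Prime 3) := ⟨Nat.prime_three⟩
  set R := P6.map (MulAut.conj O.μ).toMonoidHom with hR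
  have hmem : ∀ q : A6, InP6 (O.μ⁻¹ * q * O.μ) → q ∈ R := fun q hq =>
    ⟨_, mem_P6.2 hq, by show O.μ * (O.μ⁻¹ * q * O.μ) * O.μ⁻¹ = q; group⟩
  have hle : zpowers O.σ ≤ R ⊓ O.U := zpowers_le.2 (mem_inf.2 ⟨hmem _ O.σ_point.1, O.σ_U⟩)
  have hcard : Nat.card (zpowers O.σ) = 3 := by
    rw [Nat.card_zpowers]; exact orderOf_eq_prime O.σ_three.1 O.σ_three.2
  have h9 : Nat.card (R ⊓ O.U : Subgroup A6) ∣ 9 := by
    have hR9 : Nat.card R = 9 := by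
      rw [hR, card_map_of_injective (MulAut.conj O.μ).injective, card_P6]
    exact hR9 ▸ card_dvd_of_le inf_le_left
  have h12 : Nat.card (R ⊓ O.U : Subgroup A6) ∣ 12 := O.U_card ▸ card_dvd_of_le inf_le_right
  have := Nat.le_of_dvd (by norm_num) (Nat.dvd_gcd h9 h12)
  have heq := eq_of_le_of_card_ge hle (by rw [hcard]; exact this)
  exact mem_zpowers_iff.1 (heq.ge (mem_inf.2 ⟨hmem _ hP, hp⟩))

end Conf.Pair.Point

end Cfsg.Agent.McLThree
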