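import Cfsg.Agent.Lib.McLThree.Frame

/-!
The two conjugates of `Z` fixed by the involution, the element exchanging them and the element of
order four of the centraliser of the involution in `L`.
-/

set_option autoImplicit false
set_option maxRecDepth 20000
set_option maxHeartbeats 1000000
set_option synthInstance.maxSize 2000
set_option linter.style.haveILetI false
set_option linter.unusedSectionVars false

namespace Cfsg.Agent.McLThree

open Subgroup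

namespace Conf

variable {G : Type*} [Group G] [Finite G] (C : Conf G)
include C

/-- Elements of `L` can be corrected by an element of `Q` to centralise `t`. -/
theorem lift_t {x : G} (hx : x ∈ C.L) :
    ∃ y ∈ C.L, y * C.t = C.t * y ∧ ∀ (hy : y ∈ C.L), C.pi ⟨y, hy⟩ = C.pi ⟨x, hx⟩ := by
  set q := C.t⁻¹ * (x * C.t * x⁻¹) with hq
  have hqQ : q ∈ C.Q := by
    have h := C.normQ _ (C.L_norm (inv_mem C.t_mem)) _ (C.comm_t hx)
    rw [show C.t⁻¹ * (x * C.t * x⁻¹ * C.t⁻¹) * C.t⁻¹⁻¹ = q by rw [hq]; group] at h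
    exact h
  have h2 : (C.t * q) * (C.t * q) = 1 := by
    rw [hq, mul_inv_cancel_left]
    calc x * C.t * x⁻¹ * (x * C.t * x⁻¹) = x * (C.t * C.t) * x⁻¹ := by group
      _ = 1 := by rw [C.tt]; group
  have h3 : C.t * q⁻¹ = q * C.t := by
    have h4 : C.t * q * C.t = q⁻¹ := eq_inv_of_mul_eq_one_left (by rw [← h2]; group)
    rw [← h4]
    calc C.t * (C.t * q * C.t) = (C.t * C.t) * (q * C.t) := by group
      _ = _ := by rw [C.tt, one_mul]
  refine ⟨q⁻¹ * x, mul_mem (C.QL (inv_mem hqQ)) hx, ?_, fun hy => ?_⟩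
  · calc q⁻¹ * x * C.t = q⁻¹ * (x * C.t * x⁻¹) * x := by group
      _ = q⁻¹ * (C.t * q) * x := by rw [hq, mul_inv_cancel_left]
      _ = q⁻¹ * (C.t * q⁻¹) * (q * q * x) := by group
      _ = C.t * (q * q * x) := by rw [h3]; group
      _ = C.t * (q⁻¹ * x) := by
          rw [show q * q = q⁻¹ from eq_inv_of_mul_eq_one_left (by
            rw [← C.exp_Q q hqQ, pow_succ, pow_two])]
  · rw [show (⟨q⁻¹ * x, hy⟩ : C.L) = ⟨q⁻¹, C.QL (inv_mem hqQ)⟩ * ⟨x, hx⟩ from rfl, map_mul,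
      (C.pi_ker _).2 (inv_mem hqQ : ((⟨q⁻¹, C.QL (inv_mem hqQ)⟩ : C.L) : G) ∈ C.Q), one_mul]

theorem t_comm_Z {z : G} (hz : z ∈ C.Z) : C.t * z = z * C.t := C.L_cent C.t_mem hz

/-- The chosen elements. -/
structure Pair extends C.Frame where
  /-- a generator of `Z` -/
  z : G
  /-- a generator of the other fixed conjugate -/
  w : G
  /-- the exchanging element -/
  g : G
  /-- an element of order four of `L` -/
  e : G
  z_mem : z ∈ C.Z
  z_ne : z ≠ 1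
  g_mem : g ∈ C.M
  psi_g : psi ⟨g, g_mem⟩ = g6
  g_t : g * C.t = C.t * g
  w_eq : w = g * z * g⁻¹
  e_mem : e ∈ C.L
  e_sq : e * e = C.t
  e_w : e * w * e⁻¹ = w⁻¹
  e_J : e ∈ normalizer (C.J : Set G)

end Conf

namespace Conf.Frame

variable {G : Type*} [Group G] [Finite G] {C : Conf G} (F : C.Frame)
include F

theorem psi_t_comm (m : C.M) (h : (m : G) * C.t = C.t * m) : F.psi m * t6 = t6 * F.psi m := by
  rw [← F.psi_t, ← map_mul, ← map_mul]; exact congrArg F.psi (Subtype.ext h)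

theorem cent_t_S {x : G} (hx : x ∈ C.S) (h : x * C.t = C.t * x) : x ∈ C.J :=
  (F.psi_ker ⟨x, C.S_le_M hx⟩).1
    (six_fix_t _ ((F.psi_S _).2 hx) (F.psi_t_comm ⟨x, C.S_le_M hx⟩ h))

theorem exists_g : ∃ (g : G) (hg : g ∈ C.M), F.psi ⟨g, hg⟩ = g6 ∧ g * C.t = C.t * g := by
  obtain ⟨-, -, -, -, -, -, htt, -, hgg, hgt, -⟩ := six_basic
  obtain ⟨g1, hg1⟩ := F.psi_surj g6
  set j : G := C.t⁻¹ * ((g1 : G) * C.t * (g1 : G)⁻¹) with hj
  have hjJ : j ∈ C.J := (F.psi_ker (⟨C.t, F.t_M⟩⁻¹ * (g1 * ⟨C.t, F.t_M⟩ * g1⁻¹))).1 (by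
    rw [map_mul, map_inv, F.psi_conj, F.psi_t, hg1, hgt, mul_inv_cancel_right, inv_mul_cancel])
  have h4 : C.t * j⁻¹ * C.t = j := by
    rw [hj, mul_inv_rev, inv_inv, C.t_inv]
    calc C.t * (((g1 : G) * C.t * (g1 : G)⁻¹)⁻¹ * C.t) * C.t
        = C.t * ((g1 : G) * C.t⁻¹ * (g1 : G)⁻¹) * (C.t * C.t) := by group
      _ = _ := by rw [C.tt, mul_one, C.t_inv]
  have hgψ : F.psi ⟨j⁻¹ * g1, mul_mem (C.JM (inv_mem hjJ)) g1.2⟩ = g6 := by
    rw [show (⟨j⁻¹ * g1, mul_mem (C.JM (inv_mem hjJ)) g1.2⟩ : C.M) = ⟨j, C.JM hjJ⟩⁻¹ * g1 from rfl, map_mul,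
      map_inv, (F.psi_ker ⟨j, C.JM hjJ⟩).2 hjJ, inv_one, one_mul, hg1]
  refine ⟨j⁻¹ * g1, _, hgψ, ?_⟩
  calc j⁻¹ * g1 * C.t = j⁻¹ * ((g1 : G) * C.t * (g1 : G)⁻¹) * g1 := by group
    _ = j⁻¹ * (C.t * j) * g1 := by rw [hj, mul_inv_cancel_left]
    _ = (C.t * C.t) * (j⁻¹ * C.t * j) * g1 := by rw [C.tt, one_mul]; group
    _ = C.t * (C.t * j⁻¹ * C.t) * j * g1 := by group
    _ = C.t * (j * j * j) * (j⁻¹ * g1) := by rw [h4]; group
    _ = _ := by rw [← pow_two, ← pow_succ, C.J_exp j hjJ, mul_one]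

/-- The conjugates of `Z` inside `J` centralised by `t`. -/
theorem pts_t {g z : G} (hg : g ∈ C.M) (hψ : F.psi ⟨g, hg⟩ = g6) (hz : z ∈ C.Z) (hz1 : z ≠ 1)
    {m : G} (hm : m ∈ C.M) (h : m * z * m⁻¹ * C.t = C.t * (m * z * m⁻¹)) :
    m * z * m⁻¹ ∈ C.Z ∨ g⁻¹ * (m * z * m⁻¹) * g ∈ C.Z := by
  have hN : m⁻¹ * C.t * m ∈ normalizer (C.Z : Set G) := by
    refine C.norm_Z_of hz hz1 ?_
    rw [show m⁻¹ * C.t * m * z * (m⁻¹ * C.t * m)⁻¹ = m⁻¹ * (C.t * (m * z * m⁻¹) * C.t⁻¹) * m by group,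
      ← h, mul_inv_cancel_right]
    group
    exact hz
  have hN' := (F.norm_Z_iff (⟨m, hm⟩⁻¹ * ⟨C.t, F.t_M⟩ * ⟨m, hm⟩)).1 hN
  rw [map_mul, map_mul, map_inv, F.psi_t] at hN'
  rcases six_points _ hN' with h1 | h1
  · left
    exact C.conj_Z ((F.norm_Z_iff ⟨m, hm⟩).2 h1) hz
  · right
    have h2 : InN6 (F.psi (⟨g, hg⟩⁻¹ * ⟨m, hm⟩)) := by rw [map_mul, map_inv, hψ]; exact h1
    have := C.conj_Z ((F.norm_Z_iff _).2 h2) hz
    simpa [mul_assoc] using this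

theorem exists_pair : Nonempty C.Pair := by
  obtain ⟨g, hg, hψ, hgt⟩ := F.exists_g
  obtain ⟨-, -, -, -, -, -, htt, -, hgg, -, hgN, -⟩ := six_basic
  obtain ⟨z, hz, hz1⟩ := C.exists_z
  set w := g * z * g⁻¹ with hw
  have hwJ : w ∈ C.J := (mem_normalizer_iff.1 (C.M_norm hg) z).1 (C.Z_le_J hz)
  have hwt : w * C.t = C.t * w := by
    calc g * z * g⁻¹ * C.t = g * z * (g⁻¹ * (C.t * g)) * g⁻¹ := by group
      _ = g * (z * C.t) * g⁻¹ := by rw [← hgt]; group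
      _ = g * (C.t * z) * g⁻¹ := by rw [C.t_comm_Z hz]
      _ = (g * C.t) * z * g⁻¹ := by group
      _ = _ := by rw [hgt, hw]; group
  have hwZ : w ∉ C.Z := fun h => hgN (by
    rw [← hψ]; exact (F.norm_Z_iff ⟨g, hg⟩).1 (C.norm_Z_of hz hz1 h))
  have hwQ : w ∉ C.Q := fun h => hwZ (C.cent_t_Q h hwt)
  obtain ⟨hw3, hw1⟩ := C.pi_three hwJ hwQ
  set W : C.L := ⟨w, C.SL (C.JS hwJ)⟩
  obtain ⟨ε, hε, hεi⟩ := three25_inv _ hw3 hw1
  obtain ⟨e1, rfl⟩ := C.pi_surj ε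
  obtain ⟨e0, he0, he0t, he0π⟩ := C.lift_t e1.2
  set E0 : C.L := ⟨e0, he0⟩
  have hπ0 : C.pi E0 = C.pi e1 := he0π he0
  set e := e0 ^ 3 with he
  have hemem : e ∈ C.L := pow_mem he0 3
  have hπe : C.pi ⟨e, hemem⟩ = -1 * C.pi e1 := by
    rw [show (⟨e, hemem⟩ : C.L) = E0 ^ 3 from rfl, map_pow, hπ0, pow_succ, pow_two, hε]
  have het : e * C.t = C.t * e := ((show Commute e0 C.t from he0t).pow_left 3).eq
  have he2 : e * e = C.t := by
    have hπ2 : C.pi (⟨e, hemem⟩ * ⟨e, hemem⟩) = -1 := by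
      rw [map_mul, hπe, mul_assoc, ← mul_assoc (C.pi e1), neg25.2.2, mul_assoc, hε, ← mul_assoc, neg25.1,
        one_mul]
    have hq : e * e * C.t ∈ C.Q := (C.pi_ker (⟨e, hemem⟩ * ⟨e, hemem⟩ * ⟨C.t, C.t_mem⟩)).1 (by
      rw [map_mul, hπ2, C.pi_t, neg25.1])
    have hcomm : e * e * C.t * C.t = C.t * (e * e * C.t) := by
      have h : Commute (e * e * C.t) C.t :=
        ((show Commute e C.t from het).mul_left (show Commute e C.t from het)).mul_left (Commute.refl _)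
      exact h.eq
    have hζ := C.cent_t_Q hq hcomm
    have h4 : (e * e * C.t) ^ 2 = 1 := by
      have hq4 : e0 ^ 4 ∈ C.Q := (C.pi_ker (E0 ^ 4)).1 (by
        rw [map_pow, hπ0, show (4 : ℕ) = 2 * 2 from rfl, pow_mul, pow_two (C.pi e1), hε, pow_two, neg25.1])
      have h12 : e * e * (e * e) = 1 := by
        rw [he, ← pow_add, ← pow_add, show 3 + 3 + (3 + 3) = 4 * 3 from rfl, pow_mul, C.exp_Q _ hq4]
      rw [pow_two]
      calc e * e * C.t * (e * e * C.t) = e * e * (C.t * (e * e)) * C.t := by group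
        _ = e * e * ((e * e) * C.t) * C.t := by
            rw [((show Commute e C.t from het).mul_left (show Commute e C.t from het)).eq]
        _ = (e * e * (e * e)) * (C.t * C.t) := by group
        _ = 1 := by rw [h12, C.tt, one_mul]
    have h5 := pow_gcd_eq_one.2 ⟨h4, C.exp_Q _ (C.Z_le_Q hζ)⟩
    rw [show Nat.gcd 2 3 = 1 from rfl, pow_one] at h5
    rw [← C.t_inv]
    exact eq_inv_of_mul_eq_one_left h5
  have hinv : C.pi ⟨e, hemem⟩ * C.pi W * (C.pi ⟨e, hemem⟩)⁻¹ = (C.pi W)⁻¹ := by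
    rw [hπe, mul_inv_rev, show (-1 * C.pi e1) * C.pi W * ((C.pi e1)⁻¹ * (-1 : S25)⁻¹) =
      -1 * (C.pi e1 * C.pi W * (C.pi e1)⁻¹) * (-1 : S25)⁻¹ by group, hεi, ← neg25.2.2, mul_inv_cancel_right]
  have hk : e * w * e⁻¹ * w ∈ C.Q := (C.pi_ker (⟨e, hemem⟩ * W * ⟨e, hemem⟩⁻¹ * W)).1 (by
    rw [map_mul, map_mul, map_mul, map_inv, hinv, inv_mul_cancel])
  have hew : e * w * e⁻¹ * C.t = C.t * (e * w * e⁻¹) :=
    ((((show Commute e C.t from het).mul_left (show Commute w C.t from hwt))).mul_left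
      (show Commute e C.t from het).inv_left).eq
  have heJ : e ∈ normalizer (C.J : Set G) := by
    refine C.norm_of_le fun j hj => ?_
    have hS : ∀ x ∈ C.J, e * x * e⁻¹ ∈ C.S := by
      intro x hx
      have hxw : x * w = w * x := C.J_comm x hx w hwJ
      obtain ⟨i, h⟩ := three25_cent _ hw3 hw1 (C.pi ⟨x, C.SL (C.JS hx)⟩) (by
        rw [← map_mul, ← map_mul]; exact congrArg C.pi (Subtype.ext hxw))
      have hpow : C.pi ⟨x, C.SL (C.JS hx)⟩ = C.pi W ^ (i : ℕ) := by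
        rcases h with h | h
        · exact h
        exfalso
        have h3 : C.pi ⟨x, C.SL (C.JS hx)⟩ ^ 3 = 1 := by
          rw [← map_pow, show (⟨x, C.SL (C.JS hx)⟩ : C.L) ^ 3 = 1 from Subtype.ext (C.J_exp x hx), map_one]
        rw [h, Commute.mul_pow (neg25.2.2 _).symm, ← pow_mul, mul_comm (i : ℕ), pow_mul, hw3, one_pow, mul_one,
          pow_succ, pow_two, neg25.1, one_mul] at h3
        exact neg25.2.1 h3
      have hq : x * (w ^ (i : ℕ))⁻¹ ∈ C.Q := (C.pi_ker (⟨x, C.SL (C.JS hx)⟩ * (W ^ (i : ℕ))⁻¹)).1 (by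
        rw [map_mul, map_inv, map_pow, hpow, mul_inv_cancel])
      have hw' : e * w * e⁻¹ ∈ C.S := by
        have := mul_mem (C.Q_le_S hk) (inv_mem (C.JS hwJ))
        rwa [mul_inv_cancel_right] at this
      have key : ∀ a v : G, e * a * e⁻¹ = (e * (a * v⁻¹) * e⁻¹) * (e * v * e⁻¹) := fun a v => by group
      rw [key x (w ^ (i : ℕ)), ← conj_pow]
      exact mul_mem (C.Q_le_S (C.normQ e (C.L_norm hemem) _ hq)) (pow_mem hw' _)
    have := C.J_unique_S (B := C.J.map (MulAut.conj e).toMonoidHom)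
      (by rintro _ ⟨x, hx, rfl⟩; exact hS x hx)
      (by rintro _ ⟨x, hx, rfl⟩ _ ⟨y, hy, rfl⟩; rw [← map_mul, ← map_mul, C.J_comm x hx y hy])
      (by rw [card_map_of_injective (MulAut.conj e).injective, C.card_J])
    exact this.le ⟨j, hj, rfl⟩
  have hecomm : e * z = z * e := C.L_cent hemem hz
  have hm : e * g * e⁻¹ ∈ C.M := C.M_normal heJ hg
  have hew' : e * g * e⁻¹ * z * (e * g * e⁻¹)⁻¹ = e * w * e⁻¹ := by
    calc e * g * e⁻¹ * z * (e * g * e⁻¹)⁻¹ = e * g * (e⁻¹ * (z * e)) * g⁻¹ * e⁻¹ := by group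
      _ = _ := by rw [← hecomm, hw]; group
  have hfin : e * w * e⁻¹ = w⁻¹ := by
    rcases F.pts_t hg hψ hz hz1 hm (by rw [hew']; exact hew) with h | h <;> rw [hew'] at h
    · exfalso
      exact hwQ (by
        have := mul_mem (inv_mem (C.Z_le_Q h)) hk
        rwa [inv_mul_cancel_left] at this)
    · rcases C.Z_cases hz hz1 h with h' | h' | h'
      · exact absurd (conj_eq_one_iff.1 (show e * w * e⁻¹ = 1 by
          calc e * w * e⁻¹ = g * (g⁻¹ * (e * w * e⁻¹) * g) * g⁻¹ := by group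
            _ = 1 := by rw [h']; group)) (fun h1 => hwQ (h1 ▸ one_mem _))
      · exfalso
        have h2 : e * w * e⁻¹ = w := by
          calc e * w * e⁻¹ = g * (g⁻¹ * (e * w * e⁻¹) * g) * g⁻¹ := by group
            _ = w := by rw [h']
        have h3 : C.pi W * C.pi W = 1 := (C.pi_ker (W * W)).2 (by
          rw [h2] at hk; exact hk) |> (fun h => by rwa [map_mul] at h)
        have h4 := hw3
        rw [pow_succ, pow_two, h3, one_mul] at h4
        exact hw1 h4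
      · calc e * w * e⁻¹ = g * (g⁻¹ * (e * w * e⁻¹) * g) * g⁻¹ := by group
          _ = w⁻¹ := by rw [h', hw]; group
  exact ⟨{ F with
    z := z, w := w, g := g, e := e, z_mem := hz, z_ne := hz1, g_mem := hg, psi_g := hψ, g_t := hgt,
    w_eq := hw, e_mem := hemem, e_sq := he2, e_w := hfin, e_J := heJ }⟩

end Conf.Frame

end Cfsg.Agent.McLThree
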