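import Cfsg.Agent.Lib.McLThree.Cent

/-!
The action of the elements normalising `J` and centralising the involution on the part `W` of `J`
inverted by the involution, and the kernel of the action on `⟨z, w⟩`, without assuming that the
centraliser of `Z` is `L`.
-/

set_option autoImplicit false
set_option maxRecDepth 20000
set_option maxHeartbeats 1000000
set_option synthInstance.maxSize 4000
set_option synthInstance.maxHeartbeats 400000
set_option linter.style.haveILetI false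
set_option linter.unusedSectionVars false

namespace Cfsg.Agent.McLThree

open Subgroup
open Cfsg.Agent.ThreeTI.Cube (V)

/-- Vectors of the plane. -/
abbrev V2 := ZMod 3 × ZMod 3

/-- Linear maps of the plane, by the images of the basis. -/
abbrev M2 := V2 × V2

/-- Evaluation. -/
def app (m : M2) (v : V2) : V2 :=
  (v.1 * m.1.1 + v.2 * m.2.1, v.1 * m.1.2 + v.2 * m.2.2)

/-- Composition. -/
def cmp (m n : M2) : M2 := (app m n.1, app m n.2)

/-- The identity. -/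
def one2 : M2 := ((1, 0), (0, 1))

/-- Minus the identity. -/
def neg2 : M2 := ((2, 0), (0, 2))

/-- The rotation of order four. -/
def rot2 : M2 := ((0, 1), (2, 0))

/-- The inverse rotation. -/
def rot2' : M2 := ((0, 2), (1, 0))

/-- A reflection. -/
def refl2 : M2 := ((1, 0), (0, 2))

/-- The opposite reflection. -/
def refl2' : M2 := ((2, 0), (0, 1))

/-- The determinant. -/
def det2 (m : M2) : ZMod 3 := m.1.1 * m.2.2 - m.1.2 * m.2.1

/-- The vector of `V` over a vector of the plane. -/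
def v0 (v : V2) : V := Multiplicative.ofAdd (0, v.1, v.2)

/-- The vector lies on an axis. -/
abbrev Axis (v : V2) : Prop := v ≠ 0 ∧ (v.1 = 0 ∨ v.2 = 0)

/-- Monomial maps. -/
abbrev InD8 (m : M2) : Prop := Axis m.1 ∧ Axis m.2

theorem app_facts : (∀ v, app one2 v = v) ∧ app neg2 (1, 0) = (2, 0) ∧ app neg2 (0, 1) = (0, 2) ∧
    (∀ m : M2, app m (1, 0) = m.1 ∧ app m (0, 1) = m.2) := by decide +kernel

theorem sgA_inv : ∀ v : V, sgA v = v⁻¹ → v = v0 (v.toAdd.2.1, v.toAdd.2.2) := by decide +kernel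

theorem sgA_v0 : ∀ v : V2, sgA (v0 v) = (v0 v)⁻¹ := by decide +kernel

theorem sgB_v0 : sgB (v0 (1, 0)) = v0 (1, 0) ∧ sgB (v0 (0, 1)) = v0 (0, 2) ∧
    sgA (sgB (v0 (1, 0))) = v0 (2, 0) ∧ sgA (sgB (v0 (0, 1))) = v0 (0, 1) ∧
    rot3 v100 = v0 (1, 0) ∧ rot3 (rot3 v100) = v0 (0, 1) ∧
    rot3 v100⁻¹ = v0 (2, 0) ∧ rot3 (rot3 v100⁻¹) = v0 (0, 2) := by
  decide +kernel

theorem v0_inj : ∀ u v : V2, v0 u = v0 v → u = v := by decide +kernel

theorem act_axis : ∀ (a b : Fin 2) (i : Fin 3) (u : V), (u = v100 ∨ u = v100⁻¹) → ∀ v : V2,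
    act3 a b i u = v0 v → Axis v := by decide +kernel

theorem inD8_sq : ∀ m : M2, InD8 m → cmp m m = neg2 → m = rot2 ∨ m = rot2' := by decide +kernel

theorem four_notD8 : ∀ x : M2, cmp x x = neg2 → x ≠ rot2 → x ≠ rot2' →
    cmp x rot2 ≠ cmp rot2 x ∧ cmp x rot2' ≠ cmp rot2' x ∧
      ∀ g : M2, (g = refl2 ∨ g = refl2') → cmp (cmp (cmp g x) g) x ≠ cmp x (cmp (cmp g x) g) := by
  decide +kernel

theorem four_conj : ∀ x : M2, cmp x x = neg2 → x ≠ rot2 → x ≠ rot2' →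
    ∀ r : M2, InD8 r → det2 r ≠ 0 → (cmp r x = cmp x r ∨ cmp r x = cmp (cmp x neg2) r) →
      r = one2 ∨ r = neg2 ∨ r = rot2 ∨ r = rot2' := by
  decide +kernel

theorem det_of_inv : ∀ r s : M2, cmp r s = one2 → det2 r ≠ 0 := by decide +kernel

theorem neg_add_one : neg2.1 + ((1, 0) : V2) = 0 ∧ neg2.2 + ((0, 1) : V2) = 0 := by decide +kernel

theorem rot_facts : cmp rot2 rot2 = neg2 ∧ cmp rot2' rot2' = neg2 ∧ cmp rot2 rot2' = one2 ∧
    cmp rot2' rot2 = one2 ∧ cmp neg2 neg2 = one2 ∧ cmp rot2 neg2 = rot2' ∧ cmp rot2' neg2 = rot2 ∧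
    one2 ≠ rot2 ∧ one2 ≠ rot2' ∧ neg2 ≠ rot2 ∧ neg2 ≠ rot2' ∧ one2 ≠ neg2 ∧ rot2 ≠ rot2' := by decide +kernel

/-- Inversion by an element of odd order is trivial. -/
theorem not_inv_of_odd {G : Type*} [Group G] {x w : G} {n : ℕ} (hn : Odd n) (hx : x ^ n = 1)
    (h : x * w * x⁻¹ = w⁻¹) : w * w = 1 := by
  obtain ⟨m, rfl⟩ := hn
  have h2 : Commute (x ^ 2) w := by
    refine mul_inv_eq_iff_eq_mul.1 ?_
    calc x ^ 2 * w * (x ^ 2)⁻¹ = x * (x * w * x⁻¹) * x⁻¹ := by rw [pow_two]; group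
      _ = x * w⁻¹ * x⁻¹ := by rw [h]
      _ = (x * w * x⁻¹)⁻¹ := by group
      _ = w := by rw [h, inv_inv]
  have h1 : Commute x w := by
    have h3 := h2.pow_left (m + 1)
    rwa [← pow_mul, show 2 * (m + 1) = (2 * m + 1) + 1 by ring, pow_succ, hx, one_mul] at h3
  have e : w = w⁻¹ := by rw [← h, h1.eq, mul_inv_cancel_right]
  nth_rw 2 [e]
  exact mul_inv_cancel w

namespace Conf

variable {G : Type*} [Group G] [Finite G] (C : Conf G)
include C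

/-- An element of `C(Z)` centralising `A` is a 3-element. -/
theorem cent_A_three {x : G} (hx : x ∈ C.CZ) (hA : ∀ a ∈ C.A, x * a = a * x) : orderOf x ∣ 729 := by
  haveI : Fact (Nat.Prime 3) := ⟨Nat.prime_three⟩
  obtain ⟨k, m, hm, hn⟩ := Nat.exists_eq_pow_mul_and_not_dvd (orderOf_pos x).ne' 3 (by norm_num)
  set y := x ^ 3 ^ k with hy
  have hym : y ^ m = 1 := by rw [hy, ← pow_mul, ← hn, pow_orderOf_eq_one]
  have hyA : ∀ a ∈ C.A, Commute y a := fun a ha => (show Commute x a from hA a ha).pow_left _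
  have hyN : y ∈ normalizer (C.Z : Set G) := C.CZ_le_norm (pow_mem hx _)
  have hcop : Nat.Coprime 3 m := Nat.prime_three.coprime_iff_not_dvd.2 hm
  have hyQ : y ∈ C.Q := by
    refine C.cent_Q y fun q hq => ?_
    set a := q⁻¹ * (y * q * y⁻¹) with ha
    have haQ : a ∈ C.Q := mul_mem (inv_mem hq) (C.normQ y hyN q hq)
    have haA : a ∈ C.A := by
      refine C.A_cent haQ fun b hb => ?_
      set c := q * b * q⁻¹ * b⁻¹ with hc
      have hcZ : c ∈ C.Z := C.comm_mem hq hb.2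
      have hcy : Commute y c := hyA c (C.Z_le_A hcZ)
      have hcb : Commute y b := hyA b hb
      have hc2 : (y * q * y⁻¹) * b * (y * q * y⁻¹)⁻¹ = q * b * q⁻¹ := by
        calc (y * q * y⁻¹) * b * (y * q * y⁻¹)⁻¹ = y * q * (y⁻¹ * (b * y)) * q⁻¹ * y⁻¹ := by group
          _ = y * (c * b) * y⁻¹ := by rw [← hcb.eq, hc]; group
          _ = c * b := by rw [(hcy.mul_right hcb).eq, mul_inv_cancel_right]
          _ = _ := by rw [hc]; group
      calc a * b = q⁻¹ * ((y * q * y⁻¹) * b * (y * q * y⁻¹)⁻¹) * (y * q * y⁻¹) := by rw [ha]; group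
        _ = b * a := by rw [hc2, ha]; group
    have key : ∀ n : ℕ, y ^ n * q * (y ^ n)⁻¹ = q * a ^ n := by
      intro n
      induction n with
      | zero => simp
      | succ n ih =>
        calc y ^ (n + 1) * q * (y ^ (n + 1))⁻¹ = y * (y ^ n * q * (y ^ n)⁻¹) * y⁻¹ := by
              rw [pow_succ']; group
          _ = (y * q * y⁻¹) * (y * a ^ n * y⁻¹) := by rw [ih]; group
          _ = (y * q * y⁻¹) * a ^ n := by rw [((hyA a haA).pow_right n).eq, mul_inv_cancel_right]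
          _ = q * (a * a ^ n) := by rw [← mul_assoc, ha, mul_inv_cancel_left]
          _ = q * a ^ (n + 1) := by rw [pow_succ']
    have h := key m
    rw [hym, one_mul, inv_one, mul_one, left_eq_mul] at h
    have h1 := pow_gcd_eq_one.2 ⟨C.exp_Q a haQ, h⟩
    rw [hcop.gcd_eq_one, pow_one, ha, inv_mul_eq_one] at h1
    exact (mul_inv_eq_iff_eq_mul.1 h1.symm)
  have h1 := pow_gcd_eq_one.2 ⟨C.exp_Q y hyQ, hym⟩
  rw [hcop.gcd_eq_one, pow_one] at h1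
  obtain ⟨i, -, hi⟩ := (Nat.dvd_prime_pow Nat.prime_three).1 (orderOf_dvd_of_pow_eq_one h1)
  have h7 : i ≤ 6 := by
    by_contra hh
    exact C.not_dvd ((pow_dvd_pow 3 (show 7 ≤ i by omega)).trans (hi ▸ orderOf_dvd_natCard x))
  rw [hi]
  exact pow_dvd_pow 3 h7

end Conf

namespace Conf.Pair

variable {G : Type*} [Group G] [Finite G] {C : Conf G} (P : C.Pair)
include P

/-- The normaliser of `J` in the centraliser of the involution. -/
def NT (_ : C.Pair) : Subgroup G := normalizer (C.J : Set G) ⊓ centralizer ({C.t} : Set G)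

theorem mem_NT {x : G} : x ∈ P.NT ↔ x ∈ normalizer (C.J : Set G) ∧ x * C.t = C.t * x := by
  rw [NT, mem_inf, mem_centralizer_singleton_iff]

theorem g_NT : P.g ∈ P.NT := P.mem_NT.2 ⟨P.g_norm, P.g_t⟩

theorem e_NT : P.e ∈ P.NT := P.mem_NT.2 ⟨P.e_J, P.e_t⟩

theorem t_NT : C.t ∈ P.NT := P.mem_NT.2 ⟨C.M_norm P.t_M, rfl⟩

theorem D_NT : P.D ≤ P.NT := fun x hx => P.mem_NT.2 ⟨C.M_norm (C.JM hx.1), hx.2⟩

/-- Elements centralising `z`, `w` and the involution normalise `J`. -/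
theorem kernel_NT {x : G} (ht : x * C.t = C.t * x) (hz : x * P.z = P.z * x) (hw : x * P.w = P.w * x) :
    x ∈ P.NT := by
  have hxN : x ∈ normalizer (C.Z : Set G) := C.norm_Z_of P.z_mem P.z_ne (by
    rw [hz, mul_inv_cancel_right]; exact P.z_mem)
  refine P.mem_NT.2 ⟨C.norm_of_le fun j hj => ?_, ht⟩
  obtain ⟨k, hk⟩ := P.J_pow hj
  set a := j * (P.w ^ (k : ℕ))⁻¹ with ha
  have hja : j = a * P.w ^ (k : ℕ) := by rw [ha, inv_mul_cancel_right]
  have hwk : x * P.w ^ (k : ℕ) * x⁻¹ = P.w ^ (k : ℕ) :=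
    mul_inv_eq_iff_eq_mul.2 ((show Commute x P.w from hw).pow_right _)
  rw [hja, show x * (a * P.w ^ (k : ℕ)) * x⁻¹ = (x * a * x⁻¹) * (x * P.w ^ (k : ℕ) * x⁻¹) by group, hwk]
  refine mul_mem ?_ (pow_mem P.w_J _)
  refine (C.A_of_fix P.w_J P.w_notQ (C.normQ x hxN a hk.2) ?_).1
  have hc : Commute (x * a * x⁻¹) P.w :=
    ((show Commute x P.w from hw).mul_left (C.J_comm a hk.1 _ P.w_J)).mul_left (show Commute x P.w from hw).inv_left
  rw [← hc.eq, mul_inv_cancel_right, mul_inv_cancel]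
  exact one_mem _

end Conf.Pair

namespace Conf.Pair.Point

variable {G : Type*} [Group G] [Finite G] {C : Conf G} {P : C.Pair} (O : P.Point)
include O

/-- The coordinates of the part of `J` inverted by the involution. -/
def wv (v : V2) : G := (O.u1 * P.y) ^ v.1.val * (O.u2 * P.y) ^ v.2.val

theorem wv_eq (v : V2) : O.wv v = O.co (v0 v) * P.y ^ (v.1.val + v.2.val) := by
  have h1 : Commute O.u1 P.y := C.J_comm _ O.u1_J _ P.y_J
  have h2 : Commute O.u2 P.y := C.J_comm _ O.u2_J _ P.y_J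
  have h3 : Commute (P.y ^ v.1.val) (O.u2 ^ v.2.val) := h2.symm.pow_pow _ _
  show (O.u1 * P.y) ^ v.1.val * (O.u2 * P.y) ^ v.2.val =
    P.z ^ (0 : ZMod 3).val * O.u1 ^ v.1.val * O.u2 ^ v.2.val * P.y ^ (v.1.val + v.2.val)
  rw [ZMod.val_zero, pow_zero, one_mul, h1.mul_pow, h2.mul_pow, pow_add,
    show O.u1 ^ v.1.val * P.y ^ v.1.val * (O.u2 ^ v.2.val * P.y ^ v.2.val) =
      O.u1 ^ v.1.val * (P.y ^ v.1.val * O.u2 ^ v.2.val) * P.y ^ v.2.val by group, h3.eq]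
  group

theorem wv_J (v : V2) : O.wv v ∈ C.J :=
  mul_mem (pow_mem (mul_mem O.u1_J P.y_J) _) (pow_mem (mul_mem O.u2_J P.y_J) _)

theorem wv_t (v : V2) : C.t * O.wv v * C.t⁻¹ = (O.wv v)⁻¹ := by
  have key : ∀ u ∈ C.J, C.t * u * C.t⁻¹ = u⁻¹ * P.y → C.t * (u * P.y) * C.t⁻¹ = (u * P.y)⁻¹ := by
    intro u hu h
    have hy : C.t * P.y * C.t⁻¹ = P.y := by rw [← P.y_t, mul_inv_cancel_right]
    rw [show C.t * (u * P.y) * C.t⁻¹ = (C.t * u * C.t⁻¹) * (C.t * P.y * C.t⁻¹) by group, h, hy, mul_inv_rev,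
      mul_assoc, show P.y * P.y = P.y⁻¹ from eq_inv_of_mul_eq_one_left (by rw [← pow_two, ← pow_succ, O.y3])]
    exact ((show Commute P.y u from C.J_comm _ P.y_J _ hu).inv_inv).eq.symm
  have hc : Commute (O.u1 * P.y) (O.u2 * P.y) := C.J_comm _ (mul_mem O.u1_J P.y_J) _ (mul_mem O.u2_J P.y_J)
  rw [wv, show C.t * ((O.u1 * P.y) ^ v.1.val * (O.u2 * P.y) ^ v.2.val) * C.t⁻¹ =
    (C.t * (O.u1 * P.y) ^ v.1.val * C.t⁻¹) * (C.t * (O.u2 * P.y) ^ v.2.val * C.t⁻¹) by group, ← conj_pow,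
    ← conj_pow, key _ O.u1_J O.t_u1, key _ O.u2_J O.t_u2, inv_pow, inv_pow, mul_inv_rev]
  exact ((hc.pow_pow _ _).inv_inv).eq

/-- Elements of `J` inverted by the involution. -/
theorem wv_surj {j : G} (hj : j ∈ C.J) (ht : C.t * j * C.t⁻¹ = j⁻¹) : ∃ v : V2, j = O.wv v := by
  obtain ⟨u, d, rfl⟩ := O.J_decomp hj
  have hy : C.t * P.y * C.t⁻¹ = P.y := by rw [← P.y_t, mul_inv_cancel_right]
  have hcy : ∀ (v : V) (n : ℕ), Commute (O.co v) (P.y ^ n) := fun v n =>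
    (show Commute (O.co v) P.y from C.J_comm _ (O.co_J v) _ P.y_J).pow_right n
  obtain ⟨d', hd'⟩ := O.t_co u
  rw [show C.t * (O.co u * P.y ^ d) * C.t⁻¹ = (C.t * O.co u * C.t⁻¹) * (C.t * P.y ^ d * C.t⁻¹) by group,
    ← conj_pow, hy, hd', mul_inv_rev] at ht
  have h2 : O.co (u * sgA u) = P.y ^ (2 * (d' + d + d)) := by
    have e : O.co u * O.co (sgA u) * P.y ^ (d' + d + d) = 1 := by
      calc O.co u * O.co (sgA u) * P.y ^ (d' + d + d)
          = O.co u * (O.co (sgA u) * P.y ^ d' * P.y ^ d) * P.y ^ d := by rw [pow_add, pow_add]; group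
        _ = O.co u * (P.y ^ d)⁻¹ * ((O.co u)⁻¹ * P.y ^ d) := by rw [ht]; group
        _ = 1 := by rw [((hcy u d).inv_right).eq]; group
    have h3 : P.y ^ (2 * (d' + d + d)) * P.y ^ (d' + d + d) = 1 := by
      rw [← pow_add, show 2 * (d' + d + d) + (d' + d + d) = 3 * (d' + d + d) by ring, pow_mul, O.y3, one_pow]
    rw [map_mul]
    exact mul_right_cancel (e.trans h3.symm)
  have hu : sgA u = u⁻¹ := eq_inv_of_mul_eq_one_right (O.co_100_y h2)
  set v : V2 := (u.toAdd.2.1, u.toAdd.2.2) with hv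
  have huv : u = v0 v := sgA_inv u hu
  refine ⟨v, ?_⟩
  have hw := O.wv_t v
  rw [O.wv_eq, ← huv] at hw ⊢
  set e := v.1.val + v.2.val with he
  rw [show C.t * (O.co u * P.y ^ e) * C.t⁻¹ = (C.t * O.co u * C.t⁻¹) * (C.t * P.y ^ e * C.t⁻¹) by group,
    ← conj_pow, hy, hd', mul_inv_rev] at hw
  -- both exponents agree
  have hr : (O.co (sgA u) * P.y ^ d' * P.y ^ d)⁻¹ * (O.co (sgA u) * P.y ^ d' * P.y ^ e) =
      ((P.y ^ d)⁻¹ * (O.co u)⁻¹)⁻¹ * ((P.y ^ e)⁻¹ * (O.co u)⁻¹) := by rw [ht, hw]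
  have hl : (O.co (sgA u) * P.y ^ d' * P.y ^ d)⁻¹ * (O.co (sgA u) * P.y ^ d' * P.y ^ e) =
      (P.y ^ d)⁻¹ * P.y ^ e := by group
  have hrr : ((P.y ^ d)⁻¹ * (O.co u)⁻¹)⁻¹ * ((P.y ^ e)⁻¹ * (O.co u)⁻¹) = P.y ^ d * (P.y ^ e)⁻¹ := by
    calc ((P.y ^ d)⁻¹ * (O.co u)⁻¹)⁻¹ * ((P.y ^ e)⁻¹ * (O.co u)⁻¹)
        = O.co u * (P.y ^ d * (P.y ^ e)⁻¹) * (O.co u)⁻¹ := by group
      _ = _ := by rw [((hcy u d).mul_right (hcy u e).inv_right).eq, mul_inv_cancel_right]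
  rw [hl, hrr] at hr
  set c := P.y ^ d * (P.y ^ e)⁻¹ with hc
  have hinv : c⁻¹ = (P.y ^ d)⁻¹ * P.y ^ e := by
    rw [hc, mul_inv_rev, inv_inv]
    exact ((Commute.refl P.y).pow_pow _ _).inv_right.eq
  have hc2 : c * c = 1 := by
    nth_rw 2 [← hr]
    rw [← hinv, mul_inv_cancel]
  have hc3 : c ^ 3 = 1 := by
    rw [hc, ((Commute.refl P.y).pow_pow d e).inv_right.mul_pow, inv_pow, ← pow_mul, ← pow_mul, mul_comm d,
      mul_comm e, pow_mul, pow_mul, O.y3, one_pow, one_pow, inv_one, one_mul]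
  have hc1 : c = 1 := by rwa [pow_succ, pow_two, hc2, one_mul] at hc3
  rw [show P.y ^ d = P.y ^ e from mul_inv_eq_one.1 (hc ▸ hc1)]

theorem wv_inj : Function.Injective O.wv := by
  intro u v h
  rw [O.wv_eq, O.wv_eq] at h
  refine v0_inj u v (O.co_inj_mod h)

theorem wv_add (u v : V2) : O.wv (u + v) = O.wv u * O.wv v := by
  have ha : (O.u1 * P.y) ^ 3 = 1 := C.J_exp _ (mul_mem O.u1_J P.y_J)
  have hb : (O.u2 * P.y) ^ 3 = 1 := C.J_exp _ (mul_mem O.u2_J P.y_J)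
  have hc : Commute (O.u2 * P.y) (O.u1 * P.y) := C.J_comm _ (mul_mem O.u2_J P.y_J) _ (mul_mem O.u1_J P.y_J)
  simp only [wv, Prod.fst_add, Prod.snd_add]
  rw [pow_val_add ha, pow_val_add hb]
  calc (O.u1 * P.y) ^ u.1.val * (O.u1 * P.y) ^ v.1.val * ((O.u2 * P.y) ^ u.2.val * (O.u2 * P.y) ^ v.2.val)
      = (O.u1 * P.y) ^ u.1.val * ((O.u1 * P.y) ^ v.1.val * (O.u2 * P.y) ^ u.2.val) *
          (O.u2 * P.y) ^ v.2.val := by group
    _ = _ := by rw [← (hc.pow_pow _ _).eq]; group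

theorem wv_pow (k : ZMod 3) (v : V2) : O.wv v ^ k.val = O.wv (k * v.1, k * v.2) := by
  have h2 : O.wv v * O.wv v = O.wv (v + v) := (O.wv_add v v).symm
  rcases (by decide : ∀ k : ZMod 3, k = 0 ∨ k = 1 ∨ k = 2) k with rfl | rfl | rfl
  · simp [wv]
  · simp [ZMod.val_one]
  · rw [show (2 : ZMod 3).val = 2 from rfl, pow_two, h2, two_mul, two_mul]; rfl

theorem wv_app {x : G} {m : M2} (h1 : x * O.wv (1, 0) * x⁻¹ = O.wv m.1)
    (h2 : x * O.wv (0, 1) * x⁻¹ = O.wv m.2) (v : V2) : x * O.wv v * x⁻¹ = O.wv (app m v) := by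
  have e : v = (v.1 * 1, v.1 * 0) + (v.2 * 0, v.2 * 1) := by
    ext <;> simp
  conv_lhs => rw [e, O.wv_add, ← O.wv_pow v.1 (1, 0), ← O.wv_pow v.2 (0, 1)]
  rw [show x * (O.wv (1, 0) ^ v.1.val * O.wv (0, 1) ^ v.2.val) * x⁻¹ =
    (x * O.wv (1, 0) ^ v.1.val * x⁻¹) * (x * O.wv (0, 1) ^ v.2.val * x⁻¹) by group, ← conj_pow, ← conj_pow,
    h1, h2, O.wv_pow, O.wv_pow, ← O.wv_add]
  rfl

theorem exists_act {x : G} (hx : x ∈ P.NT) : ∃ m : M2, ∀ v : V2, x * O.wv v * x⁻¹ = O.wv (app m v) := by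
  obtain ⟨hxJ, hxt⟩ := P.mem_NT.1 hx
  have key : ∀ v : V2, ∃ u : V2, x * O.wv v * x⁻¹ = O.wv u := fun v => by
    refine O.wv_surj ((mem_normalizer_iff.1 hxJ _).1 (O.wv_J v)) ?_
    calc C.t * (x * O.wv v * x⁻¹) * C.t⁻¹ = (C.t * x) * O.wv v * (C.t * x)⁻¹ := by group
      _ = (x * C.t) * O.wv v * (x * C.t)⁻¹ := by rw [hxt]
      _ = x * (C.t * O.wv v * C.t⁻¹) * x⁻¹ := by group
      _ = _ := by rw [O.wv_t]; group
  obtain ⟨u1, h1⟩ := key (1, 0)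
  obtain ⟨u2, h2⟩ := key (0, 1)
  exact ⟨(u1, u2), O.wv_app h1 h2⟩

open Classical in
/-- The action on the inverted part. -/
noncomputable def wact (x : G) : M2 := if hx : x ∈ P.NT then (O.exists_act hx).choose else one2

theorem wact_spec {x : G} (hx : x ∈ P.NT) (v : V2) : x * O.wv v * x⁻¹ = O.wv (app (O.wact x) v) := by
  rw [wact, dif_pos hx]; exact (O.exists_act hx).choose_spec v

theorem wact_eq {x : G} (hx : x ∈ P.NT) {m : M2} (h1 : x * O.wv (1, 0) * x⁻¹ = O.wv m.1)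
    (h2 : x * O.wv (0, 1) * x⁻¹ = O.wv m.2) : O.wact x = m := by
  rw [O.wact_spec hx, (app_facts.2.2.2 _).1] at h1
  rw [O.wact_spec hx, (app_facts.2.2.2 _).2] at h2
  exact Prod.ext (O.wv_inj h1) (O.wv_inj h2)

theorem wact_mul {x y : G} (hx : x ∈ P.NT) (hy : y ∈ P.NT) :
    O.wact (x * y) = cmp (O.wact x) (O.wact y) := by
  refine O.wact_eq (mul_mem hx hy) ?_ ?_
  all_goals
    rw [show ∀ a : G, x * y * a * (x * y)⁻¹ = x * (y * a * y⁻¹) * x⁻¹ from fun a => by group, O.wact_spec hy,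
      O.wact_spec hx]
    first
      | rw [(app_facts.2.2.2 _).1]; rfl
      | rw [(app_facts.2.2.2 _).2]; rfl

theorem wact_comm {x : G} (hx : x ∈ P.NT) (h : ∀ v : V2, x * O.wv v = O.wv v * x) : O.wact x = one2 :=
  O.wact_eq hx (mul_inv_eq_iff_eq_mul.2 (h _)) (mul_inv_eq_iff_eq_mul.2 (h _))

theorem wact_one : O.wact 1 = one2 := O.wact_comm (one_mem _) fun v => by simp

theorem wact_J {x : G} (hx : x ∈ P.D) : O.wact x = one2 :=
  O.wact_comm (P.D_NT hx) fun v => C.J_comm _ hx.1 _ (O.wv_J v)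

theorem wact_t : O.wact C.t = neg2 := by
  refine O.wact_eq P.t_NT ?_ ?_
  all_goals
    rw [O.wv_t]
    refine (eq_inv_of_mul_eq_one_left ?_).symm
    rw [← O.wv_add]
    first
      | (rw [neg_add_one.1]; simp [wv])
      | (rw [neg_add_one.2]; simp [wv])

theorem wact_centralize {x : G} (hx : x ∈ P.NT) (h : O.wact x = one2) (v : V2) :
    x * O.wv v = O.wv v * x := by
  refine mul_inv_eq_iff_eq_mul.1 ?_
  rw [O.wact_spec hx, h, app_facts.1]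

/-- Elements fixing `z` and the inverted part are 3-elements. -/
theorem three_of_fix {x : G} (hx : x ∈ P.NT) (hz : x * P.z = P.z * x) (h : O.wact x = one2) :
    orderOf x ∣ 729 := by
  refine C.cent_A_three (C.mem_CZ.2 fun ζ hζ => by
    obtain ⟨i, rfl⟩ := P.Z_pow hζ
    exact ((show Commute x P.z from hz).pow_right _).eq) fun a ha => ?_
  obtain ⟨u, d, hud⟩ := O.J_decomp ha.1
  obtain ⟨v, hv⟩ : ∃ v : V2, v = (u.toAdd.2.1, u.toAdd.2.2) := ⟨_, rfl⟩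
  have hwQ : ∀ v, O.wv v ∈ C.Q := fun v => by
    have hL : (O.wv v)⁻¹ ∈ C.L := inv_mem (C.SL (C.JS (O.wv_J v)))
    have h1 := C.comm_t hL
    rw [inv_inv, show (O.wv v)⁻¹ * C.t * O.wv v * C.t⁻¹ = (O.wv v)⁻¹ * (C.t * O.wv v * C.t⁻¹) by group,
      O.wv_t] at h1
    have h3 := C.J_exp _ (O.wv_J v)
    rwa [show (O.wv v)⁻¹ * (O.wv v)⁻¹ = O.wv v by
      rw [← mul_inv_rev]; exact inv_eq_of_mul_eq_one_right (by rw [← pow_two, ← pow_succ, h3])] at h1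
  have hco : O.co u = P.z ^ u.toAdd.1.val * O.co (v0 v) := by
    subst hv
    show _ = P.z ^ _ * (P.z ^ (0 : ZMod 3).val * O.u1 ^ _ * O.u2 ^ _)
    rw [ZMod.val_zero, pow_zero, one_mul, ← mul_assoc]
    rfl
  have hyn : P.y ^ (3 * (v.1.val + v.2.val)) = 1 := by rw [pow_mul, O.y3, one_pow]
  have ha' : a = P.z ^ u.toAdd.1.val * O.wv v * P.y ^ (d + 2 * (v.1.val + v.2.val)) := by
    rw [hud, hco, O.wv_eq, ← mul_assoc _ (O.co _), mul_assoc _ (P.y ^ _), ← pow_add,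
      show v.1.val + v.2.val + (d + 2 * (v.1.val + v.2.val)) = d + 3 * (v.1.val + v.2.val) by ring, pow_add _ d,
      hyn, mul_one]
  set n := d + 2 * (v.1.val + v.2.val)
  have hyQ : P.y ^ n ∈ C.Q := by
    have := mul_mem (inv_mem (mul_mem (pow_mem (C.Z_le_Q P.z_mem) u.toAdd.1.val) (hwQ v))) (ha'.symm ▸ ha.2)
    rwa [inv_mul_cancel_left] at this
  have hwn : P.w ^ n ∈ C.Q := by
    rw [y, (show Commute P.z P.w from P.zw).mul_pow] at hyQ
    have := mul_mem (inv_mem (pow_mem (C.Z_le_Q P.z_mem) n)) hyQ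
    rwa [inv_mul_cancel_left] at this
  have hn : P.w ^ n = 1 := by
    have h := P.w_pow_Q (k := ⟨n % 3, Nat.mod_lt _ (by norm_num)⟩) (by
      show P.w ^ (n % 3) ∈ C.Q
      rwa [← pow_eq_pow_mod _ P.w3])
    rw [pow_eq_pow_mod _ P.w3, show n % 3 = 0 from congrArg Fin.val h, pow_zero]
  have hy : P.y ^ n = P.z ^ n := by rw [y, (show Commute P.z P.w from P.zw).mul_pow, hn, mul_one]
  rw [ha', hy]
  exact (((show Commute x P.z from hz).pow_right _).mul_right (O.wact_centralize hx h v)).mul_right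
    ((show Commute x P.z from hz).pow_right _)

theorem MY_co {x : G} (hx : x ∈ C.M) (hy : x * P.y = P.y * x) : ∃ (a b : Fin 2) (i : Fin 3),
    ∀ v : V, ∃ d : ℕ, x * O.co v * x⁻¹ = O.co (act3 a b i v) * P.y ^ d := by
  obtain ⟨a, b, i, hp⟩ := O.U_decomp (O.mem_U.2 ⟨⟨x, hx⟩, hy, rfl⟩)
  refine ⟨a, b, i, ?_⟩
  let Pr : G → (V → V) → Prop := fun x F => x * P.y = P.y * x ∧
    ∀ v, ∃ d : ℕ, x * O.co v * x⁻¹ = O.co (F v) * P.y ^ d
  have hmul : ∀ {x x' : G} {F F' : V → V}, Pr x F → Pr x' F' → Pr (x * x') (F ∘ F') := by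
    rintro x x' F F' ⟨hc, h⟩ ⟨hc', h'⟩
    refine ⟨((show Commute x P.y from hc).mul_left hc').eq, fun v => ?_⟩
    obtain ⟨d', hd'⟩ := h' v
    obtain ⟨d, hd⟩ := h (F' v)
    refine ⟨d + d', ?_⟩
    calc x * x' * O.co v * (x * x')⁻¹ = x * (x' * O.co v * x'⁻¹) * x⁻¹ := by group
      _ = (x * O.co (F' v) * x⁻¹) * (x * P.y ^ d' * x⁻¹) := by rw [hd']; group
      _ = _ := by
          rw [hd, ← conj_pow, hc, mul_inv_cancel_right, mul_assoc, ← pow_add]; rfl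
  have hpow : ∀ {x : G} {F : V → V}, Pr x F → ∀ n : ℕ, Pr (x ^ n) (F^[n]) := by
    intro x F h n
    induction n with
    | zero => exact ⟨by simp, fun v => ⟨0, by simp⟩⟩
    | succ n ih => rw [pow_succ', Function.iterate_succ']; exact hmul h ih
  have hs : Pr O.s rot3 := ⟨O.s_y, fun v => ⟨0, by rw [O.s_co]; simp⟩⟩
  have ht : Pr C.t sgA := ⟨P.y_t.symm, O.t_co⟩
  have hsi : Pr O.s⁻¹ (rot3 ∘ rot3) := by
    rw [show O.s⁻¹ = O.s * O.s from inv_eq_of_mul_eq_one_right (by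
      rw [← mul_assoc, ← pow_two, ← pow_succ, O.s3])]
    exact hmul hs hs
  have hB : Pr (O.s * C.t * O.s⁻¹) sgB := by
    have h := hmul (hmul hs ht) hsi
    rw [show (rot3 ∘ sgA) ∘ (rot3 ∘ rot3) = sgB from funext act_basic.1] at h
    exact h
  have hJ : ∀ j ∈ C.J, Pr j id := fun j hj => ⟨C.J_comm _ hj _ P.y_J, fun v => ⟨0, by
    rw [C.J_comm _ hj _ (O.co_J v), mul_inv_cancel_right, pow_zero, mul_one]; rfl⟩⟩
  set T : C.M := ⟨C.t, P.t_M⟩
  set S' : C.M := ⟨O.s, O.s_M⟩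
  set r : C.M := T ^ (a : ℕ) * (S' * T * S'⁻¹) ^ (b : ℕ) * S' ^ (i : ℕ) with hr
  have hj : ((⟨x, hx⟩ * r⁻¹ : C.M) : G) ∈ C.J := (P.psi_ker _).1 (by
    rw [map_mul, map_inv, hr, map_mul, map_mul, map_pow, map_pow, map_pow, map_mul, map_mul, map_inv, P.psi_t,
      show P.psi S' = O.σ from rfl, hp, mul_inv_cancel])
  have hrG : (r : G) = C.t ^ (a : ℕ) * (O.s * C.t * O.s⁻¹) ^ (b : ℕ) * O.s ^ (i : ℕ) := by
    simp [hr, T, S']
  have h : Pr x (act3 a b i) := by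
    have := hmul (hJ _ hj) (hmul (hmul (hpow ht a) (hpow hB b)) (hpow hs i))
    rw [← hrG, Subgroup.coe_mul, InvMemClass.coe_inv, inv_mul_cancel_right] at this
    exact this
  exact h.2

/-- Elements fixing or inverting `z` and `y` permute the axes. -/
theorem axes {x : G} (hx : x ∈ P.NT) (hz : x * P.z * x⁻¹ = P.z ∨ x * P.z * x⁻¹ = P.z⁻¹)
    (hy : x * P.y * x⁻¹ = P.y ∨ x * P.y * x⁻¹ = P.y⁻¹) : InD8 (O.wact x) := by
  obtain ⟨hxJ, hxt⟩ := P.mem_NT.1 hx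
  set k := x * O.s * x⁻¹ with hk
  have hkM : k ∈ C.M := C.M_normal hxJ O.s_M
  have hky : k * P.y = P.y * k := by
    have h : Commute (x * O.s * x⁻¹) (x * P.y * x⁻¹) :=
      Commute.map (show Commute O.s P.y from O.s_y) (MulAut.conj x).toMonoidHom
    rcases hy with e | e <;> rw [e] at h
    · exact h
    · exact (Commute.inv_right_iff.1 h)
  obtain ⟨e, he⟩ : ∃ u : V, (u = v100 ∨ u = v100⁻¹) ∧ x * P.z * x⁻¹ = O.co u := by
    rcases hz with h | h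
    · exact ⟨v100, Or.inl rfl, by rw [h, O.co_100]⟩
    · exact ⟨v100⁻¹, Or.inr rfl, by rw [h, map_inv, O.co_100]⟩
  have hye : ∃ n : ℕ, x * P.y * x⁻¹ = P.y ^ n := by
    rcases hy with e | e
    · exact ⟨1, by rw [e, pow_one]⟩
    · exact ⟨2, by rw [e]; exact inv_eq_of_mul_eq_one_right (by rw [← pow_succ', O.y3])⟩
  obtain ⟨n, hn⟩ := hye
  have key : ∀ (k' : G) (v : V2), k' ∈ C.M → k' * P.y = P.y * k' →
      x * O.co (v0 v) * x⁻¹ = k' * (x * P.z * x⁻¹) * k'⁻¹ → Axis (app (O.wact x) v) := by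
    intro k' v hk' hky' h
    obtain ⟨a, b, i, hc⟩ := O.MY_co hk' hky'
    obtain ⟨d, hd⟩ := hc e
    rw [he.2, hd] at h
    have h2 : x * O.wv v * x⁻¹ = O.co (act3 a b i e) * P.y ^ (d + n * (v.1.val + v.2.val)) := by
      rw [O.wv_eq, show x * (O.co (v0 v) * P.y ^ (v.1.val + v.2.val)) * x⁻¹ =
        (x * O.co (v0 v) * x⁻¹) * (x * P.y ^ (v.1.val + v.2.val) * x⁻¹) by group, ← conj_pow, hn, ← pow_mul, h,
        mul_assoc, ← pow_add]
    rw [O.wact_spec hx, O.wv_eq] at h2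
    exact act_axis a b i e he.1 _ (O.co_inj_mod h2).symm
  refine ⟨?_, ?_⟩
  · rw [← (app_facts.2.2.2 (O.wact x)).1]
    refine key k (1, 0) hkM hky ?_
    rw [← sgB_v0.2.2.2.2.1, ← O.s_co, O.co_100, hk]; group
  · rw [← (app_facts.2.2.2 (O.wact x)).2]
    refine key (k * k) (0, 1) (mul_mem hkM hkM) ((show Commute k P.y from hky).mul_left hky).eq ?_
    rw [← sgB_v0.2.2.2.2.2.1, ← O.s_co, ← O.s_co, O.co_100, hk]; group

theorem g_refl : O.wact P.g = refl2 ∨ O.wact P.g = refl2' := by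
  have hgy : P.g * P.y = P.y * P.g := mul_inv_eq_iff_eq_mul.1 P.g_y
  obtain ⟨a, ha⟩ : ∃ a : Fin 2, g6 = t6 ^ (a : ℕ) * (O.σ * t6 * O.σ⁻¹) := by
    rcases O.σ_t with h | h
    · exact ⟨0, by rw [h]; simp⟩
    · refine ⟨1, ?_⟩
      rw [h]
      obtain ⟨-, -, -, -, -, -, htt, -⟩ := six_basic
      simp [← mul_assoc, htt]
  set x := C.t ^ (a : ℕ) * (O.s * C.t * O.s⁻¹) with hx
  have hxM : x ∈ C.M := mul_mem (pow_mem P.t_M _) (mul_mem (mul_mem O.s_M P.t_M) (inv_mem O.s_M))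
  have hj : x⁻¹ * P.g ∈ C.J := by
    set T : C.M := ⟨C.t, P.t_M⟩
    set S' : C.M := ⟨O.s, O.s_M⟩
    have := (P.psi_ker ((T ^ (a : ℕ) * (S' * T * S'⁻¹))⁻¹ * ⟨P.g, P.g_mem⟩)).1 (by
      rw [map_mul, map_inv, map_mul, map_pow, map_mul, map_mul, map_inv, P.psi_t, P.psi_g,
        show P.psi S' = O.σ from rfl, ← ha, inv_mul_cancel])
    simpa [hx, T, S'] using this
  have hy : C.t * P.y * C.t⁻¹ = P.y := by rw [← P.y_t, mul_inv_cancel_right]
  have hsy : O.s * P.y * O.s⁻¹ = P.y := mul_inv_eq_iff_eq_mul.2 O.s_y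
  have hsig : ∀ v : V, ∃ d : ℕ, O.s * C.t * O.s⁻¹ * O.co v * (O.s * C.t * O.s⁻¹)⁻¹ = O.co (sgB v) * P.y ^ d := by
    intro v
    have h1 : O.s⁻¹ * O.co v * O.s = O.co (rot3 (rot3 v)) := by
      rw [← O.s_co, ← O.s_co]
      have e : O.s⁻¹ = O.s * O.s := inv_eq_of_mul_eq_one_right (by rw [← mul_assoc, ← pow_two, ← pow_succ, O.s3])
      conv_lhs => rw [← inv_inv O.s, e]
      simp [mul_assoc]
    obtain ⟨d, hd⟩ := O.t_co (rot3 (rot3 v))
    refine ⟨d, ?_⟩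
    calc O.s * C.t * O.s⁻¹ * O.co v * (O.s * C.t * O.s⁻¹)⁻¹
        = O.s * (C.t * (O.s⁻¹ * O.co v * O.s) * C.t⁻¹) * O.s⁻¹ := by group
      _ = (O.s * O.co (sgA (rot3 (rot3 v))) * O.s⁻¹) * (O.s * P.y ^ d * O.s⁻¹) := by rw [h1, hd]; group
      _ = _ := by rw [O.s_co, ← conj_pow, hsy, act_basic.1]
  have hgy' : ∀ n : ℕ, P.g * P.y ^ n * P.g⁻¹ = P.y ^ n := fun n => by rw [← conj_pow, P.g_y]
  have hconj : ∀ v : V, P.g * O.co v * P.g⁻¹ = x * O.co v * x⁻¹ := fun v => by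
    calc P.g * O.co v * P.g⁻¹ = x * ((x⁻¹ * P.g) * O.co v * (x⁻¹ * P.g)⁻¹) * x⁻¹ := by group
      _ = _ := by rw [C.J_comm _ hj _ (O.co_J v), mul_inv_cancel_right]
  have main : ∀ (F : V → V), (∀ v, ∃ d : ℕ, x * O.co v * x⁻¹ = O.co (F v) * P.y ^ d) → ∀ v u : V2,
      F (v0 v) = v0 u → app (O.wact P.g) v = u := by
    intro F hF v u hu
    obtain ⟨d, hd⟩ := hF (v0 v)
    have h := O.wact_spec P.g_NT v
    rw [O.wv_eq v, show P.g * (O.co (v0 v) * P.y ^ (v.1.val + v.2.val)) * P.g⁻¹ =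
      (P.g * O.co (v0 v) * P.g⁻¹) * (P.g * P.y ^ (v.1.val + v.2.val) * P.g⁻¹) by group, hgy', hconj, hd, hu,
      mul_assoc, ← pow_add, O.wv_eq] at h
    exact v0_inj _ _ (O.co_inj_mod h).symm
  rcases (by decide : ∀ a : Fin 2, a = 0 ∨ a = 1) a with rfl | rfl
  · have hF : ∀ v, ∃ d : ℕ, x * O.co v * x⁻¹ = O.co (sgB v) * P.y ^ d := fun v => by
      simpa [hx] using hsig v
    exact Or.inl (Prod.ext ((app_facts.2.2.2 _).1.symm.trans (main _ hF _ _ sgB_v0.1))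
      ((app_facts.2.2.2 _).2.symm.trans (main _ hF _ _ sgB_v0.2.1)))
  · have hF : ∀ v, ∃ d : ℕ, x * O.co v * x⁻¹ = O.co (sgA (sgB v)) * P.y ^ d := fun v => by
      obtain ⟨d, hd⟩ := hsig v
      obtain ⟨d', hd'⟩ := O.t_co (sgB v)
      refine ⟨d' + d, ?_⟩
      rw [hx, Fin.val_one, pow_one]
      calc C.t * (O.s * C.t * O.s⁻¹) * O.co v * (C.t * (O.s * C.t * O.s⁻¹))⁻¹
          = C.t * (O.s * C.t * O.s⁻¹ * O.co v * (O.s * C.t * O.s⁻¹)⁻¹) * C.t⁻¹ := by group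
        _ = (C.t * O.co (sgB v) * C.t⁻¹) * (C.t * P.y ^ d * C.t⁻¹) := by rw [hd]; group
        _ = _ := by rw [hd', ← conj_pow, hy, mul_assoc, ← pow_add]
    exact Or.inr (Prod.ext ((app_facts.2.2.2 _).1.symm.trans (main _ hF _ _ sgB_v0.2.2.1))
      ((app_facts.2.2.2 _).2.symm.trans (main _ hF _ _ sgB_v0.2.2.2.1)))

/-- The action of `e` is not a rotation. -/
theorem e_act : cmp (O.wact P.e) (O.wact P.e) = neg2 ∧ O.wact P.e ≠ rot2 ∧ O.wact P.e ≠ rot2' := by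
  have hee : cmp (O.wact P.e) (O.wact P.e) = neg2 := by rw [← O.wact_mul P.e_NT P.e_NT, P.e_sq, O.wact_t]
  obtain ⟨f, hfM, hft, hfz, hfw, hff⟩ := O.exists_f
  have hfN : f ∈ P.NT := P.mem_NT.2 ⟨C.M_norm hfM, hft⟩
  have hfy : f * P.y * f⁻¹ = P.y⁻¹ := by
    rw [y, show f * (P.z * P.w) * f⁻¹ = (f * P.z * f⁻¹) * (f * P.w * f⁻¹) by group, hfz, hfw, mul_inv_rev]
    exact ((show Commute P.z P.w from P.zw).inv_inv).eq
  have hφ2 : cmp (O.wact f) (O.wact f) = neg2 := by rw [← O.wact_mul hfN hfN, hff, O.wact_t]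
  have hφ := inD8_sq _ (O.axes hfN (Or.inr hfz) (Or.inr hfy)) hφ2
  refine ⟨hee, ?_⟩
  -- an element of order prime to three inverting `z` and fixing the inverted part and `w`
  have bad : ∀ h ∈ P.NT, h * P.z * h⁻¹ = P.z⁻¹ → h * P.w * h⁻¹ = P.w → O.wact h ≠ one2 := by
    intro h hh hz hw h1
    have hi := mul_mem (mul_mem (inv_mem P.g_NT) hh) P.g_NT
    have hgi : cmp (O.wact P.g⁻¹) (O.wact P.g) = one2 := by
      rw [← O.wact_mul (inv_mem P.g_NT) P.g_NT, inv_mul_cancel, O.wact_one]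
    have hwi : O.wact (P.g⁻¹ * h * P.g) = one2 := by
      refine O.wact_comm hi fun v => ?_
      refine mul_inv_eq_iff_eq_mul.1 ?_
      calc P.g⁻¹ * h * P.g * O.wv v * (P.g⁻¹ * h * P.g)⁻¹
          = P.g⁻¹ * (h * (P.g * O.wv v * P.g⁻¹) * h⁻¹) * P.g := by group
        _ = P.g⁻¹ * (P.g * O.wv v * P.g⁻¹) * P.g := by
            rw [O.wact_spec P.g_NT, O.wact_spec hh, h1, app_facts.1]
        _ = O.wv v := by group
    have hiz : (P.g⁻¹ * h * P.g) * P.z = P.z * (P.g⁻¹ * h * P.g) := mul_inv_eq_iff_eq_mul.1 (by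
      calc P.g⁻¹ * h * P.g * P.z * (P.g⁻¹ * h * P.g)⁻¹ = P.g⁻¹ * (h * (P.g * P.z * P.g⁻¹) * h⁻¹) * P.g := by group
        _ = P.g⁻¹ * P.w * P.g := by rw [P.gzg, hw]
        _ = P.z := P.ginv_w)
    have hiw : (P.g⁻¹ * h * P.g) * P.w * (P.g⁻¹ * h * P.g)⁻¹ = P.w⁻¹ := by
      calc P.g⁻¹ * h * P.g * P.w * (P.g⁻¹ * h * P.g)⁻¹ = P.g⁻¹ * (h * (P.g * P.w * P.g⁻¹) * h⁻¹) * P.g := by group
        _ = P.g⁻¹ * P.z⁻¹ * P.g := by rw [P.gwg, hz]
        _ = P.w⁻¹ := by rw [← P.ginv_z]; group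
    have h729 := orderOf_dvd_iff_pow_eq_one.1 (O.three_of_fix hi hiz hwi)
    have h2 := not_inv_of_odd (n := 729) (by decide) h729 hiw
    have h3 := P.w3
    rw [pow_succ, pow_two, h2, one_mul] at h3
    exact P.w_ne h3
  have hfi : ∀ u : G, f * u * f⁻¹ = u⁻¹ → f⁻¹ * u * f = u⁻¹ := fun u h => by
    have : f * u⁻¹ * f⁻¹ = u := by rw [show f * u⁻¹ * f⁻¹ = (f * u * f⁻¹)⁻¹ by group, h, inv_inv]
    calc f⁻¹ * u * f = f⁻¹ * (f * u⁻¹ * f⁻¹) * f := by rw [this]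
      _ = _ := by group
  have hti : ∀ u : G, u * C.t = C.t * u → C.t * u * C.t⁻¹ = u := fun u h => by rw [← h, mul_inv_cancel_right]
  have hez : P.e * P.z * P.e⁻¹ = P.z := by rw [P.e_z, mul_inv_cancel_right]
  have hez' : P.e * P.z⁻¹ * P.e⁻¹ = P.z⁻¹ := by
    rw [show P.e * P.z⁻¹ * P.e⁻¹ = (P.e * P.z * P.e⁻¹)⁻¹ by group, hez]
  have hew' : P.e * P.w⁻¹ * P.e⁻¹ = P.w := by
    rw [show P.e * P.w⁻¹ * P.e⁻¹ = (P.e * P.w * P.e⁻¹)⁻¹ by group, P.e_w, inv_inv]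
  have case1 : O.wact P.e ≠ O.wact f := by
    intro h
    refine bad (P.e * f⁻¹) (mul_mem P.e_NT (inv_mem hfN)) ?_ ?_ ?_
    · rw [show P.e * f⁻¹ * P.z * (P.e * f⁻¹)⁻¹ = P.e * (f⁻¹ * P.z * f) * P.e⁻¹ by group, hfi _ hfz, hez']
    · rw [show P.e * f⁻¹ * P.w * (P.e * f⁻¹)⁻¹ = P.e * (f⁻¹ * P.w * f) * P.e⁻¹ by group, hfi _ hfw, hew']
    · rw [O.wact_mul P.e_NT (inv_mem hfN), h, ← O.wact_mul hfN (inv_mem hfN), mul_inv_cancel, O.wact_one]
  have case2 : O.wact P.e ≠ cmp (O.wact f) neg2 := by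
    intro h
    have hft' : f * C.t ∈ P.NT := mul_mem hfN P.t_NT
    refine bad (P.e * (f * C.t)⁻¹) (mul_mem P.e_NT (inv_mem hft')) ?_ ?_ ?_
    · rw [show P.e * (f * C.t)⁻¹ * P.z * (P.e * (f * C.t)⁻¹)⁻¹ =
        P.e * (C.t⁻¹ * (f⁻¹ * P.z * f) * C.t) * P.e⁻¹ by group, hfi _ hfz,
        show C.t⁻¹ * P.z⁻¹ * C.t = C.t * P.z⁻¹ * C.t⁻¹ by rw [C.t_inv],
        hti _ ((show Commute P.z C.t from P.z_t).inv_left).eq, hez']
    · rw [show P.e * (f * C.t)⁻¹ * P.w * (P.e * (f * C.t)⁻¹)⁻¹ =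
        P.e * (C.t⁻¹ * (f⁻¹ * P.w * f) * C.t) * P.e⁻¹ by group, hfi _ hfw,
        show C.t⁻¹ * P.w⁻¹ * C.t = C.t * P.w⁻¹ * C.t⁻¹ by rw [C.t_inv],
        hti _ ((show Commute P.w C.t from P.w_t).inv_left).eq, hew']
    · rw [O.wact_mul P.e_NT (inv_mem hft'), h, ← O.wact_t, ← O.wact_mul hfN P.t_NT, ← O.wact_mul hft' (inv_mem hft'),
        mul_inv_cancel, O.wact_one]
  rcases hφ with h | h <;> rw [h] at case1 case2
  · rw [rot_facts.2.2.2.2.2.1] at case2; exact ⟨case1, case2⟩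
  · rw [rot_facts.2.2.2.2.2.2.1] at case2; exact ⟨case2, case1⟩

/-- The elements centralising `z`, `w` and the involution. -/
theorem kernel_two {x : G} (ht : x * C.t = C.t * x) (hz : x * P.z = P.z * x) (hw : x * P.w = P.w * x) :
    (∃ (i k : Fin 3) (a : Fin 2), x = P.z ^ (i : ℕ) * P.w ^ (k : ℕ) * C.t ^ (a : ℕ)) ∨
      O.wact x = rot2 ∨ O.wact x = rot2' := by
  obtain ⟨hee, hne⟩ := O.e_act
  have hNT := P.kernel_NT ht hz hw
  have hy : ∀ u : G, u * P.z = P.z * u → u * P.w = P.w * u → u * P.y * u⁻¹ = P.y := fun u h1 h2 =>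
    mul_inv_eq_iff_eq_mul.2 ((show Commute u P.z from h1).mul_right h2).eq
  have hr := O.axes hNT (Or.inl (mul_inv_eq_iff_eq_mul.2 hz)) (Or.inl (hy x hz hw))
  set v := P.e⁻¹ * (x * P.e * x⁻¹) with hv
  have hxN : x ∈ normalizer (C.Z : Set G) := C.norm_Z_of P.z_mem P.z_ne (by
    rw [hz, mul_inv_cancel_right]; exact P.z_mem)
  have hvL : v ∈ C.L := mul_mem (inv_mem P.e_mem) (C.normL x hxN _ P.e_mem)
  have hvw : v * P.w = P.w * v := mul_inv_eq_iff_eq_mul.1 (by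
    have h1 : P.e⁻¹ * P.w⁻¹ * P.e = P.w := by
      calc P.e⁻¹ * P.w⁻¹ * P.e = P.e⁻¹ * (P.e * P.w * P.e⁻¹) * P.e := by rw [P.e_w]
        _ = _ := by group
    rw [hv, show P.e⁻¹ * (x * P.e * x⁻¹) * P.w * (P.e⁻¹ * (x * P.e * x⁻¹))⁻¹ =
      P.e⁻¹ * (x * (P.e * (x⁻¹ * P.w * x) * P.e⁻¹) * x⁻¹) * P.e by group,
      show x⁻¹ * P.w * x = P.w by rw [mul_assoc, ← hw, inv_mul_cancel_left], P.e_w,
      (show Commute x P.w from hw).inv_right.eq, mul_inv_cancel_right, h1])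
  have hvNT : v ∈ P.NT := mul_mem (inv_mem P.e_NT) (mul_mem (mul_mem hNT P.e_NT) (inv_mem hNT))
  have hxe : cmp (O.wact x) (O.wact P.e) = cmp (O.wact P.e) (O.wact x) ∨
      cmp (O.wact x) (O.wact P.e) = cmp (cmp (O.wact P.e) neg2) (O.wact x) := by
    have e1 : x * P.e = P.e * v * x := by rw [hv]; group
    have h := congrArg O.wact e1
    rw [O.wact_mul hNT P.e_NT, O.wact_mul (mul_mem P.e_NT hvNT) hNT, O.wact_mul P.e_NT hvNT] at h
    obtain ⟨j, hj, e⟩ := P.cent_zw_L hvL hvw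
    have hvt := (P.mem_NT.1 hvNT).2
    have hjt : j * C.t = C.t * j := by
      rcases e with e | e <;> rw [e] at hvt
      · exact hvt
      · have := (show Commute (j * C.t) C.t from hvt).mul_left (Commute.refl C.t).inv_left
        rwa [mul_inv_cancel_right] at this
    have hone : ∀ m : M2, cmp m one2 = m ∧ cmp one2 m = m := by decide +kernel
    rcases e with e | e
    · left
      rw [h, e, O.wact_J ⟨hj, hjt⟩, (hone _).1]
    · right
      rw [h, e, O.wact_mul (P.D_NT ⟨hj, hjt⟩) P.t_NT, O.wact_J ⟨hj, hjt⟩, O.wact_t, (hone neg2).2]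
  -- the trivial part
  have triv : ∀ u : G, u ∈ P.NT → u * P.z = P.z * u → u * P.w = P.w * u → O.wact u = one2 →
      ∃ (i k : Fin 3), u = P.z ^ (i : ℕ) * P.w ^ (k : ℕ) := by
    intro u hu huz huw h1
    have h729 := O.three_of_fix hu huz h1
    have hut := (P.mem_NT.1 hu).2
    have huL : u ∈ C.L := C.three_L u (C.norm_Z_of P.z_mem P.z_ne (by
      rw [huz, mul_inv_cancel_right]; exact P.z_mem)) h729
    obtain ⟨j, hj, e⟩ := P.cent_zw_L huL huw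
    have hjt : j * C.t = C.t * j := by
      rcases e with rfl | rfl
      · exact hut
      · have := (show Commute (j * C.t) C.t from hut).mul_left (Commute.refl C.t).inv_left
        rwa [mul_inv_cancel_right] at this
    rcases e with rfl | e
    · exact P.D_cases hj hjt
    · exfalso
      rw [e, O.wact_mul (P.D_NT ⟨hj, hjt⟩) P.t_NT, O.wact_J ⟨hj, hjt⟩, O.wact_t] at h1
      revert h1
      decide +kernel
  rcases four_conj _ hee hne.1 hne.2 _ hr (det_of_inv _ (O.wact x⁻¹) (by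
    rw [← O.wact_mul hNT (inv_mem hNT), mul_inv_cancel, O.wact_one])) hxe with h | h | h | h
  · obtain ⟨i, k, rfl⟩ := triv x hNT hz hw h
    exact Or.inl ⟨i, k, 0, by simp⟩
  · obtain ⟨i, k, e⟩ := triv (x * C.t) (mul_mem hNT P.t_NT)
      ((show Commute x P.z from hz).mul_left (P.z_t.symm : Commute C.t P.z)).eq
      ((show Commute x P.w from hw).mul_left (P.w_t.symm : Commute C.t P.w)).eq
      (by rw [O.wact_mul hNT P.t_NT, h, O.wact_t, rot_facts.2.2.2.2.1])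
    exact Or.inl ⟨i, k, 1, by rw [Fin.val_one, pow_one, ← e, mul_assoc, C.tt, mul_one]⟩
  · exact Or.inr (Or.inl h)
  · exact Or.inr (Or.inr h)

end Conf.Pair.Point

end Cfsg.Agent.McLThree
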