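import Cfsg.Agent.Lib.McLThree.Nz
import Cfsg.Agent.Lib.McLThree.Wact
import Cfsg.Agent.Lib.S8Three.Model

/-!
When the centraliser of `Z` is larger than `L`, the normaliser of `Z` in the centraliser of the
involution is, modulo the involution, `S₃ × S₅`.
-/

set_option autoImplicit false
set_option maxRecDepth 20000
set_option maxHeartbeats 1000000
set_option synthInstance.maxSize 4000
set_option synthInstance.maxHeartbeats 400000
set_option linter.style.haveILetI false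
set_option linter.unusedSectionVars false

namespace Cfsg.Agent.McLThree

open Subgroup Equiv

theorem refl_inv : ∀ g s : M2, (g = refl2 ∨ g = refl2') → cmp g s = one2 → s = g := by decide +kernel

theorem five_facts : S8Three.c3 = c3s ∧ S8Three.z0 = (c3s, 1) ∧ S8Three.w0 = (1, S8Three.w5) := by
  decide +kernel

theorem cmp_one : ∀ m : M2, cmp m one2 = m ∧ cmp one2 m = m := by decide +kernel

namespace Conf.Pair

variable {G : Type*} [Group G] [Finite G] {C : Conf G} (P : C.Pair)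
include P

/-- The centraliser of `Z` in the centraliser of the involution. -/
def CZt (_ : C.Pair) : Subgroup G := C.CZ ⊓ centralizer ({C.t} : Set G)

theorem mem_CZt {x : G} : x ∈ P.CZt ↔ x * P.z = P.z * x ∧ x * C.t = C.t * x := by
  rw [CZt, mem_inf, mem_centralizer_singleton_iff, C.mem_CZ]
  refine and_congr_left fun _ => ⟨fun h => h _ P.z_mem, fun h ζ hζ => ?_⟩
  obtain ⟨i, rfl⟩ := P.Z_pow hζ
  exact ((show Commute x P.z from h).pow_right _).eq

theorem CL_le_CZt : P.CL ≤ P.CZt := fun _ hx => P.mem_CZt.2 ⟨P.CL_z hx, (P.mem_CL.1 hx).2⟩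

theorem CZt_le_NZ : P.CZt ≤ P.NZ := fun _ hx => P.mem_NZ.2
  ⟨C.norm_Z_of P.z_mem P.z_ne (by rw [(P.mem_CZt.1 hx).1, mul_inv_cancel_right]; exact P.z_mem),
    (P.mem_CZt.1 hx).2⟩

theorem NZ_split_two {n : G} (hn : n ∈ P.NZ) : n ∈ P.CZt ∨ n * P.e'⁻¹ ∈ P.CZt := by
  obtain ⟨hnN, hnt⟩ := P.mem_NZ.1 hn
  rcases C.Z_cases P.z_mem P.z_ne (C.conj_Z hnN P.z_mem) with h | h | h
  · exact absurd (conj_eq_one_iff.1 h) P.z_ne
  · exact Or.inl (P.mem_CZt.2 ⟨mul_inv_eq_iff_eq_mul.1 h, hnt⟩)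
  · refine Or.inr (P.mem_CZt.2 ⟨mul_inv_eq_iff_eq_mul.1 ?_,
      ((show Commute n C.t from hnt).mul_left (show Commute P.e' C.t from P.e'_t).inv_left).eq⟩)
    have h2 : P.e'⁻¹ * P.z * P.e' = P.z⁻¹ := by
      calc P.e'⁻¹ * P.z * P.e' = P.e'⁻¹ * (P.z⁻¹)⁻¹ * P.e' := by rw [inv_inv]
        _ = P.e'⁻¹ * (P.e' * P.z * P.e'⁻¹)⁻¹ * P.e' := by rw [P.e'_z]
        _ = P.z⁻¹ := by group
    calc n * P.e'⁻¹ * P.z * (n * P.e'⁻¹)⁻¹ = n * (P.e'⁻¹ * P.z * P.e') * n⁻¹ := by group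
      _ = (n * P.z * n⁻¹)⁻¹ := by rw [h2]; group
      _ = P.z := by rw [h, inv_inv]

theorem e'_notCZt : P.e' ∉ P.CZt := fun h => by
  have h2 := P.e'_z
  rw [(P.mem_CZt.1 h).1, mul_inv_cancel_right] at h2
  have h3 : P.z * P.z = 1 := by nth_rw 2 [h2]; exact mul_inv_cancel _
  have h4 := P.z3
  rw [pow_succ, pow_two, h3, one_mul] at h4
  exact P.z_ne h4

/-- An element of `C(Z)` outside `L` centralising the involution. -/
theorem exists_outer (hne : ¬ C.CZ ≤ C.L) : ∃ n ∈ P.CZt, n ∉ C.L := by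
  obtain ⟨x, hx, hxL⟩ := SetLike.not_le_iff_exists.1 hne
  have hxN := C.CZ_le_norm hx
  have hc : x * C.t * x⁻¹ ∈ C.L := C.normL x hxN _ C.t_mem
  have hc2 : (x * C.t * x⁻¹) * (x * C.t * x⁻¹) = 1 := by
    calc (x * C.t * x⁻¹) * (x * C.t * x⁻¹) = x * (C.t * C.t) * x⁻¹ := by group
      _ = 1 := by rw [C.tt]; group
  have hπ : C.pi ⟨_, hc⟩ = -1 := by
    refine invol25 _ (by rw [← map_mul, show (⟨_, hc⟩ : C.L) * ⟨_, hc⟩ = 1 from Subtype.ext hc2, map_one])
      fun h => C.t_notQ ?_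
    have := C.normQ x⁻¹ (inv_mem hxN) _ ((C.pi_ker _).1 h)
    rwa [show x⁻¹ * (x * C.t * x⁻¹) * x⁻¹⁻¹ = C.t by group] at this
  set q := C.t⁻¹ * (x * C.t * x⁻¹) with hq
  have hqQ : q ∈ C.Q := (C.pi_ker (⟨C.t, C.t_mem⟩⁻¹ * ⟨_, hc⟩)).1 (by
    rw [map_mul, map_inv, C.pi_t, hπ, inv_mul_cancel])
  have h3 : C.t * q⁻¹ = q * C.t := by
    have h4 : C.t * q * C.t = q⁻¹ := eq_inv_of_mul_eq_one_left (by
      rw [← hc2, hq, mul_inv_cancel_left]
      calc x * C.t * x⁻¹ * C.t * (C.t⁻¹ * (x * C.t * x⁻¹))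
          = x * C.t * x⁻¹ * (x * C.t * x⁻¹) := by group
        _ = _ := rfl)
    rw [← h4]
    calc C.t * (C.t * q * C.t) = (C.t * C.t) * (q * C.t) := by group
      _ = _ := by rw [C.tt, one_mul]
  refine ⟨q⁻¹ * x, P.mem_CZt.2 ⟨?_, ?_⟩, fun h => hxL ?_⟩
  · exact ((show Commute q P.z from (C.zq P.z_mem hqQ).symm).inv_left.mul_left
      (C.mem_CZ.1 hx _ P.z_mem)).eq
  · calc q⁻¹ * x * C.t = q⁻¹ * (x * C.t * x⁻¹) * x := by group
      _ = q⁻¹ * (C.t * q) * x := by rw [hq, mul_inv_cancel_left]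
      _ = q⁻¹ * (C.t * q⁻¹) * (q * q * x) := by group
      _ = C.t * (q * q * x) := by rw [h3]; group
      _ = C.t * (q⁻¹ * x) := by
          rw [show q * q = q⁻¹ from eq_inv_of_mul_eq_one_left (by
            rw [← C.exp_Q q hqQ, pow_succ, pow_two])]
  · have := mul_mem (C.QL hqQ) h
    rwa [mul_inv_cancel_left] at this

end Conf.Pair

namespace Conf.Pair.Point

variable {G : Type*} [Group G] [Finite G] {C : Conf G} {P : C.Pair} (O : P.Point)
include O

/-- The isomorphism of the normaliser of `Z` modulo the involution with `S₃ × S₅`. -/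
theorem exists_theta_two (hne : ¬ C.CZ ≤ C.L) :
    ∃ Θ : P.NZ →* S8Three.LL, Function.Surjective Θ ∧ (∀ x, Θ x = 1 ↔ (x : G) = 1 ∨ (x : G) = C.t) ∧
      Θ ⟨P.z, P.CL_le_NZ P.z_CL⟩ = S8Three.z0 ∧ Θ ⟨P.w, P.CL_le_NZ P.w_CL⟩ = S8Three.w0 ∧
      Perm.sign (Θ ⟨P.e', P.e'_NZ⟩).2 = -1 ∧ Perm.sign (Θ ⟨P.e, P.CL_le_NZ P.e_CL⟩).2 = 1 := by
  classical
  obtain ⟨ρ, hρs, hρk⟩ := exists_rho
  obtain ⟨τ, hτz⟩ := P.exists_tau
  set r : P.CL →* A5 := ρ.comp P.piL with hr
  have hrs : Function.Surjective r := hρs.comp P.piL_surj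
  -- elements of `C_L(t)` trivial in `A₅`
  have hrk : ∀ x : P.CL, r x = 1 → ∃ (i : Fin 3) (a : Fin 2), (x : G) = P.z ^ (i : ℕ) * C.t ^ (a : ℕ) := by
    intro x hx
    rcases (hρk _).1 hx with h | h
    · obtain ⟨i, hi⟩ := P.piL_ker h
      exact ⟨i, 0, by rw [hi]; simp⟩
    · have h' : P.piL (x * ⟨C.t, P.t_CL⟩) = 1 := by
        rw [map_mul, h, P.piL_apply ⟨C.t, P.t_CL⟩, C.pi_t, neg25.1]
      obtain ⟨i, hi⟩ := P.piL_ker h'
      refine ⟨i, 1, ?_⟩
      rw [← hi]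
      show (x : G) = (x : G) * C.t * C.t ^ 1
      rw [pow_one, mul_assoc, C.tt, mul_one]
  have hkr : ∀ (i : Fin 3) (a : Fin 2) (x : P.CL), (x : G) = P.z ^ (i : ℕ) * C.t ^ (a : ℕ) → r x = 1 := by
    intro i a x hx
    have e : x = (⟨P.z, P.z_CL⟩ : P.CL) ^ (i : ℕ) * (⟨C.t, P.t_CL⟩ : P.CL) ^ (a : ℕ) := Subtype.ext (by simp [hx])
    have h1 : r ⟨P.z, P.z_CL⟩ = 1 := (hρk _).2 (Or.inl ((C.pi_ker _).2 (C.Z_le_Q P.z_mem)))
    have h2 : r ⟨C.t, P.t_CL⟩ = 1 := (hρk _).2 (Or.inr (by rw [P.piL_apply ⟨C.t, P.t_CL⟩]; exact C.pi_t))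
    rw [e, map_mul, map_pow, map_pow, h1, h2, one_pow, one_pow, one_mul]
  -- conjugation
  let cj : P.NZ → (P.CL →* P.CL) := fun n =>
    { toFun := fun x => ⟨n * x * (n : G)⁻¹, P.CL_conj n.2 x.2⟩
      map_one' := Subtype.ext (by simp)
      map_mul' := fun x y => Subtype.ext (by simp [mul_assoc]) }
  have hcj : ∀ (n : P.NZ) (x : P.CL), ((cj n x : P.CL) : G) = n * x * (n : G)⁻¹ := fun _ _ => rfl
  have hrkn : ∀ (n : P.NZ) (x : P.CL), r x = 1 → r (cj n x) = 1 := by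
    intro n x hx
    obtain ⟨i, a, hia⟩ := hrk x hx
    obtain ⟨hnN, hnt⟩ := P.mem_NZ.1 n.2
    obtain ⟨k, hk⟩ := P.Z_pow (C.conj_Z hnN (pow_mem P.z_mem (i : ℕ)))
    refine hkr k a _ ?_
    rw [hcj, hia, ← hk]
    calc (n : G) * (P.z ^ (i : ℕ) * C.t ^ (a : ℕ)) * (n : G)⁻¹
        = (n : G) * P.z ^ (i : ℕ) * (C.t ^ (a : ℕ) * (n : G)⁻¹) := by group
      _ = _ := by rw [((show Commute (n : G) C.t from hnt).pow_right _).inv_left.eq.symm, ← mul_assoc]
  have hperm : ∀ n : P.NZ, ∃ s : Perm (Fin 5), ∀ x : P.CL,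
      (r (cj n x) : Perm (Fin 5)) = s * (r x : Perm (Fin 5)) * s⁻¹ := by
    intro n
    set α := r.liftOfSurjective hrs ⟨r.comp (cj n), fun x hx => hrkn n x hx⟩ with hα
    have hα' : ∀ x, α (r x) = r (cj n x) := fun x => r.liftOfRightInverse_comp_apply _ _ _ x
    have hsurj : Function.Surjective α := by
      intro a
      obtain ⟨x, rfl⟩ := hrs a
      refine ⟨r (cj n⁻¹ x), ?_⟩
      rw [hα']
      exact congrArg r (Subtype.ext (by
        rw [hcj, hcj, InvMemClass.coe_inv, inv_inv]; group))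
    obtain ⟨s, hs⟩ := exists_perm5 α (Finite.surjective_iff_bijective.1 hsurj)
    exact ⟨s, fun x => by rw [hs, hα']⟩
  choose s5 hs5 using hperm
  have huniq : ∀ (n : P.NZ) (s : Perm (Fin 5)), (∀ x : P.CL, (r (cj n x) : Perm (Fin 5)) = s * r x * s⁻¹) →
      s5 n = s := by
    intro n s h
    refine perm5_ext _ _ fun a => ?_
    obtain ⟨x, rfl⟩ := hrs a
    rw [← hs5, h]
  let R5 : P.NZ →* Perm (Fin 5) :=
    { toFun := s5
      map_one' := huniq 1 1 fun x => by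
        rw [one_mul, inv_one, mul_one]; exact congrArg _ (congrArg r (Subtype.ext (by simp [hcj])))
      map_mul' := fun m n => huniq _ _ fun x => by
        rw [show cj (m * n) x = cj m (cj n x) from Subtype.ext (by simp [hcj, mul_assoc]), hs5, hs5]
        group }
  have hR5 : ∀ n : P.NZ, R5 n = s5 n := fun _ => rfl
  have hCL5 : ∀ y : P.CL, R5 ⟨y, P.CL_le_NZ y.2⟩ = r y := by
    intro y
    refine huniq _ _ fun x => ?_
    rw [show cj ⟨y, P.CL_le_NZ y.2⟩ x = y * x * y⁻¹ from Subtype.ext (by simp [hcj]), map_mul, map_mul, map_inv]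
    rfl
  set E' : P.NZ := ⟨P.e', P.e'_NZ⟩ with hE'
  -- the sign of the element inverting `Z`
  have hE5 : Perm.sign (R5 E') = -1 := by
    rcases Int.units_eq_one_or (Perm.sign (R5 E')) with hsg | hsg
    swap
    · exact hsg
    exfalso
    obtain ⟨b, hb⟩ := hrs ⟨R5 E', Perm.mem_alternatingGroup.2 hsg⟩
    set W : P.CL := ⟨P.w, P.w_CL⟩
    have hw : cj E' W = W := Subtype.ext (by rw [hcj]; exact P.e'_w)
    have hsw := hs5 E' W
    rw [hw, ← hR5] at hsw
    obtain ⟨hw3, hw1⟩ := P.pi_w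
    have hrW : (r W : Perm (Fin 5)) ≠ 1 := fun h => by
      rcases (hρk _).1 (Subtype.ext h : r W = 1) with h1 | h1
      · exact hw1 h1
      · have h2 : C.pi ⟨P.w, C.SL (C.JS P.w_J)⟩ = -1 := h1
        rw [h2, pow_succ, pow_two, neg25.1, one_mul] at hw3
        exact neg25.2.1 hw3
    have hb2 : (R5 E') * (R5 E') = 1 := by
      rw [← map_mul, show E' * E' = ⟨C.t, P.CL_le_NZ P.t_CL⟩ from Subtype.ext P.e'_sq,
        hCL5 ⟨C.t, P.t_CL⟩]
      exact congrArg Subtype.val (hkr 0 1 ⟨C.t, P.t_CL⟩ (by simp))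
    have hs1 : R5 E' = 1 := by
      refine five_three_cent _ (Perm.mem_alternatingGroup.1 (r W).2) ?_ hrW _ hsg ?_ hb2
      · rw [← Subgroup.coe_mul, ← Subgroup.coe_mul, ← map_mul, ← map_mul,
          show W * W * W = 1 from Subtype.ext (by
            show P.w * P.w * P.w = 1
            rw [← pow_two, ← pow_succ, P.w3]), map_one]
        rfl
      · exact (mul_inv_eq_iff_eq_mul.1 hsw.symm)
    -- conjugation by `e'` is trivial modulo the centre
    have hd : ∀ x : P.CL, P.piL (cj E' x) * (P.piL x)⁻¹ = 1 ∨ P.piL (cj E' x) * (P.piL x)⁻¹ = -1 := by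
      intro x
      have h := hs5 E' x
      rw [← hR5, hs1, one_mul, inv_one, mul_one] at h
      refine (hρk _).1 ?_
      rw [map_mul, map_inv]
      exact mul_inv_eq_one.2 (Subtype.ext h)
    have hdz : ∀ x : P.CL, ∀ a : S25, Commute (P.piL (cj E' x) * (P.piL x)⁻¹) a := by
      intro x a
      rcases hd x with h | h <;> rw [h]
      · exact Commute.one_left a
      · exact neg_one_center.2 a
    let h0 : P.CL →* zpowers (-1 : S25) :=
      { toFun := fun x => ⟨P.piL (cj E' x) * (P.piL x)⁻¹, by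
          rcases hd x with h | h <;> rw [h]
          · exact one_mem _
          · exact mem_zpowers _⟩
        map_one' := Subtype.ext (by simp)
        map_mul' := fun x y => Subtype.ext (by
          show P.piL (cj E' (x * y)) * (P.piL (x * y))⁻¹ = _
          rw [map_mul, map_mul, map_mul, mul_inv_rev]
          show P.piL (cj E' x) * P.piL (cj E' y) * ((P.piL y)⁻¹ * (P.piL x)⁻¹) =
            P.piL (cj E' x) * (P.piL x)⁻¹ * (P.piL (cj E' y) * (P.piL y)⁻¹)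
          rw [show P.piL (cj E' x) * P.piL (cj E' y) * ((P.piL y)⁻¹ * (P.piL x)⁻¹) =
            P.piL (cj E' x) * ((P.piL (cj E' y) * (P.piL y)⁻¹) * (P.piL x)⁻¹) by group, (hdz y _).eq,
            ← mul_assoc]) }
    have hH : ¬ 5 ∣ Nat.card (zpowers (-1 : S25)) := by
      rw [Nat.card_zpowers]
      intro h5
      have h2 : orderOf (-1 : S25) ∣ 2 := orderOf_dvd_of_pow_eq_one (by rw [pow_two, neg25.1])
      have := Nat.le_of_dvd (by norm_num) (h5.trans h2)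
      omega
    have hker0 : P.piL.ker ≤ h0.ker := by
      intro x hx
      obtain ⟨i, hi⟩ := P.piL_ker hx
      refine Subtype.ext ?_
      show P.piL (cj E' x) * (P.piL x)⁻¹ = 1
      rw [MonoidHom.mem_ker.1 hx, inv_one, mul_one, P.piL_apply]
      exact (C.pi_ker _).2 (C.Z_le_Q (by
        show P.e' * (x : G) * P.e'⁻¹ ∈ C.Z
        rw [hi]
        exact C.conj_Z (P.mem_NZ.1 P.e'_NZ).1 (pow_mem P.z_mem _)))
    set l := P.piL.liftOfSurjective P.piL_surj ⟨h0, hker0⟩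
    have hl : ∀ x, h0 x = 1 := fun x => by
      rw [← show l (P.piL x) = h0 x from P.piL.liftOfRightInverse_comp_apply _ _ _ x]
      exact trivial25 hH l _
    set Ee : P.CL := ⟨P.e, P.e_CL⟩
    have he' : P.piL (cj E' Ee * Ee⁻¹) = 1 := by
      rw [map_mul, map_inv]; exact congrArg Subtype.val (hl Ee)
    obtain ⟨i, hi⟩ := P.piL_ker he'
    have e1 : P.e' * P.e = P.z ^ (i : ℕ) * P.e * P.e' := by
      have hi' : P.e' * P.e * P.e'⁻¹ * P.e⁻¹ = P.z ^ (i : ℕ) := hi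
      rw [← hi']; group
    have he'T : P.e' ∈ P.NT := P.mem_NT.2 ⟨P.e'_J, P.e'_t⟩
    have hzT : P.z ^ (i : ℕ) ∈ P.D := pow_mem P.z_D _
    have h := congrArg O.wact e1
    rw [O.wact_mul he'T P.e_NT, O.wact_mul (mul_mem (P.D_NT hzT) P.e_NT) he'T,
      O.wact_mul (P.D_NT hzT) P.e_NT, O.wact_J hzT, (cmp_one _).2,
      show O.wact P.e' = cmp (cmp (O.wact P.g) (O.wact P.e)) (O.wact P.g⁻¹) by
        rw [e', O.wact_mul (mul_mem P.g_NT P.e_NT) (inv_mem P.g_NT), O.wact_mul P.g_NT P.e_NT],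
      refl_inv (O.wact P.g) (O.wact P.g⁻¹) O.g_refl (by rw [← O.wact_mul P.g_NT (inv_mem P.g_NT), mul_inv_cancel, O.wact_one])] at h
    obtain ⟨h1, h2, h3⟩ := O.e_act
    exact (four_notD8 _ h1 h2 h3).2.2 _ O.g_refl h
  -- the kernel on the centraliser of `Z`
  have hK5 : ∀ n : P.NZ, (n : G) ∈ P.CZt → R5 n = 1 →
      ∃ (i : Fin 3) (a : Fin 2), (n : G) = P.z ^ (i : ℕ) * C.t ^ (a : ℕ) := by
    intro n hn hn5
    obtain ⟨hnz, hnt⟩ := P.mem_CZt.1 hn
    have hd : ∀ x : P.CL, P.piL (cj n x) * (P.piL x)⁻¹ = 1 ∨ P.piL (cj n x) * (P.piL x)⁻¹ = -1 := by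
      intro x
      have h := hs5 n x
      rw [← hR5, hn5, one_mul, inv_one, mul_one] at h
      refine (hρk _).1 ?_
      rw [map_mul, map_inv]
      exact mul_inv_eq_one.2 (Subtype.ext h)
    have hdz : ∀ x : P.CL, ∀ a : S25, Commute (P.piL (cj n x) * (P.piL x)⁻¹) a := by
      intro x a
      rcases hd x with h | h <;> rw [h]
      · exact Commute.one_left a
      · exact neg_one_center.2 a
    let h0 : P.CL →* zpowers (-1 : S25) :=
      { toFun := fun x => ⟨P.piL (cj n x) * (P.piL x)⁻¹, by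
          rcases hd x with h | h <;> rw [h]
          · exact one_mem _
          · exact mem_zpowers _⟩
        map_one' := Subtype.ext (by simp)
        map_mul' := fun x y => Subtype.ext (by
          show P.piL (cj n (x * y)) * (P.piL (x * y))⁻¹ = _
          rw [map_mul, map_mul, map_mul, mul_inv_rev]
          show P.piL (cj n x) * P.piL (cj n y) * ((P.piL y)⁻¹ * (P.piL x)⁻¹) =
            P.piL (cj n x) * (P.piL x)⁻¹ * (P.piL (cj n y) * (P.piL y)⁻¹)
          rw [show P.piL (cj n x) * P.piL (cj n y) * ((P.piL y)⁻¹ * (P.piL x)⁻¹) =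
            P.piL (cj n x) * ((P.piL (cj n y) * (P.piL y)⁻¹) * (P.piL x)⁻¹) by group, (hdz y _).eq,
            ← mul_assoc]) }
    have hH : ¬ 5 ∣ Nat.card (zpowers (-1 : S25)) := by
      rw [Nat.card_zpowers]
      intro h5
      have h2 : orderOf (-1 : S25) ∣ 2 := orderOf_dvd_of_pow_eq_one (by rw [pow_two, neg25.1])
      have := Nat.le_of_dvd (by norm_num) (h5.trans h2)
      omega
    have hker0 : P.piL.ker ≤ h0.ker := by
      intro x hx
      obtain ⟨i, hi⟩ := P.piL_ker hx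
      refine Subtype.ext ?_
      show P.piL (cj n x) * (P.piL x)⁻¹ = 1
      rw [MonoidHom.mem_ker.1 hx, inv_one, mul_one, P.piL_apply]
      exact (C.pi_ker _).2 (C.Z_le_Q (by
        show (n : G) * (x : G) * (n : G)⁻¹ ∈ C.Z
        rw [hi]
        exact C.conj_Z (P.mem_NZ.1 n.2).1 (pow_mem P.z_mem _)))
    set l := P.piL.liftOfSurjective P.piL_surj ⟨h0, hker0⟩
    have hl : ∀ x, h0 x = 1 := fun x => by
      rw [← show l (P.piL x) = h0 x from P.piL.liftOfRightInverse_comp_apply _ _ _ x]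
      exact trivial25 hH l _
    have hcj : ∀ x : P.CL, ∃ i : Fin 3, (n : G) * x * (n : G)⁻¹ * (x : G)⁻¹ = P.z ^ (i : ℕ) := fun x =>
      P.piL_ker (x := cj n x * x⁻¹) (by rw [map_mul, map_inv]; exact congrArg Subtype.val (hl x))
    have hnw : (n : G) * P.w = P.w * n := by
      obtain ⟨i, hi⟩ := hcj ⟨P.w, P.w_CL⟩
      have hi' : (n : G) * P.w * (n : G)⁻¹ = P.z ^ (i : ℕ) * P.w ^ ((1 : Fin 3) : ℕ) := by
        rw [Fin.val_one, pow_one, ← hi]; group
      rcases P.type_conj (g := (n : G) * P.g) (by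
        rw [show (n : G) * P.g * P.z * ((n : G) * P.g)⁻¹ = (n : G) * (P.g * P.z * P.g⁻¹) * (n : G)⁻¹ by group,
          P.gzg, hi']) with h | h
      · subst h
        simp at hi'
        exact mul_inv_eq_iff_eq_mul.1 hi'
      · exact absurd h (by decide)
    rcases O.kernel_two hnt hnz hnw with ⟨i, k, a, e⟩ | hrot
    · refine ⟨i, a, ?_⟩
      have hk : k = 0 := by
        by_contra hk
        set W : P.CL := ⟨P.w, P.w_CL⟩
        have hm : (⟨P.z, P.z_CL⟩ : P.CL) ^ (i : ℕ) * W ^ (k : ℕ) * (⟨C.t, P.t_CL⟩ : P.CL) ^ (a : ℕ) =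
            ⟨n, by rw [e]; exact mul_mem (mul_mem (pow_mem P.z_CL _) (pow_mem P.w_CL _)) (pow_mem P.t_CL _)⟩ :=
          Subtype.ext (by simp [e, W])
        have h : r W ^ (k : ℕ) = 1 := by
          have h1 : r ⟨P.z, P.z_CL⟩ = 1 := hkr 1 0 _ (by simp)
          have h2 : r ⟨C.t, P.t_CL⟩ = 1 := hkr 0 1 _ (by simp)
          have h3 := congrArg r hm
          rw [map_mul, map_mul, map_pow, map_pow, map_pow, h1, h2, one_pow, one_pow, one_mul, mul_one] at h3
          rw [h3]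
          refine Subtype.ext ?_
          rw [← hCL5]
          exact hn5
        have hW3 : W ^ 3 = 1 := Subtype.ext (by simpa [W] using P.w3)
        have hW : r W = 1 := by
          have h3 : r W ^ 3 = 1 := by rw [← map_pow, hW3, map_one]
          rcases (by decide : ∀ k : Fin 3, k = 0 ∨ k = 1 ∨ k = 2) k with rfl | rfl | rfl
          · exact absurd rfl hk
          · simpa using h
          · rw [pow_succ, show r W ^ 2 = 1 from h, one_mul] at h3; exact h3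
        obtain ⟨hw3, hw1⟩ := P.pi_w
        rcases (hρk _).1 hW with h1 | h1
        · exact hw1 h1
        · rw [show C.pi ⟨P.w, C.SL (C.JS P.w_J)⟩ = -1 from h1, pow_succ, pow_two, neg25.1, one_mul] at hw3
          exact neg25.2.1 hw3
      rw [e, hk]; simp
    · exfalso
      obtain ⟨i, hi⟩ := hcj ⟨P.e, P.e_CL⟩
      have e1 : (n : G) * P.e = P.z ^ (i : ℕ) * P.e * n := by
        have hi' : (n : G) * P.e * (n : G)⁻¹ * P.e⁻¹ = P.z ^ (i : ℕ) := hi
        rw [← hi']; group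
      have hnT := P.kernel_NT hnt hnz hnw
      have hzT : P.z ^ (i : ℕ) ∈ P.D := pow_mem P.z_D _
      have h := congrArg O.wact e1
      rw [O.wact_mul hnT P.e_NT, O.wact_mul (mul_mem (P.D_NT hzT) P.e_NT) hnT,
        O.wact_mul (P.D_NT hzT) P.e_NT, O.wact_J hzT, (cmp_one _).2] at h
      obtain ⟨h1, h2, h3⟩ := O.e_act
      obtain ⟨h4, h5, -⟩ := four_notD8 _ h1 h2 h3
      rcases hrot with h' | h' <;> rw [h'] at h
      · exact h4 h.symm
      · exact h5 h.symm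
  -- the sign on `C(Z)`
  have hodd : ∀ n : P.NZ, (n : G) ∈ P.CZt → (n : G) ∉ P.CL → Perm.sign (R5 n) = -1 := by
    intro n hn hnL
    rcases Int.units_eq_one_or (Perm.sign (R5 n)) with h | h
    swap
    · exact h
    exfalso
    obtain ⟨b, hb⟩ := hrs ⟨R5 n, Perm.mem_alternatingGroup.2 h⟩
    obtain ⟨i, a, hia⟩ := hK5 (n * ⟨b, P.CL_le_NZ b.2⟩⁻¹)
      (mul_mem hn (inv_mem (P.CL_le_CZt b.2))) (by rw [map_mul, map_inv, hCL5, hb, mul_inv_cancel])
    refine hnL ?_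
    have h2 : (n : G) = P.z ^ (i : ℕ) * C.t ^ (a : ℕ) * b := by rw [← hia]; simp
    rw [h2]
    exact mul_mem (mul_mem (pow_mem P.z_CL _) (pow_mem P.t_CL _)) b.2
  obtain ⟨n0, hn0, hn0L⟩ := P.exists_outer hne
  have hn0CL : n0 ∉ P.CL := fun h => hn0L (P.mem_CL.1 h).1
  set CLs := P.CL.subgroupOf P.CZt with hCLs
  have hidx : CLs.index = 2 := by
    rw [Subgroup.index_eq_two_iff]
    refine ⟨⟨n0, hn0⟩, fun b => ?_⟩
    have h0 := hodd ⟨n0, P.CZt_le_NZ hn0⟩ hn0 hn0CL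
    by_cases hb : (b : G) ∈ P.CL
    · refine Or.inr ⟨mem_subgroupOf.2 hb, fun h => hn0CL ?_⟩
      have := mul_mem (inv_mem hb) (mem_subgroupOf.1 h)
      simpa using this
    · refine Or.inl ⟨?_, fun h => hb (mem_subgroupOf.1 h)⟩
      refine mem_subgroupOf.2 ?_
      by_contra hbn
      have h1 := hodd ⟨_, P.CZt_le_NZ (mul_mem b.2 hn0)⟩ (mul_mem b.2 hn0) hbn
      rw [show (⟨_, P.CZt_le_NZ (mul_mem b.2 hn0)⟩ : P.NZ) =
        ⟨b, P.CZt_le_NZ b.2⟩ * ⟨n0, P.CZt_le_NZ hn0⟩ from rfl, map_mul, map_mul,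
        hodd ⟨b, P.CZt_le_NZ b.2⟩ b.2 hb, h0] at h1
      exact absurd h1 (by decide)
  -- the projection onto `Z`
  let incl : CLs →* P.CL := (subgroupOfEquivOfLe P.CL_le_CZt).toMonoidHom
  let τ2 : P.CZt →* Multiplicative (ZMod 3) := (MonoidHom.transfer (τ.comp incl))⁻¹
  set Zs : P.CZt := ⟨P.z, P.CL_le_CZt P.z_CL⟩ with hZs
  have hτ2z : τ2 Zs = Multiplicative.ofAdd 1 := by
    have key : ∀ (m : ℕ) (g₀ : P.CZt), g₀⁻¹ * Zs ^ m * g₀ ∈ CLs → g₀⁻¹ * Zs ^ m * g₀ = Zs ^ m := by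
      intro m g₀ _
      have h : Commute g₀ Zs := Subtype.ext (P.mem_CZt.1 g₀.2).1
      rw [mul_assoc, ← (h.pow_right m).eq, inv_mul_cancel_left]
    show (MonoidHom.transfer (τ.comp incl) Zs)⁻¹ = _
    rw [MonoidHom.transfer_eq_pow (τ.comp incl) Zs key]
    set X : CLs := ⟨Zs ^ CLs.index, _⟩ with hX
    have e : incl X = ⟨P.z, P.z_CL⟩ ^ 2 := Subtype.ext (by
      show (((Zs ^ CLs.index : P.CZt)) : G) = P.z ^ 2
      rw [hidx]; rfl)
    show (τ (incl X))⁻¹ = _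
    rw [e, map_pow, hτz]
    decide
  have hτ2sq : ∀ x : P.CZt, x * x = 1 → τ2 x = 1 := fun x hx => by
    have h2 : τ2 x * τ2 x = 1 := by rw [← map_mul, hx, map_one]
    exact (by decide : ∀ a : Multiplicative (ZMod 3), a * a = 1 → a = 1) _ h2
  -- conjugation on `C(Z)`
  have he'conj : ∀ x ∈ P.CZt, P.e' * x * P.e'⁻¹ ∈ P.CZt := by
    intro x hx
    obtain ⟨hxz, hxt⟩ := P.mem_CZt.1 hx
    refine P.mem_CZt.2 ⟨?_, (((show Commute P.e' C.t from P.e'_t).mul_left hxt).mul_left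
      (show Commute P.e' C.t from P.e'_t).inv_left).eq⟩
    have h : Commute (P.e' * x * P.e'⁻¹) (P.e' * P.z * P.e'⁻¹) :=
      Commute.map (show Commute x P.z from hxz) (MulAut.conj P.e').toMonoidHom
    rw [P.e'_z] at h
    exact (Commute.inv_right_iff.1 h).eq
  let cjt : P.CZt →* P.CZt :=
    { toFun := fun x => ⟨P.e' * x * P.e'⁻¹, he'conj x x.2⟩
      map_one' := Subtype.ext (by simp)
      map_mul' := fun x y => Subtype.ext (by simp [mul_assoc]) }
  have hτconj : ∀ x : P.CZt, τ2 (cjt x) = (τ2 x)⁻¹ := by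
    let h1 : P.CZt →* Multiplicative (ZMod 3) := (τ2.comp cjt) * τ2
    have hz1 : h1 Zs = 1 := by
      show τ2 (cjt Zs) * τ2 Zs = 1
      rw [show cjt Zs = Zs⁻¹ from Subtype.ext P.e'_z, map_inv, inv_mul_cancel]
    let h1L : P.CL →* Multiplicative (ZMod 3) := h1.comp (Subgroup.inclusion P.CL_le_CZt)
    have hk : P.piL.ker ≤ h1L.ker := by
      intro x hx
      obtain ⟨i, hi⟩ := P.piL_ker hx
      rw [MonoidHom.mem_ker]
      show h1 (Subgroup.inclusion P.CL_le_CZt x) = 1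
      rw [show Subgroup.inclusion P.CL_le_CZt x = Zs ^ (i : ℕ) from Subtype.ext (by simp [hi, hZs]), map_pow,
        hz1, one_pow]
    have hL : ∀ x : P.CL, h1L x = 1 := fun x => by
      rw [← show P.piL.liftOfSurjective P.piL_surj ⟨h1L, hk⟩ (P.piL x) = h1L x from
        P.piL.liftOfRightInverse_comp_apply _ _ _ x]
      exact trivial25 (by simp) _ _
    intro x
    have h2 : h1 x * h1 x = 1 := by
      rw [← map_mul]
      have hm : x * x ∈ CLs := Subgroup.mul_self_mem_of_index_two hidx x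
      exact hL ⟨_, mem_subgroupOf.1 hm⟩
    exact eq_inv_of_mul_eq_one_left ((by decide : ∀ a : Multiplicative (ZMod 3), a * a = 1 → a = 1) _ h2)
  let c : P.CZt →* Perm (Fin 3) :=
    { toFun := fun x => c3s ^ (Multiplicative.toAdd (τ2 x)).val
      map_one' := by simp
      map_mul' := fun x y => by rw [map_mul, toAdd_mul, pow_val_add three_facts.1] }
  have hsign_c : ∀ x, Perm.sign (c x) = 1 := fun x => by
    show Perm.sign (c3s ^ _) = 1
    rw [map_pow, three_facts.2.2.2.1, one_pow]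
  have hc_conj : ∀ x : P.CZt, c (cjt x) = fl3 * c x * fl3 := by
    intro x
    show c3s ^ (Multiplicative.toAdd (τ2 (cjt x))).val = fl3 * c3s ^ (Multiplicative.toAdd (τ2 x)).val * fl3
    rw [hτconj, toAdd_inv, pow_val_neg three_facts.1]
    exact (by decide +kernel : ∀ a : ZMod 3, (c3s ^ a.val)⁻¹ = fl3 * c3s ^ a.val * fl3) _
  let r3 : P.NZ → Perm (Fin 3) := fun n =>
    if h : (n : G) ∈ P.CZt then c ⟨n, h⟩
    else if h' : (n : G) * P.e'⁻¹ ∈ P.CZt then c ⟨_, h'⟩ * fl3 else 1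
  have r3_in : ∀ (n : P.NZ) (x : P.CZt), (n : G) = x → r3 n = c x := fun n x e => by
    have h : (n : G) ∈ P.CZt := e ▸ x.2
    simp only [r3, dif_pos h]
    exact congrArg c (Subtype.ext e)
  have r3_out : ∀ (n : P.NZ) (x : P.CZt), (n : G) = x * P.e' → r3 n = c x * fl3 := fun n x e => by
    have h : (n : G) ∉ P.CZt := fun h => P.e'_notCZt (by
      have := mul_mem (inv_mem x.2) h
      rwa [e, inv_mul_cancel_left] at this)
    have h' : (n : G) * P.e'⁻¹ ∈ P.CZt := by rw [e, mul_inv_cancel_right]; exact x.2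
    simp only [r3, dif_neg h, dif_pos h']
    exact congrArg (fun v => c v * fl3) (Subtype.ext (show (n : G) * P.e'⁻¹ = (x : G) by rw [e, mul_inv_cancel_right]))
  have hsplit : ∀ n : P.NZ, ∃ x : P.CZt, (n : G) = x ∨ (n : G) = x * P.e' := fun n => by
    rcases P.NZ_split_two n.2 with h | h
    · exact ⟨⟨n, h⟩, Or.inl rfl⟩
    · exact ⟨⟨_, h⟩, Or.inr (inv_mul_cancel_right _ _).symm⟩
  have hc2 : fl3 * fl3 = 1 := three_facts.2.1
  set Ts : P.CZt := ⟨C.t, P.CL_le_CZt P.t_CL⟩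
  have hct : c Ts = 1 := by
    show c3s ^ (Multiplicative.toAdd (τ2 Ts)).val = 1
    rw [hτ2sq Ts (Subtype.ext C.tt)]; rfl
  have hcz : c Zs = c3s := by
    show c3s ^ (Multiplicative.toAdd (τ2 Zs)).val = c3s
    rw [hτ2z]; exact pow_one _
  let R3 : P.NZ →* Perm (Fin 3) :=
    { toFun := r3
      map_one' := by rw [r3_in 1 1 rfl, map_one]
      map_mul' := fun m n => by
        obtain ⟨x, hx⟩ := hsplit m
        obtain ⟨y, hy⟩ := hsplit n
        have hy' : (cjt y : G) = P.e' * y * P.e'⁻¹ := rfl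
        rcases hx with hx | hx <;> rcases hy with hy | hy
        · rw [r3_in m x hx, r3_in n y hy, r3_in (m * n) (x * y) (by simp [hx, hy]), map_mul]
        · rw [r3_in m x hx, r3_out n y hy, r3_out (m * n) (x * y) (by simp [hx, hy, mul_assoc]), map_mul, mul_assoc]
        · rw [r3_out m x hx, r3_in n y hy, r3_out (m * n) (x * cjt y) (by
            simp [hx, hy, hy', mul_assoc]), map_mul, hc_conj]
          rw [mul_assoc _ _ fl3, mul_assoc (fl3 * c y), hc2, mul_one, mul_assoc]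
        · rw [r3_out m x hx, r3_out n y hy, r3_in (m * n) (x * cjt y * Ts) (by
            show (m : G) * (n : G) = (x : G) * (cjt y : G) * C.t
            rw [hx, hy, hy', ← P.e'_sq]; group), map_mul, map_mul, hc_conj, hct, mul_one]
          group }
  have hR3in : ∀ x : P.CZt, R3 ⟨x, P.CZt_le_NZ x.2⟩ = c x := fun x => r3_in _ x rfl
  have hR3E : R3 E' = fl3 := by
    show r3 E' = fl3
    rw [r3_out E' 1 (by simp [E']), map_one, one_mul]
  set W : P.CL := ⟨P.w, P.w_CL⟩ with hWdef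
  set Ws : P.CZt := ⟨P.w, P.CL_le_CZt P.w_CL⟩
  have hcw : c Ws = 1 := by
    show c3s ^ (Multiplicative.toAdd (τ2 Ws)).val = 1
    have h : τ2 Ws = (τ2 Ws)⁻¹ := by
      set Es : P.CZt := ⟨P.e, P.CL_le_CZt P.e_CL⟩
      conv_lhs => rw [show Ws = Es⁻¹ * Ws⁻¹ * Es from Subtype.ext (by
        show P.w = P.e⁻¹ * P.w⁻¹ * P.e
        rw [← P.e_w]; group)]
      rw [map_mul, map_mul, map_inv, map_inv, mul_comm (τ2 Es)⁻¹, inv_mul_cancel_right]
    rw [(by decide : ∀ a : Multiplicative (ZMod 3), a = a⁻¹ → a = 1) _ h]; rfl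
  obtain ⟨hw3', hw1'⟩ : (r W : Perm (Fin 5)) * r W * r W = 1 ∧ (r W : Perm (Fin 5)) ≠ 1 := by
    refine ⟨?_, fun h => ?_⟩
    · rw [← Subgroup.coe_mul, ← Subgroup.coe_mul, ← map_mul, ← map_mul,
        show W * W * W = 1 from Subtype.ext (by
          show P.w * P.w * P.w = 1
          rw [← pow_two, ← pow_succ, P.w3]), map_one]
      rfl
    · obtain ⟨hw3, hw1⟩ := P.pi_w
      rcases (hρk _).1 (Subtype.ext h : r W = 1) with h1 | h1
      · exact hw1 h1
      · rw [show C.pi ⟨P.w, C.SL (C.JS P.w_J)⟩ = -1 from h1, pow_succ, pow_two, neg25.1, one_mul] at hw3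
        exact neg25.2.1 hw3
  obtain ⟨p5, hp5⟩ := S8Three.five_three _ hw3' hw1'
  set Θ0 : P.NZ →* S8Three.LL := R3.prod R5 with hΘ0
  set κ := MulAut.conj ((1, p5) : S8Three.LL) with hκ
  set Θ : P.NZ →* S8Three.LL := κ.toMonoidHom.comp Θ0 with hΘ
  have hkerΘ : ∀ n : P.NZ, Θ0 n = 1 ↔ (n : G) = 1 ∨ (n : G) = C.t := by
    intro n
    constructor
    · intro h
      have h3 : R3 n = 1 := congrArg Prod.fst h
      have h5 : R5 n = 1 := congrArg Prod.snd h
      obtain ⟨x, hx⟩ := hsplit n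
      rcases hx with hx | hx
      · rw [show n = ⟨x, P.CZt_le_NZ x.2⟩ from Subtype.ext hx] at h3 h5
        obtain ⟨i, a, hia⟩ := hK5 _ x.2 h5
        rw [hR3in] at h3
        have hi : i = 0 := by
          rw [show x = Zs ^ (i : ℕ) * Ts ^ (a : ℕ) from Subtype.ext (by simpa [hZs, Ts] using hia), map_mul,
            map_pow, map_pow, hct, one_pow, mul_one, hcz] at h3
          exact three_facts.2.2.2.2.2 i h3
        rw [hx, show (x : G) = _ from hia, hi]
        fin_cases a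
        · left; simp
        · right; simp
      · exfalso
        rw [show n = ⟨x, P.CZt_le_NZ x.2⟩ * E' from Subtype.ext hx, map_mul, hR3in, hR3E] at h3
        have := congrArg Perm.sign h3
        rw [map_mul, hsign_c, three_facts.2.2.2.2.1, map_one] at this
        exact absurd this (by decide)
    · intro h
      refine Prod.ext ?_ ?_
      · rcases h with h | h
        · exact (r3_in n 1 h).trans (map_one c)
        · exact (r3_in n Ts h).trans hct
      · rcases h with h | h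
        · rw [show n = 1 from Subtype.ext h]; exact congrArg Prod.snd (map_one Θ0)
        · show R5 n = 1
          rw [show n = ⟨C.t, P.CL_le_NZ P.t_CL⟩ from Subtype.ext h, hCL5 ⟨C.t, P.t_CL⟩]
          exact congrArg Subtype.val (hkr 0 1 ⟨C.t, P.t_CL⟩ (by simp))
  have hsurj : Function.Surjective Θ0 := by
    have hz : Θ0 ⟨P.z, P.CL_le_NZ P.z_CL⟩ = (c3s, 1) := by
      refine Prod.ext ((hR3in Zs).trans hcz) ?_
      exact (hCL5 ⟨P.z, P.z_CL⟩).trans (congrArg Subtype.val (hkr 1 0 _ (by simp)))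
    have h5 : ∀ b : Perm (Fin 5), ∃ x : P.CZt, R5 ⟨x, P.CZt_le_NZ x.2⟩ = b := by
      intro b
      rcases Int.units_eq_one_or (Perm.sign b) with hb | hb
      · obtain ⟨y, hy⟩ := hrs ⟨b, Perm.mem_alternatingGroup.2 hb⟩
        exact ⟨⟨y, P.CL_le_CZt y.2⟩, by rw [hCL5 y, hy]⟩
      · have h0 := hodd ⟨n0, P.CZt_le_NZ hn0⟩ hn0 hn0CL
        obtain ⟨y, hy⟩ := hrs ⟨b * (R5 ⟨n0, P.CZt_le_NZ hn0⟩)⁻¹, Perm.mem_alternatingGroup.2 (by
          rw [map_mul, map_inv, hb, h0]; decide)⟩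
        refine ⟨⟨y * n0, mul_mem (P.CL_le_CZt y.2) hn0⟩, ?_⟩
        rw [show (⟨(y : G) * n0, _⟩ : P.NZ) = ⟨y, P.CL_le_NZ y.2⟩ * ⟨n0, P.CZt_le_NZ hn0⟩ from rfl, map_mul,
          hCL5 y, hy, inv_mul_cancel_right]
    have heven : ∀ (a : Perm (Fin 3)) (b : Perm (Fin 5)), Perm.sign a = 1 → ∃ n, Θ0 n = (a, b) := by
      intro a b ha
      obtain ⟨x, hx⟩ := h5 b
      have hs : Perm.sign (a * (c x)⁻¹) = 1 := by rw [map_mul, map_inv, ha, hsign_c]; rfl
      obtain ⟨k, hk⟩ : ∃ k : Fin 3, c3s ^ (k : ℕ) = a * (c x)⁻¹ :=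
        (by decide +kernel : ∀ p : Perm (Fin 3), Perm.sign p = 1 → ∃ k : Fin 3, c3s ^ (k : ℕ) = p) _ hs
      refine ⟨⟨P.z, P.CL_le_NZ P.z_CL⟩ ^ (k : ℕ) * ⟨x, P.CZt_le_NZ x.2⟩, ?_⟩
      rw [map_mul, map_pow, hz]
      refine Prod.ext ?_ ?_
      · show c3s ^ (k : ℕ) * R3 _ = a
        rw [hR3in, hk, inv_mul_cancel_right]
      · show (1 : Perm (Fin 5)) ^ (k : ℕ) * R5 _ = b
        rw [one_pow, one_mul, hx]
    rintro ⟨a, b⟩
    rcases Int.units_eq_one_or (Perm.sign a) with ha | ha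
    · exact heven a b ha
    · obtain ⟨n, hn⟩ := heven (a * fl3⁻¹) (b * (R5 E')⁻¹) (by
        rw [map_mul, map_inv, ha, three_facts.2.2.2.2.1]; rfl)
      refine ⟨n * E', ?_⟩
      rw [map_mul, hn]
      exact Prod.ext (by show a * fl3⁻¹ * R3 E' = a; rw [hR3E, inv_mul_cancel_right])
        (inv_mul_cancel_right b (R5 E'))
  refine ⟨Θ, κ.surjective.comp hsurj, fun x => ?_, ?_, ?_, ?_, ?_⟩
  · rw [hΘ, MonoidHom.comp_apply, MulEquiv.coe_toMonoidHom, MulEquiv.map_eq_one_iff]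
    exact hkerΘ x
  · show κ (R3 _, R5 _) = _
    rw [hR3in Zs, hcz, hCL5 ⟨P.z, P.z_CL⟩, hkr 1 0 ⟨P.z, P.z_CL⟩ (by simp), five_facts.2.1]
    simp [hκ]
  · show κ (R3 _, R5 _) = _
    rw [hR3in Ws, hcw, hCL5 W, five_facts.2.2, ← hp5]
    simp [hκ]
  · show Perm.sign (p5 * R5 E' * p5⁻¹) = -1
    rw [map_mul, map_mul, map_inv, hE5, mul_comm (Perm.sign p5), mul_inv_cancel_right]
  · show Perm.sign (p5 * R5 ⟨P.e, P.CL_le_NZ P.e_CL⟩ * p5⁻¹) = 1
    rw [map_mul, map_mul, map_inv, hCL5 ⟨P.e, P.e_CL⟩, Perm.mem_alternatingGroup.1 (r ⟨P.e, P.e_CL⟩).2, mul_one,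
      mul_inv_cancel]

end Conf.Pair.Point

end Cfsg.Agent.McLThree
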